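import Mathlib
import Cfsg.Agent.Lib.OutAut.ChevCentral

/-!
The quotient of the positive unipotent subgroup by the group of an up-closed set of roots, in
characteristic two, and the coordinates that survive in it.
-/

set_option autoImplicit false
set_option linter.unusedSectionVars false
set_option linter.unusedSimpArgs false

namespace CfsgLib.OutAut.InvCheck

open Cfsg.Lie CfsgLib.Chevalley

variable {D : ChevalleyDatum} {A : Aux} {F : Type*} [Field F] [CharP F 2]

/-- A set of roots absorbing the odd commutator terms with positive roots. -/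
def IsUp (D : ChevalleyDatum) (J : Set ℕ) : Prop :=
  ∀ y x, D.IsPosRoot y → D.IsPosRoot x → x ≠ y → x ∈ J →
    ∀ c ∈ D.commTerms y x, c.2.1 % 2 ≠ 0 → c.1 ∈ J

/-- The roots of `J` among the positive roots. -/
abbrev posPart (D : ChevalleyDatum) (J : Set ℕ) : Set ℕ := {r | D.IsPosRoot r ∧ r ∈ J}

theorem conj_formula (h : Full D A) {r s : ℕ} (hr : D.IsPosRoot r) (hs : D.IsPosRoot s)
    (hne : s ≠ r) (t u : F) :
    xG h.cert r t * xG h.cert s u * (xG h.cert r t)⁻¹ = xG h.cert s u *
      ((D.commTerms r s).map fun c =>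
        xG h.cert c.1 ((c.2.1 : F) * t ^ c.2.2.1 * u ^ c.2.2.2)).prod := by
  have hh := x_mul_x h.mem hr.1 hs.1 hne (h.toStd.ne_neg hr hs) (-t) u
  rw [wordMat_eq_prod h.cert] at hh
  simp only [ChevalleyDatum.commWord, List.map_map, neg_neg, Function.comp_def] at hh
  have h' : xG h.cert s u * xG h.cert r (-t) = xG h.cert r (-t) * xG h.cert s u *
      ((D.commTerms r s).map fun c =>
        xG h.cert c.1 ((c.2.1 : F) * t ^ c.2.2.1 * u ^ c.2.2.2)).prod :=
    Units.ext (by simpa using hh)
  rw [← xG_inv] at h'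
  rw [mul_assoc, h', ← mul_assoc, ← mul_assoc, mul_inv_cancel, one_mul]

theorem xG_even_coeff (h : Full D A) {c : ℤ} (hc : c % 2 = 0) (k : ℕ) (t u : F) :
    xG h.cert k ((c : F) * t * u) = 1 := by
  rw [(CharP.intCast_eq_zero_iff F 2 c).2 (by exact_mod_cast Int.dvd_of_emod_eq_zero hc),
    zero_mul, zero_mul, xG_zero]

theorem intCast_odd {c : ℤ} (hc : c % 2 ≠ 0) : (c : F) = 1 := by
  obtain ⟨k, rfl⟩ : Odd c := Int.odd_iff.2 (by omega)
  push_cast
  rw [CharTwo.two_eq_zero, zero_mul, zero_add]

theorem conj_mem (h : Full D A) {J : Set ℕ} (hJ : IsUp D J) {r : ℕ} (hr : D.IsPosRoot r) (t : F) :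
    ∀ v ∈ rootsU D F (posPart D J),
      xG h.cert r t * v * (xG h.cert r t)⁻¹ ∈ rootsU D F (posPart D J) := by
  refine rootsU_conj_le h.cert fun s hs u => ?_
  by_cases hne : s = r
  · subst hne
    rw [xG_mul, xG_inv, xG_mul, add_right_comm, add_neg_cancel, zero_add]
    exact xG_mem_rootsU h.cert hs u
  rw [conj_formula h hr hs.1 hne]
  refine mul_mem (xG_mem_rootsU h.cert hs u) (Subgroup.list_prod_mem _ fun x hx => ?_)
  obtain ⟨c, hc, rfl⟩ := List.mem_map.1 hx
  by_cases hp : c.2.1 % 2 = 0
  · rw [xG_even_coeff h hp]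
    exact one_mem _
  · exact xG_mem_rootsU (S := posPart D J) h.cert
      ⟨(h.toStd.lt_commTerms hr hs.1 hc).1, hJ r s hr hs.1 hne hs.2 c hc hp⟩ _

theorem conj_mem_posU (h : Full D A) {J : Set ℕ} (hJ : IsUp D J) {g : GL D.Idx F}
    (hg : g ∈ D.posUnipotent F) :
    ∀ v ∈ rootsU D F (posPart D J), g * v * g⁻¹ ∈ rootsU D F (posPart D J) := by
  rw [posUnipotent_eq] at hg
  induction hg using rootsU_induction h.cert with
  | h1 => intro v hv; simpa using hv
  | hx r hr t => exact conj_mem h hJ hr t
  | hmul a b _ _ ha hb =>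
    intro v hv
    rw [show a * b * v * (a * b)⁻¹ = a * (b * v * b⁻¹) * a⁻¹ by group]
    exact ha _ (hb _ hv)

/-- Multiplying by the group of `J` changes only coordinates in `J`. -/
theorem absorb_coords (h : Full D A) {J : Set ℕ} (hJ : IsUp D J) :
    ∀ {L : List ℕ}, L.Pairwise (· < ·) → IsClosedRoots D {r | r ∈ L} →
      ∀ (t : ℕ → F), ∀ m ∈ rootsU D F ({r | r ∈ L} ∩ J),
        ∃ t' : ℕ → F, prodU h.cert L t * m = prodU h.cert L t' ∧ ∀ r, r ∉ J → t' r = t r := by
  intro L
  induction L with
  | nil =>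
    intro _ _ t m hm
    refine ⟨t, ?_, fun _ _ => rfl⟩
    induction hm using rootsU_induction h.cert with
    | h1 => rw [mul_one]
    | hx r hr u => exact absurd hr.1 List.not_mem_nil
    | hmul a b _ _ ha hb => rw [← mul_assoc, ha, hb]
  | cons k L ih =>
    intro hs hc
    have hc' := hc.tail h.toStd hs
    have hs' := (List.pairwise_cons.1 hs).2
    have hkL : k ∉ L := fun hh => lt_irrefl k ((List.pairwise_cons.1 hs).1 k hh)
    have hkp : D.IsPosRoot k := hc.pos k (List.mem_cons_self ..)
    -- the part of `J` in the tail is normalised by the roots of the list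
    have hnorm : ∀ r, r ∈ k :: L → ∀ (u : F), ∀ v ∈ rootsU D F ({r | r ∈ L} ∩ J),
        xG h.cert r u * v * (xG h.cert r u)⁻¹ ∈ rootsU D F ({r | r ∈ L} ∩ J) := by
      intro r hr u
      refine rootsU_conj_le h.cert fun s hsL w => ?_
      by_cases hne : s = r
      · subst hne
        rw [xG_mul, xG_inv, xG_mul, add_right_comm, add_neg_cancel, zero_add]
        exact xG_mem_rootsU h.cert hsL w
      rw [conj_formula h (hc.pos r hr) (hc'.pos s hsL.1) hne]
      refine mul_mem (xG_mem_rootsU h.cert hsL w) (Subgroup.list_prod_mem _ fun x hx => ?_)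
      obtain ⟨c, hcm, rfl⟩ := List.mem_map.1 hx
      by_cases hp : c.2.1 % 2 = 0
      · rw [xG_even_coeff h hp]
        exact one_mem _
      · refine xG_mem_rootsU (S := {r | r ∈ L} ∩ J) h.cert ⟨?_, hJ r s (hc.pos r hr) (hc'.pos s hsL.1) hne hsL.2 c hcm hp⟩ _
        rw [tail_set_eq hs]
        refine ⟨hc.comm r hr s (List.mem_cons_of_mem _ hsL.1) hne c hcm, ?_⟩
        have h1 := (h.toStd.lt_commTerms (hc.pos r hr) (hc'.pos s hsL.1) hcm).2.2
        have h2 := (List.pairwise_cons.1 hs).1 s hsL.1
        show k + 1 ≤ c.1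
        omega
    have hconj : k ∈ J → ∀ (b : F) (t : ℕ → F), ∃ m ∈ rootsU D F ({r | r ∈ L} ∩ J),
        prodU h.cert L t * xG h.cert k b = xG h.cert k b * (prodU h.cert L t * m) := by
      intro hkJ b t
      suffices key : ∀ M : List ℕ, (∀ r ∈ M, r ∈ L) → ∃ m ∈ rootsU D F ({r | r ∈ L} ∩ J),
          prodU h.cert M t * xG h.cert k b = xG h.cert k b * (prodU h.cert M t * m) from key L fun _ hr => hr
      intro M hM
      induction M with
      | nil => exact ⟨1, one_mem _, by simp [prodU]⟩
      | cons r M ihM =>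
        obtain ⟨m, hm, e⟩ := ihM fun x hx => hM x (List.mem_cons_of_mem _ hx)
        have hrL := hM r (List.mem_cons_self ..)
        have hne : k ≠ r := fun hh => hkL (hh ▸ hrL)
        have hf := conj_formula (F := F) h (hc'.pos r hrL) hkp hne (t r) b
        set W := ((D.commTerms r k).map fun c =>
          xG h.cert c.1 ((c.2.1 : F) * t r ^ c.2.2.1 * b ^ c.2.2.2)).prod
        have hW : W ∈ rootsU D F ({r | r ∈ L} ∩ J) := by
          refine Subgroup.list_prod_mem _ fun x hx => ?_
          obtain ⟨c, hcm, rfl⟩ := List.mem_map.1 hx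
          by_cases hp : c.2.1 % 2 = 0
          · rw [xG_even_coeff h hp]
            exact one_mem _
          · refine xG_mem_rootsU (S := {r | r ∈ L} ∩ J) h.cert ⟨?_, hJ r k (hc'.pos r hrL) hkp hne hkJ c hcm hp⟩ _
            rw [tail_set_eq hs]
            refine ⟨hc.comm r (List.mem_cons_of_mem _ hrL) k (List.mem_cons_self ..) hne c hcm, ?_⟩
            exact Nat.succ_le_of_lt (h.toStd.lt_commTerms (hc'.pos r hrL) hkp hcm).2.2
        -- move the new terms to the right
        have hn : ∀ (P : List ℕ), (∀ x ∈ P, x ∈ L) → ∀ v ∈ rootsU D F ({r | r ∈ L} ∩ J),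
            (prodU h.cert P t)⁻¹ * v * prodU h.cert P t ∈ rootsU D F ({r | r ∈ L} ∩ J) := by
          intro P hP
          induction P with
          | nil => intro v hv; simpa [prodU] using hv
          | cons x P ihP =>
            intro v hv
            rw [prodU_cons, show (xG h.cert x (t x) * prodU h.cert P t)⁻¹ * v * (xG h.cert x (t x) * prodU h.cert P t) =
              (prodU h.cert P t)⁻¹ * (xG h.cert x (-t x) * v * (xG h.cert x (-t x))⁻¹) * prodU h.cert P t by
                rw [xG_inv, neg_neg, show xG h.cert x (-t x) = (xG h.cert x (t x))⁻¹ from (xG_inv _ _ _).symm]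
                group]
            exact ihP (fun y hy => hP y (List.mem_cons_of_mem _ hy)) _
              (hnorm x (List.mem_cons_of_mem _ (hP x (List.mem_cons_self ..))) _ v hv)
        refine ⟨(prodU h.cert M t)⁻¹ * ((xG h.cert r (t r))⁻¹ * W * xG h.cert r (t r)) * prodU h.cert M t * m, ?_, ?_⟩
        · refine mul_mem (hn M (fun x hx => hM x (List.mem_cons_of_mem _ hx)) _ ?_) hm
          have := hnorm r (List.mem_cons_of_mem _ hrL) (-t r) W hW
          rw [← xG_inv, inv_inv] at this
          exact this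
        · rw [prodU_cons, mul_assoc, e]
          calc xG h.cert r (t r) * (xG h.cert k b * (prodU h.cert M t * m))
              = (xG h.cert r (t r) * xG h.cert k b * (xG h.cert r (t r))⁻¹) * xG h.cert r (t r) * prodU h.cert M t * m := by group
            _ = xG h.cert k b * W * xG h.cert r (t r) * prodU h.cert M t * m := by rw [hf]
            _ = _ := by group
    intro t m hm
    induction hm using rootsU_induction h.cert generalizing t with
    | h1 => exact ⟨t, by rw [mul_one], fun _ _ => rfl⟩
    | hx r hr u =>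
      rcases List.mem_cons.1 hr.1 with hrk | hrL
      · subst hrk
        obtain ⟨m, hm, e⟩ := hconj hr.2 u t
        obtain ⟨t', e', ht'⟩ := ih hs' hc' t m hm
        refine ⟨Function.update t' r (t r + u), ?_, fun x hx => ?_⟩
        · rw [prodU_cons, mul_assoc, e, e', ← mul_assoc, xG_mul, prodU_cons, Function.update_self]
          congr 1
          refine congrArg List.prod (List.map_congr_left fun x hx => ?_)
          rw [Function.update_of_ne]
          rintro rfl
          exact hkL hx
        · rw [Function.update_of_ne (fun hh => hx (by rw [hh]; exact hr.2)), ht' x hx]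
      · obtain ⟨t', e', ht'⟩ := ih hs' hc' t _ (xG_mem_rootsU (S := {r | r ∈ L} ∩ J) h.cert ⟨hrL, hr.2⟩ u)
        refine ⟨Function.update t' k (t k), ?_, fun x hx => ?_⟩
        · rw [prodU_cons, mul_assoc, e', prodU_cons, Function.update_self]
          congr 1
          refine congrArg List.prod (List.map_congr_left fun x hx => ?_)
          rw [Function.update_of_ne]
          rintro rfl
          exact hkL hx
        · by_cases hxk : x = k
          · rw [hxk, Function.update_self]
          · rw [Function.update_of_ne hxk, ht' x hx]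
    | hmul a b _ _ iha ihb =>
      obtain ⟨t₁, e₁, h₁⟩ := iha t
      obtain ⟨t₂, e₂, h₂⟩ := ihb t₁
      exact ⟨t₂, by rw [← mul_assoc, e₁, e₂], fun x hx => (h₂ x hx).trans (h₁ x hx)⟩

/-- The group of `J` inside `U`. -/
def upSub (D : ChevalleyDatum) (F : Type*) [Field F] (J : Set ℕ) : Subgroup (D.posUnipotent F) :=
  (rootsU D F (posPart D J)).subgroupOf (D.posUnipotent F)

theorem upSub_normal (h : Full D A) {J : Set ℕ} (hJ : IsUp D J) : (upSub D F J).Normal :=
  ⟨fun v hv g => Subgroup.mem_subgroupOf.2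
    (conj_mem_posU h hJ g.2 _ (Subgroup.mem_subgroupOf.1 hv))⟩

section quot

variable (h : Full D A) {J : Set ℕ} [(upSub D F J).Normal]

/-- The image of a positive root element in the quotient. -/
noncomputable def gX (J : Set ℕ) [(upSub D F J).Normal] (r : ℕ) (t : F) :
    D.posUnipotent F ⧸ upSub D F J :=
  haveI : Decidable (D.IsPosRoot r) := Classical.dec _
  if hr : D.IsPosRoot r then
    QuotientGroup.mk' _ ⟨xG h.cert r t, xG_mem_rootsU (S := {r | D.IsPosRoot r}) h.cert hr t⟩
  else 1

theorem gX_pos {r : ℕ} (hr : D.IsPosRoot r) (t : F) :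
    gX h J r t = QuotientGroup.mk' (upSub D F J)
      ⟨xG h.cert r t, xG_mem_rootsU (S := {r | D.IsPosRoot r}) h.cert hr t⟩ := by
  simp only [gX, dif_pos hr]

theorem gX_add (r : ℕ) (t u : F) : gX h J r t * gX h J r u = gX h J r (t + u) := by
  by_cases hr : D.IsPosRoot r
  · rw [gX_pos h hr, gX_pos h hr, gX_pos h hr, ← map_mul]
    exact congrArg _ (Subtype.ext (xG_mul h.cert r t u))
  · simp [gX, hr]

theorem gX_zero (r : ℕ) : gX h J r (0 : F) = 1 := by
  by_cases hr : D.IsPosRoot r
  · rw [gX_pos h hr, ← map_one (QuotientGroup.mk' (upSub D F J))]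
    exact congrArg _ (Subtype.ext (xG_zero h.cert r))
  · simp [gX, hr]

theorem gX_sq (r : ℕ) (t : F) : gX h J r t * gX h J r t = 1 := by
  rw [gX_add, CharTwo.add_self_eq_zero, gX_zero]

theorem gX_inv (r : ℕ) (t : F) : (gX h J r t)⁻¹ = gX h J r t :=
  inv_eq_of_mul_eq_one_right (gX_sq h r t)

theorem gX_mem {r : ℕ} (hr : r ∈ J) (t : F) : gX h J r t = 1 := by
  by_cases hp : D.IsPosRoot r
  · rw [gX_pos h hp, QuotientGroup.mk'_apply, QuotientGroup.eq_one_iff]
    exact Subgroup.mem_subgroupOf.2 (xG_mem_rootsU (S := posPart D J) h.cert ⟨hp, hr⟩ t)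
  · simp [gX, hp]

theorem gX_conj {r s : ℕ} (hr : D.IsPosRoot r) (hs : D.IsPosRoot s) (hne : s ≠ r) (t u : F) :
    gX h J r t * gX h J s u * gX h J r t = gX h J s u *
      (((D.commTerms r s).filter fun c => decide (c.2.1 % 2 ≠ 0)).map fun c =>
        gX h J c.1 (t ^ c.2.2.1 * u ^ c.2.2.2)).prod := by
  conv_lhs => rw [← gX_inv h r t]
  rw [gX_inv h r t]
  have hmem : ∀ c ∈ D.commTerms r s, D.IsPosRoot c.1 := fun c hc => (h.toStd.lt_commTerms hr hs hc).1
  have key : ∀ (l : List (ℕ × ℤ × ℕ × ℕ)), (∀ c ∈ l, D.IsPosRoot c.1) →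
      ∃ hl : (l.map fun c => xG h.cert c.1 ((c.2.1 : F) * t ^ c.2.2.1 * u ^ c.2.2.2)).prod ∈ D.posUnipotent F,
        QuotientGroup.mk' (upSub D F J) ⟨_, hl⟩ =
          ((l.filter fun c => decide (c.2.1 % 2 ≠ 0)).map fun c =>
            gX h J c.1 (t ^ c.2.2.1 * u ^ c.2.2.2)).prod := by
    intro l hl
    induction l with
    | nil => exact ⟨one_mem _, map_one _⟩
    | cons c l ih =>
      obtain ⟨hl', e⟩ := ih fun x hx => hl x (List.mem_cons_of_mem _ hx)
      have hc := hl c (List.mem_cons_self ..)
      refine ⟨?_, ?_⟩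
      · rw [List.map_cons, List.prod_cons]
        exact mul_mem (xG_mem_rootsU (S := {r | D.IsPosRoot r}) h.cert hc _) hl'
      · by_cases hp : c.2.1 % 2 = 0
        · rw [List.filter_cons_of_neg (by simp [hp]), ← e]
          refine congrArg _ (Subtype.ext ?_)
          simp only [List.map_cons, List.prod_cons, xG_even_coeff h hp, one_mul]
        · conv_rhs => rw [List.filter_cons_of_pos (by simp [hp]), List.map_cons, List.prod_cons, ← e,
            gX_pos h hc, ← map_mul]
          refine congrArg _ (Subtype.ext ?_)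
          simp only [List.map_cons, List.prod_cons, intCast_odd hp, one_mul, Subgroup.coe_mul]
  obtain ⟨hl, e⟩ := key _ hmem
  rw [← e, gX_pos h hr, gX_pos h hs, ← map_mul, ← map_mul, ← map_mul]
  refine congrArg _ (Subtype.ext ?_)
  show xG h.cert r t * xG h.cert s u * xG h.cert r t = _
  rw [show xG h.cert r t * xG h.cert s u * xG h.cert r t =
    xG h.cert r t * xG h.cert s u * (xG h.cert r t)⁻¹ by rw [xG_inv, CharTwo.neg_eq]]
  exact conj_formula h hr hs hne t u

theorem gX_commute {r s : ℕ} (hJout : r ≠ s → D.IsPosRoot r → D.IsPosRoot s →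
      ∀ c ∈ D.commTerms r s, c.2.1 % 2 ≠ 0 → c.1 ∈ J) (t u : F) :
    Commute (gX h J r t) (gX h J s u) := by
  by_cases hr : D.IsPosRoot r
  swap
  · simp [gX, hr, Commute.one_left]
  by_cases hs : D.IsPosRoot s
  swap
  · simp [gX, hs, Commute.one_right]
  by_cases hne : r = s
  · subst hne
    show _ = _
    rw [gX_add, gX_add, add_comm]
  have e := gX_conj h hr hs (Ne.symm hne) t u (J := J)
  rw [List.prod_eq_one (fun x hx => ?_), mul_one] at e
  · show gX h J r t * gX h J s u = gX h J s u * gX h J r t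
    calc gX h J r t * gX h J s u = gX h J r t * gX h J s u * gX h J r t * gX h J r t := by
          rw [mul_assoc _ (gX h J r t) (gX h J r t), gX_sq, mul_one]
      _ = _ := by rw [e]
  · obtain ⟨c, hc, rfl⟩ := List.mem_map.1 hx
    obtain ⟨hc1, hc2⟩ := List.mem_filter.1 hc
    exact gX_mem h (hJout hne hr hs c hc1 (by simpa using hc2)) _

theorem prodU_mk (t : ℕ → F) :
    ∃ hm : prodU h.cert D.posRoots t ∈ D.posUnipotent F,
      QuotientGroup.mk' (upSub D F J) ⟨_, hm⟩ = (D.posRoots.map fun r => gX h J r (t r)).prod := by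
  have hall : ∀ r ∈ D.posRoots, D.IsPosRoot r := fun r hr => (Set.ext_iff.1 h.toStd.posList.2.1 r).1 hr
  revert hall
  generalize D.posRoots = L
  intro hall
  induction L with
  | nil => exact ⟨by simp [prodU], map_one _⟩
  | cons k L ih =>
    obtain ⟨hm, e⟩ := ih fun r hr => hall r (List.mem_cons_of_mem _ hr)
    have hk := hall k (List.mem_cons_self ..)
    refine ⟨?_, ?_⟩
    · rw [prodU_cons]
      exact mul_mem (xG_mem_rootsU (S := {r | D.IsPosRoot r}) h.cert hk _) hm
    · rw [List.map_cons, List.prod_cons, ← e, gX_pos h hk, ← map_mul]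
      exact congrArg _ (Subtype.ext (prodU_cons h.cert k L t))

include h in
/-- Equal images have equal coordinates outside `J`. -/
theorem coords_eq (hJ : IsUp D J) {t t' : ℕ → F}
    (e : (D.posRoots.map fun r => gX h J r (t r)).prod = (D.posRoots.map fun r => gX h J r (t' r)).prod)
    {r : ℕ} (hr : D.IsPosRoot r) (hrJ : r ∉ J) : t r = t' r := by
  obtain ⟨hs, hset, -⟩ := h.toStd.posList
  obtain ⟨hm, e1⟩ := prodU_mk h (J := J) t
  obtain ⟨hm', e2⟩ := prodU_mk h (J := J) t'
  rw [← e1, ← e2] at e
  have h1 := QuotientGroup.eq.1 e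
  have h2 : (prodU h.cert D.posRoots t)⁻¹ * prodU h.cert D.posRoots t' ∈
      rootsU D F ({r | r ∈ D.posRoots} ∩ J) := by
    rw [hset]
    exact Subgroup.mem_subgroupOf.1 h1
  have hc : IsClosedRoots D {r | r ∈ D.posRoots} := hset ▸ h.toStd.isClosed_pos
  obtain ⟨t'', e3, h3⟩ := absorb_coords h hJ hs hc t _ h2
  rw [mul_inv_cancel_left] at e3
  rw [← h3 r hrJ]
  exact (prodU_injOn h.toStd hs hc e3 r ((Set.ext_iff.1 hset r).2 hr)).symm

end quot

section group

variable {G α : Type*} [Group G] [DecidableEq α]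

theorem prod_mul_at {f : α → G} {z : G} {b : α} :
    ∀ {L : List α}, L.Nodup → b ∈ L → (∀ x ∈ L, Commute z (f x)) →
      (L.map (Function.update f b (f b * z))).prod = (L.map f).prod * z := by
  intro L
  induction L with
  | nil => intro _ hb; exact absurd hb List.not_mem_nil
  | cons k L ih =>
    intro hnd hb hz
    obtain ⟨hk, hnd'⟩ := List.nodup_cons.1 hnd
    have hcp : Commute z (L.map f).prod := Commute.list_prod_right _ _ fun x hx => by
      obtain ⟨y, hy, rfl⟩ := List.mem_map.1 hx
      exact hz y (List.mem_cons_of_mem _ hy)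
    rw [List.map_cons, List.map_cons, List.prod_cons, List.prod_cons]
    rcases List.mem_cons.1 hb with rfl | hb'
    · rw [Function.update_self, List.map_congr_left (g := f) fun x hx =>
        Function.update_of_ne (by rintro rfl; exact hk hx) _ _, mul_assoc, hcp.eq, mul_assoc]
    · rw [Function.update_of_ne (by rintro rfl; exact hk hb'),
        ih hnd' hb' fun x hx => hz x (List.mem_cons_of_mem _ hx), mul_assoc]

/-- A product of commuting elements of order two, except for one pair. -/
theorem prod_sq_pair {f : α → G} {z : G} {a b : α} (hab : a ≠ b) (hsq : ∀ x, f x * f x = 1)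
    (hz : f a * f b * f a * f b = z) :
    ∀ {L : List α}, L.Nodup → a ∈ L → b ∈ L →
      (∀ x ∈ L, ∀ y ∈ L, ¬(x = a ∧ y = b) → ¬(x = b ∧ y = a) → Commute (f x) (f y)) →
      (∀ x ∈ L, Commute z (f x)) →
      (L.map f).prod * (L.map f).prod = z := by
  intro L hnd ha hb hc hcz
  have hodd : ∀ M : List α, (∀ x ∈ M, x ∈ L ∧ x ≠ a ∧ x ≠ b) →
      (M.map f).prod * (M.map f).prod = 1 := by
    intro M hM
    induction M with
    | nil => simp
    | cons k M ih =>
      have hk := hM k (List.mem_cons_self ..)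
      have hkM : Commute (f k) (M.map f).prod := Commute.list_prod_right _ _ fun x hx => by
        obtain ⟨y, hy, rfl⟩ := List.mem_map.1 hx
        exact hc k hk.1 y (hM y (List.mem_cons_of_mem _ hy)).1 (fun e => hk.2.1 e.1)
          (fun e => hk.2.2 e.1)
      rw [List.map_cons, List.prod_cons,
        show f k * (M.map f).prod * (f k * (M.map f).prod) =
          f k * ((M.map f).prod * f k) * (M.map f).prod by group, ← hkM.eq,
        ← mul_assoc (f k), hsq, one_mul]
      exact ih fun x hx => hM x (List.mem_cons_of_mem _ hx)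
  have hsplit : ∀ M : List α, (∀ x ∈ M, x ∈ L) → (M.map f).prod =
      ((M.filter fun x => decide (x ≠ a ∧ x ≠ b)).map f).prod *
        ((M.filter fun x => decide (x = a ∨ x = b)).map f).prod := by
    intro M hM
    induction M with
    | nil => simp
    | cons k M ih =>
      rw [List.map_cons, List.prod_cons, ih fun x hx => hM x (List.mem_cons_of_mem _ hx)]
      by_cases hk : k = a ∨ k = b
      · rw [List.filter_cons_of_neg (by simpa using fun h1 => hk.resolve_left h1),
          List.filter_cons_of_pos (by simpa using hk), List.map_cons, List.prod_cons,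
          ← mul_assoc, ← mul_assoc]
        refine congrArg (· * _) (Commute.list_prod_right _ _ fun x hx => ?_).eq
        obtain ⟨y, hy, rfl⟩ := List.mem_map.1 hx
        obtain ⟨hyM, hy'⟩ := List.mem_filter.1 hy
        simp only [decide_eq_true_eq] at hy'
        exact hc k (hM k (List.mem_cons_self ..)) y (hM y (List.mem_cons_of_mem _ hyM))
          (fun e => hy'.2 e.2) (fun e => hy'.1 e.2)
      · rw [List.filter_cons_of_pos (by simpa [not_or] using hk),
          List.filter_cons_of_neg (by simpa using hk), List.map_cons, List.prod_cons, mul_assoc]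
  rw [hsplit L fun _ h => h]
  set R := ((L.filter fun x => decide (x ≠ a ∧ x ≠ b)).map f).prod
  set S := ((L.filter fun x => decide (x = a ∨ x = b)).map f).prod with hS
  have hRS : Commute R S := by
    refine Commute.list_prod_left _ _ fun x hx => Commute.list_prod_right _ _ fun y hy => ?_
    obtain ⟨p, hp, rfl⟩ := List.mem_map.1 hx
    obtain ⟨q, hq, rfl⟩ := List.mem_map.1 hy
    obtain ⟨hp1, hp2⟩ := List.mem_filter.1 hp
    obtain ⟨hq1, -⟩ := List.mem_filter.1 hq
    simp only [decide_eq_true_eq] at hp2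
    exact hc p hp1 q hq1 (fun e => hp2.1 e.1) (fun e => hp2.2 e.1)
  have hR : R * R = 1 := hodd _ fun x hx => by
    obtain ⟨h1, h2⟩ := List.mem_filter.1 hx
    simp only [decide_eq_true_eq] at h2
    exact ⟨h1, h2⟩
  rw [show R * S * (R * S) = R * (S * R) * S by group, ← hRS.eq, ← mul_assoc R, hR, one_mul]
  have hperm : (L.filter fun x => decide (x = a ∨ x = b)).Perm [a, b] := by
    refine (List.perm_ext_iff_of_nodup (hnd.filter _) (by simp [hab])).2 fun x => ?_
    simp only [List.mem_filter, decide_eq_true_eq, List.mem_cons, List.not_mem_nil, or_false]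
    exact ⟨fun h => h.2, fun h => ⟨by rcases h with rfl | rfl <;> assumption, h⟩⟩
  have hinv : ∀ x, (f x)⁻¹ = f x := fun x => inv_eq_of_mul_eq_one_right (hsq x)
  obtain ⟨p, q, e'⟩ := List.length_eq_two.1 (hperm.length_eq.trans rfl)
  have hpq : (p = a ∧ q = b) ∨ (p = b ∧ q = a) := by
    have hp := hperm.mem_iff.1 (e' ▸ List.mem_cons_self .. : p ∈ L.filter _)
    have hq := hperm.mem_iff.1 (e' ▸ List.mem_cons_of_mem _ (List.mem_cons_self ..) : q ∈ L.filter _)
    have hne : p ≠ q := by
      have := hnd.filter (fun x => decide (x = a ∨ x = b))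
      rw [e'] at this
      simpa using this
    simp only [List.mem_cons, List.not_mem_nil, or_false] at hp hq
    rcases hp with hp | hp <;> rcases hq with hq | hq
    · exact absurd (hp.trans hq.symm) hne
    · exact Or.inl ⟨hp, hq⟩
    · exact Or.inr ⟨hp, hq⟩
    · exact absurd (hp.trans hq.symm) hne
  rcases hpq with ⟨e1, e2⟩ | ⟨e1, e2⟩
  · rw [hS, e', e1, e2]
    simpa [mul_assoc] using hz
  · rw [hS, e', e1, e2]
    have h1 : f b * f a * f b * f a = f b * z * (f b)⁻¹ := by
      rw [← hz, hinv b]
      calc f b * f a * f b * f a = f b * f a * f b * f a * (f b * f b) := by rw [hsq, mul_one]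
        _ = _ := by group
    rw [← (hcz b hb).eq, mul_inv_cancel_right] at h1
    simpa [mul_assoc] using h1

end group

end CfsgLib.OutAut.InvCheck
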