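import Mathlib
import Cfsg.Agent.Lib.OutAut.InvCheck.Quot

/-!
Tables of the odd commutator terms, with up-closures encoded as bit masks.
-/

set_option autoImplicit false
set_option linter.unusedSectionVars false
set_option linter.unusedSimpArgs false

namespace CfsgLib.OutAut.InvCheck

open Cfsg.Lie CfsgLib.Chevalley

/-- Membership in a bit mask. -/
abbrev Mem (m r : ℕ) : Prop := m.testBit r = true

/-- Remove a bit. -/
def del (m r : ℕ) : ℕ := m ^^^ (m &&& 2 ^ r)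

/-- Remove a mask. -/
def sub' (m n : ℕ) : ℕ := m ^^^ (m &&& n)

theorem mem_sub' {m n r : ℕ} : Mem (sub' m n) r ↔ Mem m r ∧ ¬ Mem n r := by
  simp only [Mem, sub', Nat.testBit_xor, Nat.testBit_and]
  cases m.testBit r <;> cases n.testBit r <;> simp

theorem mem_two_pow {k r : ℕ} : Mem (2 ^ k) r ↔ k = r := by
  simp [Mem, Nat.testBit_two_pow]

theorem mem_del {m k r : ℕ} : Mem (del m k) r ↔ Mem m r ∧ r ≠ k := by
  rw [show del m k = sub' m (2 ^ k) from rfl, mem_sub', mem_two_pow]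
  exact and_congr_right fun _ => ne_comm

theorem mem_or {m n r : ℕ} : Mem (m ||| n) r ↔ Mem m r ∨ Mem n r := by
  simp [Mem, Nat.testBit_or]

theorem mem_and {m n r : ℕ} : Mem (m &&& n) r ↔ Mem m r ∧ Mem n r := by
  simp [Mem, Nat.testBit_and]

theorem not_mem_zero {r : ℕ} : ¬ Mem 0 r := by simp [Mem]

theorem mem_of_or_eq {m n r : ℕ} (h : m ||| n = n) (hr : Mem m r) : Mem n r :=
  h ▸ mem_or.2 (Or.inl hr)

/-- Odd terms of the commutator formula. -/
def oddTerms (D : ChevalleyDatum) (r s : ℕ) : List (ℕ × ℕ × ℕ) :=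
  ((D.commTerms r s).filter fun c => decide (c.2.1 % 2 ≠ 0)).map fun c => (c.1, c.2.2.1, c.2.2.2)

/-- The tables. -/
structure Tab where
  base : ℕ
  pos : List ℕ
  row : List (List (ℕ × List (ℕ × ℕ × ℕ) × ℕ))
  up : List ℕ
  pre : List (List (ℕ × ℕ))
  refl : List (List ℕ)

namespace Tab

variable (T : Tab)

def rowOf (r : ℕ) : List (ℕ × List (ℕ × ℕ × ℕ) × ℕ) := T.row.getD (r - T.base) []

def upOf (c : ℕ) : ℕ := T.up.getD (c - T.base) 0

def preOf (t : ℕ) : List (ℕ × ℕ) := T.pre.getD (t - T.base) []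

def out (r s : ℕ) : List (ℕ × ℕ × ℕ) :=
  match (T.rowOf r).find? fun e => e.1 == s with
  | some e => e.2.1
  | none => []

def reflOf (i r : ℕ) : ℕ := (T.refl.getD i []).getD r 0

def upm (l : List (ℕ × ℕ × ℕ)) : ℕ := l.foldr (fun c m => T.upOf c.1 ||| m) 0

/-- The rows agree with the datum. -/
def outOK (D : ChevalleyDatum) (rs : List ℕ) : Bool :=
  rs.all fun r => T.pos.all fun s => r == s || oddTerms D r s == T.out r s

/-- The masks, the up-closures and the list of pairs above a root. -/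
def shapeOK (rs : List ℕ) : Bool :=
  rs.all fun r =>
    (T.upOf r).testBit r &&
    (T.pos.all fun x => !(T.upOf r).testBit x || (T.upOf x ||| T.upOf r) == T.upOf r) &&
    (T.rowOf r).all fun e => e.2.2 == T.upm e.2.1 &&
      (e.2.1.all fun c => T.pos.contains c.1 && (T.upOf e.1).testBit c.1 && (T.upOf r).testBit c.1 &&
        !(T.upOf c.1).testBit e.1 && !(T.upOf c.1).testBit r) &&
      T.pos.all fun t => !e.2.2.testBit t ||
        (T.preOf t).any fun p => p.1 == r && p.2.testBit e.1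

/-- The reflection tables agree with the datum. -/
def reflOK (D : ChevalleyDatum) : Bool :=
  (List.range D.rank).all fun i => (List.range D.nroots).all fun r => T.reflOf i r == D.reflectRoot i r

/-- The tables are correct. -/
structure Valid (D : ChevalleyDatum) : Prop where
  pos_eq : T.pos = D.posRoots
  out : T.outOK D T.pos = true
  shape : T.shapeOK T.pos = true
  refl : T.reflOK D = true

variable {T} {D : ChevalleyDatum} {A : Aux}

theorem Valid.out_eq (hT : T.Valid D) {r s : ℕ} (hr : r ∈ T.pos) (hs : s ∈ T.pos) (hne : r ≠ s) :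
    oddTerms D r s = T.out r s := by
  have := List.all_eq_true.1 (List.all_eq_true.1 hT.out r hr) s hs
  simpa [hne] using this

theorem Valid.mem_pos (hT : T.Valid D) (h : Full D A) {r : ℕ} : r ∈ T.pos ↔ D.IsPosRoot r := by
  rw [hT.pos_eq]
  exact Set.ext_iff.1 h.toStd.posList.2.1 r

theorem exists_entry {r s : ℕ} {c : ℕ × ℕ × ℕ} (hc : c ∈ T.out r s) :
    ∃ e ∈ T.rowOf r, e.1 = s ∧ c ∈ e.2.1 ∧ T.out r s = e.2.1 := by
  revert hc
  rw [Tab.out]
  cases hf : (T.rowOf r).find? fun e => e.1 == s with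
  | none => simp
  | some e =>
    intro hc
    exact ⟨e, List.mem_of_find?_eq_some hf, by simpa using List.find?_some hf, hc, rfl⟩

theorem mem_upm {l : List (ℕ × ℕ × ℕ)} {r : ℕ} : Mem (T.upm l) r ↔ ∃ c ∈ l, Mem (T.upOf c.1) r := by
  induction l with
  | nil => simp [upm]
  | cons a l ih =>
    rw [show T.upm (a :: l) = T.upOf a.1 ||| T.upm l from rfl, mem_or, ih]
    simp

/-- A mask absorbing the up-closures of its members. -/
def Closed (T : Tab) (m : ℕ) : Prop :=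
  ∀ x ∈ T.pos, Mem m x → ∀ y, Mem (T.upOf x) y → Mem m y

theorem Valid.self_mem (hT : T.Valid D) {g : ℕ} (hg : g ∈ T.pos) : Mem (T.upOf g) g := by
  have := List.all_eq_true.1 hT.shape g hg
  simp only [Bool.and_eq_true] at this
  exact this.1.1

theorem Valid.closed_up (hT : T.Valid D) {g : ℕ} (hg : g ∈ T.pos) : Closed T (T.upOf g) := by
  intro x hx hm y hy
  have := List.all_eq_true.1 hT.shape g hg
  simp only [Bool.and_eq_true, List.all_eq_true, Bool.or_eq_true, Bool.not_eq_true', beq_iff_eq] at this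
  rcases this.1.2 x hx with hh | hh
  · exact absurd hm (by simp [Mem, hh])
  · exact mem_of_or_eq hh hy

theorem Valid.row_facts (hT : T.Valid D) {r : ℕ} (hr : r ∈ T.pos)
    {e : ℕ × List (ℕ × ℕ × ℕ) × ℕ} (he : e ∈ T.rowOf r) :
    e.2.2 = T.upm e.2.1 ∧
    (∀ c ∈ e.2.1, c.1 ∈ T.pos ∧ Mem (T.upOf e.1) c.1 ∧ Mem (T.upOf r) c.1 ∧ ¬ Mem (T.upOf c.1) e.1 ∧
      ¬ Mem (T.upOf c.1) r) ∧
    ∀ t ∈ T.pos, Mem e.2.2 t → ∃ p ∈ T.preOf t, p.1 = r ∧ Mem p.2 e.1 := by
  have := List.all_eq_true.1 hT.shape r hr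
  simp only [Bool.and_eq_true, List.all_eq_true, Bool.or_eq_true, Bool.not_eq_true', beq_iff_eq,
    List.any_eq_true, List.contains_iff_mem] at this
  obtain ⟨⟨h1, h2⟩, h3⟩ := this.2 e he
  refine ⟨h1, fun c hc => ?_, fun t ht hm => ?_⟩
  · obtain ⟨⟨⟨⟨p, a⟩, b⟩, c'⟩, d⟩ := h2 c hc
    exact ⟨p, a, b, by simp [Mem, c'], by simp [Mem, d]⟩
  · rcases h3 t ht with hh | hh
    · exact absurd hm (by simp [Mem, hh])
    · exact hh

theorem Valid.out_facts (hT : T.Valid D) (h : Full D A) {r s : ℕ} (hr : r ∈ T.pos) (hs : s ∈ T.pos)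
    (hne : r ≠ s) {c : ℕ × ℕ × ℕ} (hc : c ∈ T.out r s) :
    c.1 ∈ T.pos ∧ Mem (T.upOf s) c.1 ∧ Mem (T.upOf r) c.1 ∧ ¬ Mem (T.upOf c.1) s ∧
      ¬ Mem (T.upOf c.1) r ∧
      ∀ t ∈ T.pos, Mem (T.upOf c.1) t → ∃ p ∈ T.preOf t, p.1 = r ∧ Mem p.2 s := by
  obtain ⟨e, he, rfl, hce, hout⟩ := exists_entry hc
  obtain ⟨h1, h2, h3⟩ := hT.row_facts hr he
  obtain ⟨-, a, b, c', d⟩ := h2 c hce
  refine ⟨?_, a, b, c', d, fun t ht hm => h3 t ht (by rw [h1]; exact mem_upm.2 ⟨c, hce, hm⟩)⟩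
  rw [← hT.out_eq hr hs hne, oddTerms, List.mem_map] at hc
  obtain ⟨c₀, hc₀, rfl⟩ := hc
  exact (hT.mem_pos h).2
    (h.toStd.lt_commTerms ((hT.mem_pos h).1 hr) ((hT.mem_pos h).1 hs) (List.mem_filter.1 hc₀).1).1

theorem Valid.isUp_of_closed (hT : T.Valid D) (h : Full D A) {J : Set ℕ}
    (hJ : ∀ x ∈ T.pos, x ∈ J → ∀ y, Mem (T.upOf x) y → y ∈ J) : IsUp D J := by
  intro y x hy hx hne hxJ c hc hodd
  have hy' := (hT.mem_pos h).2 hy
  have hx' := (hT.mem_pos h).2 hx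
  have hm : (c.1, c.2.2.1, c.2.2.2) ∈ T.out y x := by
    rw [← hT.out_eq hy' hx' (Ne.symm hne)]
    exact List.mem_map.2 ⟨c, List.mem_filter.2 ⟨hc, by simpa using hodd⟩, rfl⟩
  exact hJ x hx' hxJ _ (hT.out_facts h hy' hx' (Ne.symm hne) hm).2.1

theorem Valid.refl_eq (hT : T.Valid D) {i r : ℕ} (hi : i < D.rank) (hr : r < D.nroots) :
    T.reflOf i r = D.reflectRoot i r := by
  have := List.all_eq_true.1 (List.all_eq_true.1 hT.refl i (List.mem_range.2 hi)) r (List.mem_range.2 hr)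
  simpa using this

end Tab

end CfsgLib.OutAut.InvCheck
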