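import Mathlib
import Cfsg.Agent.Lib.OutAut.InvCheck.Table

/-!
Elementary steps in the reduction of involutions of `U`: forced zeros, removal of a coordinate by
conjugation, and fundamental reflections.
-/

set_option autoImplicit false
set_option linter.unusedSectionVars false
set_option linter.unusedSimpArgs false

namespace CfsgLib.OutAut.InvCheck

open Cfsg.Lie CfsgLib.Chevalley

variable {D : ChevalleyDatum} {A : Aux} {T : Tab} {F : Type*} [Field F] [CharP F 2]

/-- `u` has non-zero coordinates on `nz` and zero coordinates outside `nz ||| a`. -/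
def Holds (h : Full D A) (nz a : ℕ) (u : GL D.Idx F) : Prop :=
  ∃ t : ℕ → F, u = prodU h.cert D.posRoots t ∧
    ∀ r, D.IsPosRoot r → (t r ≠ 0 → Mem (nz ||| a) r) ∧ (Mem nz r → t r ≠ 0)

/-- A property invariant under conjugation. -/
def ConjInv (D : ChevalleyDatum) (P : GL D.Idx F → Prop) : Prop :=
  ∀ g ∈ D.group F, ∀ u, P (g * u * g⁻¹) → P u

/-- Every involution with the pattern satisfies `P`. -/
def Sol (h : Full D A) (P : GL D.Idx F → Prop) (nz a : ℕ) : Prop :=
  ∀ u, u * u = 1 → Holds h nz a u → P u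

theorem holds_mem (h : Full D A) {nz a : ℕ} {u : GL D.Idx F} (hu : Holds h nz a u) :
    u ∈ D.posUnipotent F := by
  obtain ⟨t, rfl, -⟩ := hu
  obtain ⟨-, hset, -⟩ := h.toStd.posList
  have := prodU_mem h.cert (L := D.posRoots) t
  rwa [hset] at this

theorem holds_top (h : Full D A) {u : GL D.Idx F} (hu : u ∈ D.posUnipotent F) {a : ℕ}
    (ha : ∀ r, D.IsPosRoot r → Mem a r) : Holds h 0 a u := by
  obtain ⟨hs, hset, -⟩ := h.toStd.posList
  rw [posUnipotent_eq, ← hset] at hu
  obtain ⟨t, -, e⟩ := exists_prodU h.toStd hs (hset ▸ h.toStd.isClosed_pos) hu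
  exact ⟨t, e, fun r hr => ⟨fun _ => mem_or.2 (Or.inr (ha r hr)), fun hm => absurd hm not_mem_zero⟩⟩

theorem sol_weaken (h : Full D A) {P : GL D.Idx F → Prop} {nz a a' : ℕ}
    (ha : (nz ||| a) ||| (nz ||| a') = nz ||| a') (hs : Sol h P nz a') : Sol h P nz a := by
  rintro u h2 ⟨t, e, ht⟩
  exact hs u h2 ⟨t, e, fun r hr => ⟨fun hn => mem_of_or_eq ha ((ht r hr).1 hn), (ht r hr).2⟩⟩

theorem sol_split (h : Full D A) {P : GL D.Idx F → Prop} {nz a m : ℕ}
    (h0 : Sol h P nz (del a m)) (h1 : Sol h P (nz ||| 2 ^ m) (del a m)) : Sol h P nz a := by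
  rintro u h2 ⟨t, e, ht⟩
  by_cases hm : t m = 0
  · refine h0 u h2 ⟨t, e, fun r hr => ⟨fun hn => ?_, (ht r hr).2⟩⟩
    rw [mem_or, mem_del]
    rcases mem_or.1 ((ht r hr).1 hn) with hh | hh
    · exact Or.inl hh
    · exact Or.inr ⟨hh, by rintro rfl; exact hn hm⟩
  · refine h1 u h2 ⟨t, e, fun r hr => ⟨fun hn => ?_, fun hh => ?_⟩⟩
    · rw [mem_or, mem_or, mem_two_pow, mem_del]
      by_cases hrm : r = m
      · exact Or.inl (Or.inr hrm.symm)
      · rcases mem_or.1 ((ht r hr).1 hn) with hh | hh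
        · exact Or.inl (Or.inl hh)
        · exact Or.inr ⟨hh, hrm⟩
    · rcases mem_or.1 hh with hh | hh
      · exact (ht r hr).2 hh
      · rwa [← mem_two_pow.1 hh]

/-- Bits of a mask among the positive roots. -/
def bits (T : Tab) (m : ℕ) : List ℕ := T.pos.filter fun r => m.testBit r

theorem mem_bits {m r : ℕ} : r ∈ bits T m ↔ r ∈ T.pos ∧ Mem m r := by
  simp [bits, Mem]

/-- The only pair of `S` with a commutator term above `t` is `{a, b}`, giving the single term
`(t, i, j)`. -/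
def zeroOK (T : Tab) (S t a b i j : ℕ) : Bool :=
  T.pos.contains t && T.pos.contains a && T.pos.contains b && !(a == b) && !(i == 0) && !(j == 0) &&
  ((T.out a b).filter fun c => (T.upOf c.1).testBit t) == [(t, i, j)] &&
  (T.preOf t).all fun p => !S.testBit p.1 ||
    (if p.1 == a then (p.2 &&& S) ||| 2 ^ b == 2 ^ b
     else if p.1 == b then (p.2 &&& S) ||| 2 ^ a == 2 ^ a
     else p.2 &&& S == 0)

theorem zero_rel (h : Full D A) (hT : T.Valid D) {nz a' t a b i j : ℕ}
    (hok : zeroOK T (nz ||| a') t a b i j = true) {c : ℕ → F}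
    (hc : ∀ r, D.IsPosRoot r → c r ≠ 0 → Mem (nz ||| a') r)
    (h2 : prodU h.cert D.posRoots c * prodU h.cert D.posRoots c = 1) :
    c a = 0 ∨ c b = 0 := by
  classical
  simp only [zeroOK, Bool.and_eq_true, List.contains_iff_mem, Bool.not_eq_true', beq_eq_false_iff_ne,
    beq_iff_eq, List.all_eq_true, Bool.or_eq_true] at hok
  obtain ⟨⟨⟨⟨⟨⟨⟨htp, hap⟩, hbp⟩, hab⟩, hi⟩, hj⟩, hfil⟩, hpre⟩ := hok
  set S := nz ||| a'
  -- no other pair reaches `t`
  have hclean : ∀ x ∈ T.pos, ∀ y ∈ T.pos, x ≠ y → Mem S x → Mem S y →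
      ¬(x = a ∧ y = b) → ¬(x = b ∧ y = a) → ∀ e ∈ T.out x y, ¬ Mem (T.upOf e.1) t := by
    intro x hx y hy hxy hSx hSy n1 n2 e he hm
    obtain ⟨p, hp, hp1, hp2⟩ := (hT.out_facts h hx hy hxy he).2.2.2.2.2 t htp hm
    rcases hpre p hp with hh | hh
    · rw [hp1] at hh
      exact absurd hSx (by simp [Mem, hh])
    · have hy2 : Mem (p.2 &&& S) y := mem_and.2 ⟨hp2, hSy⟩
      rw [hp1] at hh
      split_ifs at hh with e1 e2
      · exact n1 ⟨e1, (mem_two_pow.1 (mem_of_or_eq (eq_of_beq hh) hy2)).symm⟩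
      · exact n2 ⟨e2, (mem_two_pow.1 (mem_of_or_eq (eq_of_beq hh) hy2)).symm⟩
      · rw [eq_of_beq hh] at hy2
        exact not_mem_zero hy2
  let J : Set ℕ := {r | ∃ g, g ∈ T.pos ∧ ¬ Mem (T.upOf g) t ∧ Mem (T.upOf g) r}
  have hJ : IsUp D J := hT.isUp_of_closed h fun x hx ⟨g, hg, hgt, hgx⟩ y hy =>
    ⟨g, hg, hgt, hT.closed_up hg x hx hgx y hy⟩
  have := upSub_normal (F := F) h hJ
  have htJ : t ∉ J := fun ⟨g, _, hgt, hgt'⟩ => hgt hgt'
  have hout : ∀ x y, D.IsPosRoot x → D.IsPosRoot y → x ≠ y → Mem S x → Mem S y →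
      ¬(x = a ∧ y = b) → ¬(x = b ∧ y = a) →
      ∀ e ∈ D.commTerms x y, e.2.1 % 2 ≠ 0 → e.1 ∈ J := by
    intro x y hx hy hxy hSx hSy n1 n2 e he hodd
    have hx' := (hT.mem_pos h).2 hx
    have hy' := (hT.mem_pos h).2 hy
    have hm : (e.1, e.2.2.1, e.2.2.2) ∈ T.out x y := by
      rw [← hT.out_eq hx' hy' hxy]
      exact List.mem_map.2 ⟨e, List.mem_filter.2 ⟨he, by simpa using hodd⟩, rfl⟩
    have hep := (hT.out_facts h hx' hy' hxy hm).1
    exact ⟨e.1, hep, hclean x hx' y hy' hxy hSx hSy n1 n2 _ hm, hT.self_mem hep⟩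
  have ha := (hT.mem_pos h).1 hap
  have hb := (hT.mem_pos h).1 hbp
  have ht := (hT.mem_pos h).1 htp
  set f : ℕ → D.posUnipotent F ⧸ upSub D F J := fun r => gX h J r (c r) with hf
  set z := gX h J t (c a ^ i * c b ^ j) with hz
  have hzc : ∀ x, D.IsPosRoot x → Commute z (f x) := by
    intro x hx
    refine gX_commute h (fun hne _ _ e he hodd => ?_) _ _
    have hx' := (hT.mem_pos h).2 hx
    have hm : (e.1, e.2.2.1, e.2.2.2) ∈ T.out t x := by
      rw [← hT.out_eq htp hx' hne]
      exact List.mem_map.2 ⟨e, List.mem_filter.2 ⟨he, by simpa using hodd⟩, rfl⟩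
    obtain ⟨hep, -, -, -, hnt, -⟩ := hT.out_facts h htp hx' hne hm
    exact ⟨e.1, hep, hnt, hT.self_mem hep⟩
  have hfc : ∀ x, D.IsPosRoot x → ∀ y, D.IsPosRoot y → ¬(x = a ∧ y = b) → ¬(x = b ∧ y = a) →
      Commute (f x) (f y) := by
    intro x hx y hy n1 n2
    by_cases hcx : c x = 0
    · simp [hf, hcx, gX_zero, Commute.one_left]
    by_cases hcy : c y = 0
    · simp [hf, hcy, gX_zero, Commute.one_right]
    exact gX_commute h (fun hne _ _ => hout x y hx hy hne (hc x hx hcx) (hc y hy hcy) n1 n2) _ _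
  have hterm : gX h J a (c a) * gX h J b (c b) * gX h J a (c a) = gX h J b (c b) * z := by
    rw [gX_conj h ha hb (Ne.symm hab)]
    congr 1
    have key : ∀ (l : List (ℕ × ℤ × ℕ × ℕ)),
        (∀ e ∈ l, (e.1 ∈ T.pos)) →
        (l.map fun e => gX h J e.1 (c a ^ e.2.2.1 * c b ^ e.2.2.2)).prod =
          (((l.map fun e => (e.1, e.2.2.1, e.2.2.2)).filter fun e => (T.upOf e.1).testBit t).map
            fun e => gX h J e.1 (c a ^ e.2.1 * c b ^ e.2.2)).prod := by
      intro l hl
      induction l with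
      | nil => rfl
      | cons e l ih =>
        rw [List.map_cons, List.prod_cons, ih fun x hx => hl x (List.mem_cons_of_mem _ hx), List.map_cons]
        by_cases hm : Mem (T.upOf e.1) t
        · rw [List.filter_cons_of_pos (by exact hm), List.map_cons, List.prod_cons]
        · rw [List.filter_cons_of_neg (by exact hm), gX_mem h (r := e.1) ?_, one_mul]
          have hep := hl e (List.mem_cons_self ..)
          exact ⟨e.1, hep, hm, hT.self_mem hep⟩
    rw [key _ (fun e he => (hT.mem_pos h).2 (h.toStd.lt_commTerms ha hb (List.mem_filter.1 he).1).1),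
      show ((D.commTerms a b).filter fun e => decide (e.2.1 % 2 ≠ 0)).map (fun e => (e.1, e.2.2.1, e.2.2.2)) =
        oddTerms D a b from rfl, hT.out_eq hap hbp hab, hfil]
    simp [hz]
  have hnd : D.posRoots.Nodup := h.toStd.posList.1.imp fun hh => Nat.ne_of_lt hh
  have hall : ∀ r ∈ D.posRoots, D.IsPosRoot r := fun r hr => (Set.ext_iff.1 h.toStd.posList.2.1 r).1 hr
  have hmem : ∀ r, D.IsPosRoot r → r ∈ D.posRoots := fun r hr => (Set.ext_iff.1 h.toStd.posList.2.1 r).2 hr
  have hfour : f a * f b * f a * f b = z := by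
    rw [hf]
    simp only
    rw [hterm, mul_assoc, (hzc b hb).eq, hf]
    simp only
    rw [← mul_assoc, gX_sq, one_mul]
  have hsq := prod_sq_pair (z := z) (f := f) hab (fun x => gX_sq h x _) hfour hnd (hmem a ha) (hmem b hb)
    (fun x hx y hy => hfc x (hall x hx) y (hall y hy)) (fun x hx => hzc x (hall x hx))
  obtain ⟨hm, e1⟩ := prodU_mk h (J := J) c
  have hz1 : z = 1 := by
    rw [← hsq, hf, ← e1, ← map_mul, ← map_one (QuotientGroup.mk' (upSub D F J))]
    exact congrArg _ (Subtype.ext h2)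
  have hz2 : (D.posRoots.map fun r => gX h J r (if r = t then c a ^ i * c b ^ j else 0)).prod =
      (D.posRoots.map fun r => gX h J r (0 : F)).prod := by
    refine congrArg List.prod (List.map_congr_left fun r _ => ?_)
    split_ifs with hr
    · subst hr
      rw [gX_zero, ← hz, hz1]
    · rfl
  have := coords_eq h hJ hz2 ht htJ
  rw [if_pos rfl] at this
  rcases mul_eq_zero.1 this with hh | hh
  · exact Or.inl (eq_zero_of_pow_eq_zero hh)
  · exact Or.inr (eq_zero_of_pow_eq_zero hh)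

theorem sol_zero (h : Full D A) (hT : T.Valid D) {P : GL D.Idx F → Prop} {nz a' t a b i j : ℕ}
    (hok : zeroOK T (nz ||| a') t a b i j = true) {z : ℕ} (hz : z = a ∨ z = b)
    (hnz : Mem nz (if z = a then b else a))
    (hsub : Mem nz z ∨ Sol h P nz (del a' z)) : Sol h P nz a' := by
  rintro u h2 ⟨c, rfl, hc⟩
  have hrel := zero_rel h hT hok (fun r hr => (hc r hr).1) h2
  simp only [zeroOK, Bool.and_eq_true, List.contains_iff_mem] at hok
  have hap : D.IsPosRoot a := (hT.mem_pos h).1 hok.1.1.1.1.1.1.2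
  have hbp : D.IsPosRoot b := (hT.mem_pos h).1 hok.1.1.1.1.1.2
  have hzero : c z = 0 ∧ D.IsPosRoot z := by
    rcases hz with rfl | rfl
    · rw [if_pos rfl] at hnz
      exact ⟨hrel.resolve_right ((hc b hbp).2 hnz), hap⟩
    · by_cases hza : z = a
      · rw [if_pos hza] at hnz
        exact absurd hnz fun hn => by
          rcases hrel with hh | hh
          · exact (hc z hbp).2 hn (by rw [hza]; exact hh)
          · exact (hc z hbp).2 hn hh
      · rw [if_neg hza] at hnz
        exact ⟨hrel.resolve_left ((hc a hap).2 hnz), hbp⟩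
  rcases hsub with hsub | hsub
  · exact absurd hzero.1 ((hc z hzero.2).2 hsub)
  refine hsub _ h2 ⟨c, rfl, fun r hr => ⟨fun hn => ?_, (hc r hr).2⟩⟩
  rw [mem_or, mem_del]
  rcases mem_or.1 ((hc r hr).1 hn) with hh | hh
  · exact Or.inl hh
  · exact Or.inr ⟨hh, by rintro rfl; exact hn hzero.1⟩

/-- The roots affected by conjugation by `x_k` apart from the target `t` of the pivot `b`. -/
def killJ (T : Tab) (S k t b : ℕ) : ℕ :=
  (T.rowOf k).foldr (fun e m => if S.testBit e.1 then
    (if e.1 == b then T.upm (e.2.1.filter fun c => !(c.1 == t)) else e.2.2) ||| m else m) 0 |||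
  (T.rowOf t).foldr (fun e m => if S.testBit e.1 then e.2.2 ||| m else m) 0

/-- Conjugation by `x_k` may remove the coordinate at `t` using the pivot `b`. -/
def killOK (T : Tab) (nz a k t b i j : ℕ) : Bool :=
  T.pos.contains k && T.pos.contains t && T.pos.contains b && nz.testBit b && !(k == b) &&
  (i == 1 || i == 2) && ((T.out k b).filter fun c => c.1 == t) == [(t, i, j)] &&
  !(killJ T (nz ||| a) k t b).testBit t

theorem mem_foldr_or {α : Type*} (g : α → ℕ) (p : α → Bool) (l : List α) {r : ℕ} :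
    Mem (l.foldr (fun e m => if p e then g e ||| m else m) 0) r ↔ ∃ e ∈ l, p e = true ∧ Mem (g e) r := by
  induction l with
  | nil => simp
  | cons x l ih =>
    rw [List.foldr_cons]
    by_cases hp : p x = true
    · rw [if_pos hp, mem_or, ih]
      simp [hp]
    · rw [if_neg hp, ih]
      simp [hp]

theorem sol_kill (h : Full D A) (hT : T.Valid D) [PerfectRing F 2] {P : GL D.Idx F → Prop}
    (hP : ConjInv D P) {nz a k t b i j : ℕ} (hok : killOK T nz a k t b i j = true)
    (hsub : Sol h P (del (sub' nz (killJ T (nz ||| a) k t b)) t)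
      (del (a ||| killJ T (nz ||| a) k t b) t)) : Sol h P nz a := by
  classical
  rintro u h2 ⟨c, rfl, hc⟩
  simp only [killOK, Bool.and_eq_true, List.contains_iff_mem, Bool.not_eq_true', beq_eq_false_iff_ne,
    beq_iff_eq, Bool.or_eq_true] at hok
  obtain ⟨⟨⟨⟨⟨⟨⟨hkp, htp⟩, hbp⟩, hnb⟩, hkb⟩, hi⟩, hfil⟩, htK⟩ := hok
  set S := nz ||| a
  set K := killJ T S k t b with hK
  have hk := (hT.mem_pos h).1 hkp
  have ht := (hT.mem_pos h).1 htp
  have hb := (hT.mem_pos h).1 hbp
  let J : Set ℕ := {r | Mem K r}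
  have hKmem : ∀ r, Mem K r ↔
      (∃ e ∈ T.rowOf k, S.testBit e.1 = true ∧
        Mem (if (e.1 == b) = true then T.upm (e.2.1.filter fun c => !(c.1 == t)) else e.2.2) r) ∨
      ∃ e ∈ T.rowOf t, S.testBit e.1 = true ∧ Mem e.2.2 r := by
    intro r
    rw [hK, killJ, mem_or, mem_foldr_or (fun e => if (e.1 == b) = true then
        T.upm (e.2.1.filter fun c => !(c.1 == t)) else e.2.2) (fun e => S.testBit e.1) (T.rowOf k),
      mem_foldr_or (fun e => e.2.2) (fun e => S.testBit e.1) (T.rowOf t)]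
  have hupm : ∀ (l : List (ℕ × ℕ × ℕ)), (∀ e ∈ l, e.1 ∈ T.pos) → ∀ x ∈ T.pos, Mem (T.upm l) x →
      ∀ y, Mem (T.upOf x) y → Mem (T.upm l) y := by
    intro l hl x hx hm y hy
    obtain ⟨e, he, hm'⟩ := Tab.mem_upm.1 hm
    exact Tab.mem_upm.2 ⟨e, he, hT.closed_up (hl e he) x hx hm' y hy⟩
  have hrow : ∀ r ∈ T.pos, ∀ e ∈ T.rowOf r, ∀ l : List (ℕ × ℕ × ℕ), (∀ c ∈ l, c ∈ e.2.1) →
      ∀ x ∈ T.pos, Mem (T.upm l) x → ∀ y, Mem (T.upOf x) y → Mem (T.upm l) y := by
    intro r hr e he l hl x hx hm y hy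
    obtain ⟨c, hcl, hm'⟩ := Tab.mem_upm.1 hm
    refine Tab.mem_upm.2 ⟨c, hcl, ?_⟩
    exact hT.closed_up ((hT.row_facts hr he).2.1 c (hl c hcl)).1 x hx hm' y hy
  have hJ : IsUp D J := hT.isUp_of_closed h fun x hx hxK y hy => (hKmem y).2 (by
    rcases (hKmem x).1 hxK with ⟨e, he, hS, hm⟩ | ⟨e, he, hS, hm⟩
    · refine Or.inl ⟨e, he, hS, ?_⟩
      split_ifs at hm ⊢ with heb
      · exact hrow k hkp e he _ (fun c hc => (List.mem_filter.1 hc).1) x hx hm y hy
      · rw [(hT.row_facts hkp he).1] at hm ⊢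
        exact hrow k hkp e he _ (fun c hc => hc) x hx hm y hy
    · refine Or.inr ⟨e, he, hS, ?_⟩
      rw [(hT.row_facts htp he).1] at hm ⊢
      exact hrow t htp e he _ (fun c hc => hc) x hx hm y hy)
  have := upSub_normal (F := F) h hJ
  -- the parameter
  obtain ⟨τ, hτ⟩ : ∃ τ : F, τ ^ i * c b ^ j = c t := by
    have hcb : c b ^ j ≠ 0 := pow_ne_zero _ ((hc b hb).2 hnb)
    rcases hi with rfl | rfl
    · exact ⟨c t / c b ^ j, by rw [pow_one, div_mul_cancel₀ _ hcb]⟩
    · refine ⟨(frobeniusEquiv F 2).symm (c t / c b ^ j), ?_⟩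
      rw [frobeniusEquiv_symm_pow_p (R := F) (p := 2), div_mul_cancel₀ _ hcb]
  set f : ℕ → D.posUnipotent F ⧸ upSub D F J := fun r => gX h J r (c r) with hf
  set z := gX h J t (c t) with hz
  set gk := gX h J k τ with hgk
  have hJout : ∀ x y, x ∈ T.pos → y ∈ T.pos → x ≠ y → (∀ e ∈ T.out x y, e.1 ∈ J) →
      ∀ t' u' : F, Commute (gX h J x t') (gX h J y u') := by
    intro x y hx hy hne hall t' u'
    refine gX_commute h (fun _ _ _ e he hodd => hall (e.1, e.2.2.1, e.2.2.2) ?_) _ _
    rw [← hT.out_eq hx hy hne]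
    exact List.mem_map.2 ⟨e, List.mem_filter.2 ⟨he, by simpa using hodd⟩, rfl⟩
  have hzc : ∀ x, D.IsPosRoot x → Commute z (f x) := by
    intro x hx
    by_cases hcx : c x = 0
    · simp [hf, hcx, gX_zero, Commute.one_right]
    by_cases hxt : t = x
    · subst hxt; exact Commute.refl _
    refine hJout t x htp ((hT.mem_pos h).2 hx) hxt (fun e he => ?_) _ _
    obtain ⟨en, hen, rfl, hce, -⟩ := Tab.exists_entry he
    refine (hKmem _).2 (Or.inr ⟨en, hen, (hc _ hx).1 hcx, ?_⟩)
    rw [(hT.row_facts htp hen).1]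
    exact Tab.mem_upm.2 ⟨e, hce, hT.self_mem (hT.out_facts h htp ((hT.mem_pos h).2 hx) hxt he).1⟩
  have hkf : ∀ x, D.IsPosRoot x → x ≠ b → Commute gk (f x) := by
    intro x hx hxb
    by_cases hcx : c x = 0
    · simp [hf, hcx, gX_zero, Commute.one_right]
    by_cases hxk : k = x
    · subst hxk
      exact gX_commute h (fun hne => absurd rfl hne) _ _
    refine hJout k x hkp ((hT.mem_pos h).2 hx) hxk (fun e he => ?_) _ _
    obtain ⟨en, hen, rfl, hce, -⟩ := Tab.exists_entry he
    refine (hKmem _).2 (Or.inl ⟨en, hen, (hc _ hx).1 hcx, ?_⟩)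
    rw [if_neg (by simpa using hxb), (hT.row_facts hkp hen).1]
    exact Tab.mem_upm.2 ⟨e, hce, hT.self_mem (hT.out_facts h hkp ((hT.mem_pos h).2 hx) hxk he).1⟩
  have hbz : gk * f b * gk = f b * z := by
    rw [hgk, hf]
    simp only
    rw [gX_conj h hk hb (Ne.symm hkb)]
    congr 1
    have key : ∀ (l : List (ℕ × ℤ × ℕ × ℕ)),
        (∀ e ∈ l, (e.1, e.2.2.1, e.2.2.2) ∈ T.out k b) →
        (l.map fun e => gX h J e.1 (τ ^ e.2.2.1 * c b ^ e.2.2.2)).prod =
          (((l.map fun e => (e.1, e.2.2.1, e.2.2.2)).filter fun e => e.1 == t).map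
            fun e => gX h J e.1 (τ ^ e.2.1 * c b ^ e.2.2)).prod := by
      intro l hl
      induction l with
      | nil => rfl
      | cons e l ih =>
        rw [List.map_cons, List.prod_cons, ih fun x hx => hl x (List.mem_cons_of_mem _ hx), List.map_cons]
        by_cases hm : e.1 = t
        · rw [List.filter_cons_of_pos (by simpa using hm), List.map_cons, List.prod_cons]
        · rw [List.filter_cons_of_neg (by simpa using hm), gX_mem h (r := e.1) ?_, one_mul]
          obtain ⟨en, hen, heb, hce, -⟩ := Tab.exists_entry (hl e (List.mem_cons_self ..))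
          refine (hKmem _).2 (Or.inl ⟨en, hen, by rw [heb]; exact mem_or.2 (Or.inl hnb), ?_⟩)
          rw [if_pos (by simpa using heb)]
          exact Tab.mem_upm.2 ⟨_, List.mem_filter.2 ⟨hce, by simpa using hm⟩,
            hT.self_mem (hT.out_facts h hkp hbp hkb (hl e (List.mem_cons_self ..))).1⟩
    rw [key _ (fun e he => by
        rw [← hT.out_eq hkp hbp hkb]
        exact List.mem_map.2 ⟨e, he, rfl⟩),
      show ((D.commTerms k b).filter fun e => decide (e.2.1 % 2 ≠ 0)).map (fun e => (e.1, e.2.2.1, e.2.2.2)) =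
        oddTerms D k b from rfl, hT.out_eq hkp hbp hkb, hfil]
    simp [hz, hτ]
  obtain ⟨hs, hset, -⟩ := h.toStd.posList
  have hnd : D.posRoots.Nodup := hs.imp fun hh => Nat.ne_of_lt hh
  have hall : ∀ r ∈ D.posRoots, D.IsPosRoot r := fun r hr => (Set.ext_iff.1 hset r).1 hr
  have hkk : gk * gk = 1 := gX_sq h k τ
  have hconj : ∀ L : List ℕ, (∀ x ∈ L, D.IsPosRoot x) →
      gk * (L.map f).prod * gk = (L.map (Function.update f b (f b * z))).prod := by
    intro L hL
    induction L with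
    | nil => simpa using hkk
    | cons x L ih =>
      rw [List.map_cons, List.map_cons, List.prod_cons, List.prod_cons,
        ← ih fun y hy => hL y (List.mem_cons_of_mem _ hy)]
      have hx : gk * f x * gk = Function.update f b (f b * z) x := by
        by_cases hxb : x = b
        · subst hxb; rw [Function.update_self, hbz]
        · rw [Function.update_of_ne hxb, (hkf x (hL x (List.mem_cons_self ..)) hxb).eq, mul_assoc, hkk,
            mul_one]
      rw [← hx]
      calc gk * (f x * (L.map f).prod) * gk = gk * f x * (gk * gk) * (L.map f).prod * gk := by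
            rw [hkk, mul_one]; group
        _ = _ := by group
  let c' : ℕ → F := Function.update c t 0
  have hprod : gk * (D.posRoots.map f).prod * gk = (D.posRoots.map fun r => gX h J r (c' r)).prod := by
    rw [hconj _ hall, prod_mul_at hnd ((Set.ext_iff.1 hset b).2 hb) (fun x hx => hzc x (hall x hx)),
      ← prod_mul_at (b := t) hnd ((Set.ext_iff.1 hset t).2 ht) (fun x hx => hzc x (hall x hx))]
    refine congrArg List.prod (List.map_congr_left fun r _ => ?_)
    by_cases hrt : r = t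
    · subst hrt
      rw [Function.update_self]
      simp only [hf, hz, c', Function.update_self]
      rw [gX_sq, gX_zero]
    · rw [Function.update_of_ne hrt]
      simp only [hf, c', Function.update_of_ne hrt]
  set g := xG h.cert k τ with hg
  have hgU : g ∈ D.posUnipotent F := xG_mem_rootsU (S := {r | D.IsPosRoot r}) h.cert hk τ
  obtain ⟨hm, e1⟩ := prodU_mk h (J := J) c
  have hu' : g * prodU h.cert D.posRoots c * g⁻¹ ∈ D.posUnipotent F := mul_mem (mul_mem hgU hm) (inv_mem hgU)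
  refine hP g (rootsU_le_group h.cert _ hgU) _ (hsub _ ?_ ?_)
  · rw [show g * prodU h.cert D.posRoots c * g⁻¹ * (g * prodU h.cert D.posRoots c * g⁻¹) =
      g * (prodU h.cert D.posRoots c * prodU h.cert D.posRoots c) * g⁻¹ by group, h2, mul_one,
      mul_inv_cancel]
  · obtain ⟨c'', -, e''⟩ := exists_prodU h.toStd hs (hset ▸ h.toStd.isClosed_pos)
      (show g * prodU h.cert D.posRoots c * g⁻¹ ∈ rootsU D F {r | r ∈ D.posRoots} by rw [hset]; exact hu')
    obtain ⟨hm'', e2⟩ := prodU_mk h (J := J) c''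
    have hq : (D.posRoots.map fun r => gX h J r (c'' r)).prod = (D.posRoots.map fun r => gX h J r (c' r)).prod := by
      rw [← e2, ← hprod, hf, ← e1, hgk, gX_pos h hk, ← map_mul, ← map_mul]
      refine congrArg _ (Subtype.ext ?_)
      show prodU h.cert D.posRoots c'' = g * prodU h.cert D.posRoots c * g
      rw [← e'', show g⁻¹ = g by rw [hg, xG_inv, CharTwo.neg_eq]]
    refine ⟨c'', e'', fun r hr => ?_⟩
    by_cases hrJ : Mem K r
    · refine ⟨fun _ => ?_, fun hh => absurd hrJ (mem_sub'.1 (mem_del.1 hh).1).2⟩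
      rw [mem_or, mem_del, mem_del]
      exact Or.inr ⟨mem_or.2 (Or.inr hrJ), fun hrt => by
        rw [hrt] at hrJ; exact absurd hrJ (by simp [Mem, htK])⟩
    · have he := coords_eq h hJ hq hr hrJ
      refine ⟨fun hn => ?_, fun hh => ?_⟩
      · by_cases hrt : r = t
        · subst hrt
          simp [he, c'] at hn
        · rw [he] at hn
          simp only [c', Function.update_of_ne hrt] at hn
          rw [mem_or, mem_del, mem_del, mem_sub', mem_or]
          rcases mem_or.1 ((hc r hr).1 hn) with hh | hh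
          · exact Or.inl ⟨⟨hh, hrJ⟩, hrt⟩
          · exact Or.inr ⟨Or.inl hh, hrt⟩
      · obtain ⟨hh1, hh2⟩ := mem_del.1 hh
        rw [he]
        simp only [c', Function.update_of_ne hh2]
        exact (hc r hr).2 (mem_sub'.1 hh1).1

end CfsgLib.OutAut.InvCheck
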