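import Mathlib
import Cfsg.Agent.Lib.OutAut.InvCheck.Moves

/-!
Fundamental reflections as moves, exact rewriting of words in positive root elements, and the
checker of the reduction certificates.
-/

set_option autoImplicit false
set_option linter.unusedSectionVars false
set_option linter.unusedSimpArgs false

namespace CfsgLib.OutAut.InvCheck

open Cfsg.Lie CfsgLib.Chevalley

variable {D : ChevalleyDatum} {A : Aux} {T : Tab} {F : Type*} [Field F] [CharP F 2]

theorem acts_simple_two (h : Full D A) (i : Fin D.rank) (s : Fin D.nroots) (t : F) :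
    nG h.cert (D.simple i) (1 : F) * xG h.cert s t * (nG h.cert (D.simple i) 1)⁻¹ =
      xG h.cert (D.reflectRoot i s) t := by
  rw [(acts_nG_simple (F := F) h i one_ne_zero).conj, one_zpow, mul_one]
  rcases (refl_spec h.cert i.isLt s.isLt).1 with e | e <;> rw [e] <;>
    simp [CharTwo.neg_eq, rfPerm_apply, rf]

theorem reflect_facts (h : Full D A) (i : Fin D.rank) {r : ℕ} (hr : D.IsPosRoot r)
    (hne : r ≠ D.simple i) :
    D.IsPosRoot (D.reflectRoot i r) ∧ D.reflectRoot i (D.reflectRoot i r) = r ∧
      D.reflectRoot i r ≠ D.simple i := by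
  have h1 := h.rf_ne_simple_pos i (s := ⟨r, hr.1⟩) hr (fun e => hne (congrArg Fin.val e))
  have h2 := (refl_spec h.cert i.isLt hr.1).2.2.1
  refine ⟨h1, h2, fun e => ?_⟩
  rw [e, show D.reflectRoot i (D.simple i) = ((rf h.cert i (smp h.cert i) : Fin D.nroots) : ℕ) from rfl,
    rf_smp] at h2
  have h3 := h.toStd.neg_isNeg (h.simple_pos i.isLt)
  rw [show D.neg (D.simple i) = ((ngR h.cert (smp h.cert i) : Fin D.nroots) : ℕ) from rfl, h2] at h3
  exact h.pos_not_neg hr h3

/-- The image of a mask under the reflection `i`, discarding what lands in `Tm`. -/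
def reflMask (T : Tab) (i Tm m : ℕ) : ℕ :=
  T.pos.foldr (fun x acc =>
    if m.testBit x && !Tm.testBit (T.reflOf i x) then 2 ^ T.reflOf i x ||| acc else acc) 0

/-- The reflection `i` may be applied, modulo the closed mask `Tm`. -/
def weylOK (T : Tab) (rank nz a i p Tm : ℕ) : Bool :=
  Nat.blt i rank && !(nz ||| a).testBit p &&
  (T.pos.all fun x => !Tm.testBit x || (T.upOf x ||| Tm) == Tm) &&
  let L := T.pos.filter fun x => (nz ||| a).testBit x && !Tm.testBit (T.reflOf i x)
  L.all fun x => L.all fun y => x == y ||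
    (T.out (T.reflOf i x) (T.reflOf i y)).all fun c => Tm.testBit c.1

theorem sol_weyl (h : Full D A) (hT : T.Valid D) {P : GL D.Idx F → Prop}
    (hP : ConjInv D P) {nz a i p Tm : ℕ} (hok : weylOK T D.rank nz a i p Tm = true)
    (hp : p = D.simple i)
    (hsub : Sol h P (reflMask T i Tm nz) (reflMask T i Tm a ||| Tm)) : Sol h P nz a := by
  classical
  rintro u h2 ⟨c, rfl, hc⟩
  simp only [weylOK, Bool.and_eq_true, Bool.not_eq_true', List.all_eq_true, Bool.or_eq_true,
    beq_iff_eq, Nat.blt_eq] at hok
  obtain ⟨⟨⟨hi, hpS⟩, hTm⟩, hpair⟩ := hok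
  set ii : Fin D.rank := ⟨i, hi⟩
  have hsimp : D.IsPosRoot (D.simple i) := h.simple_pos hi
  have hc0 : c (D.simple i) = 0 := by
    by_contra hne
    have := (hc _ hsimp).1 hne
    rw [hp] at hpS
    simp [Mem, hpS] at this
  let J : Set ℕ := {r | Mem Tm r}
  have hJ : IsUp D J := hT.isUp_of_closed h fun x hx hm y hy => by
    rcases hTm x hx with hh | hh
    · exact absurd hm (by simp [J, Mem, hh])
    · exact mem_of_or_eq hh hy
  have := upSub_normal (F := F) h hJ
  obtain ⟨hs, hset, -⟩ := h.toStd.posList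
  have hall : ∀ r ∈ D.posRoots, D.IsPosRoot r := fun r hr => (Set.ext_iff.1 hset r).1 hr
  have hmem : ∀ r, D.IsPosRoot r → r ∈ D.posRoots := fun r hr => (Set.ext_iff.1 hset r).2 hr
  have hnd : D.posRoots.Nodup := hs.imp fun hh => Nat.ne_of_lt hh
  let R : ℕ → ℕ := fun r => D.reflectRoot i r
  have hR : ∀ r, D.IsPosRoot r → r ≠ D.simple i →
      D.IsPosRoot (R r) ∧ R (R r) = r ∧ R r ≠ D.simple i := fun r hr hne => reflect_facts h ii hr hne
  have hrefl : ∀ r, D.IsPosRoot r → T.reflOf i r = R r := fun r hr => hT.refl_eq hi hr.1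
  let c' : ℕ → F := fun r => if r = D.simple i then 0 else c (R r)
  set n := nG h.cert (D.simple i) (1 : F) with hn
  have hnm : n ∈ D.group F := nG_mem_group h.cert _ _
  set L := D.posRoots.filter (fun r => decide (r ≠ D.simple i)) with hL
  have hdrop : ∀ f : ℕ → F, f (D.simple i) = 0 →
      prodU h.cert D.posRoots f = prodU h.cert L f := by
    intro f hf
    rw [hL]
    generalize D.posRoots = M
    induction M with
    | nil => rfl
    | cons k M ih =>
      rw [prodU_cons, ih]
      by_cases hk : k = D.simple i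
      · rw [List.filter_cons_of_neg (by simp [hk]), hk, hf, xG_zero, one_mul]
      · rw [List.filter_cons_of_pos (by simp [hk]), prodU_cons]
  have hLmem : ∀ r ∈ L, D.IsPosRoot r ∧ r ≠ D.simple i := fun r hr => by
    obtain ⟨h1, h3⟩ := List.mem_filter.1 hr
    exact ⟨hall r h1, by simpa using h3⟩
  have hconj : n * prodU h.cert L c * n⁻¹ = prodU h.cert (L.map R) c' := by
    have : ∀ M : List ℕ, (∀ r ∈ M, r ∈ L) → n * prodU h.cert M c * n⁻¹ = prodU h.cert (M.map R) c' := by
      intro M hM
      induction M with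
      | nil => simp [prodU]
      | cons k M ih =>
        obtain ⟨hk1, hk2⟩ := hLmem k (hM k (List.mem_cons_self ..))
        rw [List.map_cons, prodU_cons, prodU_cons, ← ih fun r hr => hM r (List.mem_cons_of_mem _ hr),
          show n * (xG h.cert k (c k) * prodU h.cert M c) * n⁻¹ =
            n * xG h.cert k (c k) * n⁻¹ * (n * prodU h.cert M c * n⁻¹) by group]
        congr 1
        obtain ⟨hp1, hp2, hp3⟩ := hR k hk1 hk2
        rw [show c' (R k) = c k by simp [c', hp3, hp2]]
        exact acts_simple_two h ii ⟨k, hk1.1⟩ (c k)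
    exact this L fun r hr => hr
  have hperm : (L.map R).Perm L := by
    refine (List.perm_ext_iff_of_nodup ?_ (hnd.filter _)).2 fun r => ?_
    · refine (hnd.filter _).map_on fun x hx y hy e => ?_
      have hx' := hR x (hLmem x hx).1 (hLmem x hx).2
      have hy' := hR y (hLmem y hy).1 (hLmem y hy).2
      rw [← hx'.2.1, e, hy'.2.1]
    · constructor
      · intro hr
        obtain ⟨x, hx, rfl⟩ := List.mem_map.1 hr
        obtain ⟨p1, -, p3⟩ := hR x (hLmem x hx).1 (hLmem x hx).2
        exact List.mem_filter.2 ⟨hmem _ p1, by simpa using p3⟩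
      · intro hr
        obtain ⟨p1, p2, p3⟩ := hR r (hLmem r hr).1 (hLmem r hr).2
        exact List.mem_map.2 ⟨R r, List.mem_filter.2 ⟨hmem _ p1, by simpa using p3⟩, p2⟩
  have hu' : n * prodU h.cert D.posRoots c * n⁻¹ = prodU h.cert (L.map R) c' := by
    rw [hdrop c hc0, hconj]
  have hmk : ∀ M : List ℕ, (∀ r ∈ M, D.IsPosRoot r) →
      ∃ hm : prodU h.cert M c' ∈ D.posUnipotent F,
        QuotientGroup.mk' (upSub D F J) ⟨_, hm⟩ = (M.map fun r => gX h J r (c' r)).prod := by
    intro M hM
    induction M with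
    | nil => exact ⟨by simp [prodU], map_one _⟩
    | cons k M ih =>
      obtain ⟨hm, e⟩ := ih fun r hr => hM r (List.mem_cons_of_mem _ hr)
      have hk := hM k (List.mem_cons_self ..)
      refine ⟨?_, ?_⟩
      · rw [prodU_cons]
        exact mul_mem (xG_mem_rootsU (S := {r | D.IsPosRoot r}) h.cert hk _) hm
      · rw [List.map_cons, List.prod_cons, ← e, gX_pos h hk, ← map_mul]
        exact congrArg _ (Subtype.ext (prodU_cons h.cert k M c'))
  have hcommute : ∀ x ∈ L.map R, ∀ y ∈ L.map R, Commute (gX h J x (c' x)) (gX h J y (c' y)) := by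
    intro x hx y hy
    obtain ⟨x₀, hx₀, rfl⟩ := List.mem_map.1 hx
    obtain ⟨y₀, hy₀, rfl⟩ := List.mem_map.1 hy
    by_cases hxy : x₀ = y₀
    · subst hxy; exact Commute.refl _
    obtain ⟨x1, x2⟩ := hLmem x₀ hx₀
    obtain ⟨y1, y2⟩ := hLmem y₀ hy₀
    obtain ⟨px, qx, sx⟩ := hR x₀ x1 x2
    obtain ⟨py, qy, sy⟩ := hR y₀ y1 y2
    by_cases hcx : c' (R x₀) = 0
    · simp [hcx, gX_zero, Commute.one_left]
    by_cases hcy : c' (R y₀) = 0
    · simp [hcy, gX_zero, Commute.one_right]
    simp only [c', if_neg sx, qx] at hcx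
    simp only [c', if_neg sy, qy] at hcy
    by_cases hTx : Mem Tm (R x₀)
    · simp [gX_mem h (show R x₀ ∈ J from hTx), Commute.one_left]
    by_cases hTy : Mem Tm (R y₀)
    · simp [gX_mem h (show R y₀ ∈ J from hTy), Commute.one_right]
    refine gX_commute h (fun hne _ _ e he hodd => ?_) _ _
    have hLx : ∀ z z1, c z ≠ 0 → (hz : D.IsPosRoot z) → z1 = R z → ¬ Mem Tm z1 →
        z ∈ T.pos.filter fun x => (nz ||| a).testBit x && !Tm.testBit (T.reflOf i x) := by
      intro z z1 hcz hz hz1 hTz
      refine List.mem_filter.2 ⟨(hT.mem_pos h).2 hz, ?_⟩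
      rw [hrefl z hz, ← hz1]
      simp only [Bool.and_eq_true, Bool.not_eq_true']
      exact ⟨(hc z hz).1 hcz, by simpa [Mem] using hTz⟩
    rcases hpair x₀ (hLx x₀ _ hcx x1 rfl hTx) y₀ (hLx y₀ _ hcy y1 rfl hTy) with hh | hh
    · exact absurd hh hxy
    · rw [hrefl x₀ x1, hrefl y₀ y1] at hh
      refine hh (e.1, e.2.2.1, e.2.2.2) ?_
      rw [← hT.out_eq ((hT.mem_pos h).2 px) ((hT.mem_pos h).2 py) hne]
      exact List.mem_map.2 ⟨e, List.mem_filter.2 ⟨he, by simpa using hodd⟩, rfl⟩
  have hLR : ∀ r ∈ L.map R, D.IsPosRoot r := fun r hr => (hLmem r (hperm.mem_iff.1 hr)).1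
  refine hP n hnm _ (hsub _ ?_ ?_)
  · rw [show n * prodU h.cert D.posRoots c * n⁻¹ * (n * prodU h.cert D.posRoots c * n⁻¹) =
      n * (prodU h.cert D.posRoots c * prodU h.cert D.posRoots c) * n⁻¹ by group, h2, mul_one,
      mul_inv_cancel]
  · obtain ⟨hm, e1⟩ := hmk (L.map R) hLR
    obtain ⟨c'', -, e''⟩ := exists_prodU h.toStd hs (hset ▸ h.toStd.isClosed_pos)
      (show n * prodU h.cert D.posRoots c * n⁻¹ ∈ rootsU D F {r | r ∈ D.posRoots} by
        rw [hset, hu']; exact hm)
    obtain ⟨hm'', e2⟩ := prodU_mk h (J := J) c''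
    obtain ⟨hm', e3⟩ := prodU_mk h (J := J) c'
    obtain ⟨hmL, e4⟩ := hmk L fun r hr => (hLmem r hr).1
    have hq : (D.posRoots.map fun r => gX h J r (c'' r)).prod = (D.posRoots.map fun r => gX h J r (c' r)).prod := by
      rw [← e2, ← e3]
      calc _ = (QuotientGroup.mk' (upSub D F J)) ⟨_, hm⟩ := by
            refine congrArg _ (Subtype.ext ?_)
            show prodU h.cert D.posRoots c'' = prodU h.cert (L.map R) c'
            rw [← e'', hu']
        _ = (QuotientGroup.mk' (upSub D F J)) ⟨_, hmL⟩ := by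
            rw [e1, e4]
            refine List.Perm.prod_eq' (hperm.map _) ?_
            rw [List.pairwise_map]
            exact List.Pairwise.imp_of_mem (fun hx hy _ => hcommute _ hx _ hy)
              ((hperm.nodup_iff.2 (hnd.filter _)))
        _ = _ := congrArg _ (Subtype.ext (hdrop c' (by simp [c'])).symm)
    have hmask : ∀ m r, D.IsPosRoot r → r ≠ D.simple i → ¬ Mem Tm r → Mem m (R r) →
        Mem (reflMask T i Tm m) r := by
      intro m r hr hne hTr hm
      obtain ⟨p1, p2, -⟩ := hR r hr hne
      rw [reflMask, mem_foldr_or (fun x => 2 ^ T.reflOf i x) (fun x => m.testBit x && !Tm.testBit (T.reflOf i x)) T.pos]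
      refine ⟨R r, (hT.mem_pos h).2 p1, ?_, ?_⟩
      · rw [hrefl _ p1, p2]
        simp only [Bool.and_eq_true, Bool.not_eq_true']
        exact ⟨hm, by simpa [Mem] using hTr⟩
      · rw [mem_two_pow, hrefl _ p1, p2]
    refine ⟨c'', e'', fun r hr => ?_⟩
    by_cases hrT : Mem Tm r
    · refine ⟨fun _ => mem_or.2 (Or.inr (mem_or.2 (Or.inr hrT))), fun hh => ?_⟩
      rw [reflMask, mem_foldr_or (fun x => 2 ^ T.reflOf i x) (fun x => nz.testBit x && !Tm.testBit (T.reflOf i x)) T.pos] at hh
      obtain ⟨x, -, hx, hxr⟩ := hh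
      rw [mem_two_pow.1 hxr] at hx
      simp [Mem, hrT] at hx
    · have he := coords_eq h hJ hq hr hrT
      rw [he]
      refine ⟨fun hn => ?_, fun hh => ?_⟩
      · by_cases hrs : r = D.simple i
        · simp [c', hrs] at hn
        · simp only [c', if_neg hrs] at hn
          rw [mem_or, mem_or]
          rcases mem_or.1 ((hc _ (hR r hr hrs).1).1 hn) with hh | hh
          · exact Or.inl (hmask nz r hr hrs hrT hh)
          · exact Or.inr (Or.inl (hmask a r hr hrs hrT hh))
      · rw [reflMask, mem_foldr_or (fun x => 2 ^ T.reflOf i x) (fun x => nz.testBit x && !Tm.testBit (T.reflOf i x)) T.pos] at hh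
        obtain ⟨x, hx, hx', hxr⟩ := hh
        simp only [Bool.and_eq_true, Bool.not_eq_true'] at hx'
        have hxp := (hT.mem_pos h).1 hx
        have hxs : x ≠ D.simple i := fun e => by
          rw [e, ← hp] at hx'
          simp [Mem, Nat.testBit_or, hx'.1] at hpS
        obtain ⟨-, p2, p3⟩ := hR x hxp hxs
        have hrx : r = R x := by rw [← hrefl x hxp]; exact (mem_two_pow.1 hxr).symm
        rw [hrx, show c' (R x) = c x by simp [c', p3, p2]]
        exact (hc x hxp).2 hx'.1

/-! ### Exact rewriting of words with parameters one -/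

/-- A word in positive root elements with parameter `1`. -/
noncomputable def wordU (h : Full D A) (w : List ℕ) : GL D.Idx F :=
  prodU h.cert w fun _ => 1

/-- One rewriting step towards the ordered form. -/
def step (T : Tab) : List ℕ → List ℕ
  | a :: b :: l =>
    if a == b then l else if Nat.blt b a then b :: a :: ((T.out b a).map (·.1) ++ l) else a :: step T (b :: l)
  | l => l

/-- Repeated rewriting. -/
def collect (T : Tab) : ℕ → List ℕ → List ℕ
  | 0, w => w
  | n + 1, w => collect T n (step T w)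

theorem wordU_cons (h : Full D A) (a : ℕ) (w : List ℕ) :
    (wordU h (a :: w) : GL D.Idx F) = xG h.cert a (1 : F) * wordU h w := prodU_cons _ _ _ _

theorem wordU_append (h : Full D A) (v w : List ℕ) :
    (wordU h (v ++ w) : GL D.Idx F) = wordU h v * wordU h w := by
  simp [wordU, prodU]

theorem step_spec (h : Full D A) (hT : T.Valid D) : ∀ w : List ℕ, (∀ r ∈ w, r ∈ T.pos) →
    (∀ r ∈ step T w, r ∈ T.pos) ∧ (wordU h (step T w) : GL D.Idx F) = wordU h w := by
  intro w
  induction w with
  | nil => exact fun hw => ⟨hw, rfl⟩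
  | cons a w ih =>
    intro hw
    cases w with
    | nil => exact ⟨hw, rfl⟩
    | cons b l =>
      have hap := hw a (List.mem_cons_self ..)
      have hbp := hw b (List.mem_cons_of_mem _ (List.mem_cons_self ..))
      rw [step]
      by_cases e1 : a = b
      · subst e1
        rw [if_pos (by simp)]
        refine ⟨fun r hr => hw r (by simp [hr]), ?_⟩
        rw [wordU_cons, wordU_cons, ← mul_assoc, xG_mul, CharTwo.add_self_eq_zero, xG_zero, one_mul]
      rw [if_neg (by simpa using e1)]
      by_cases e2 : b < a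
      · rw [if_pos (by simpa [Nat.blt_eq] using e2)]
        have hne : b ≠ a := Ne.symm e1
        refine ⟨fun r hr => ?_, ?_⟩
        · simp only [List.mem_cons, List.mem_append, List.mem_map] at hr
          rcases hr with rfl | rfl | ⟨c, hc, rfl⟩ | hr
          · exact hbp
          · exact hap
          · exact (hT.out_facts h hbp hap hne hc).1
          · exact hw r (by simp [hr])
        · rw [wordU_cons, wordU_cons, wordU_append, wordU_cons, wordU_cons]
          have hb := (hT.mem_pos h).1 hbp
          have ha := (hT.mem_pos h).1 hap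
          have hf := conj_formula (F := F) h hb ha e1 1 1
          have hW : ((D.commTerms b a).map fun c =>
              xG h.cert c.1 ((c.2.1 : F) * 1 ^ c.2.2.1 * 1 ^ c.2.2.2)).prod = wordU h ((T.out b a).map (·.1)) := by
            rw [← hT.out_eq hbp hap hne, oddTerms]
            generalize D.commTerms b a = l
            induction l with
            | nil => simp [wordU, prodU]
            | cons c l ihl =>
              rw [List.map_cons, List.prod_cons, ihl]
              by_cases hp : c.2.1 % 2 = 0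
              · rw [List.filter_cons_of_neg (by simp [hp]), xG_even_coeff h hp, one_mul]
              · rw [List.filter_cons_of_pos (by simp [hp]), List.map_cons, List.map_cons, wordU_cons,
                  intCast_odd hp, one_pow, one_pow, one_mul, one_mul]
          rw [hW] at hf
          have hbb : (xG h.cert b (1 : F))⁻¹ = xG h.cert b 1 := by rw [xG_inv, CharTwo.neg_eq]
          calc xG h.cert b (1 : F) * (xG h.cert a 1 * (wordU h ((T.out b a).map (·.1)) * wordU h l))
              = xG h.cert b 1 * (xG h.cert b 1 * xG h.cert a 1 * (xG h.cert b 1)⁻¹) * wordU h l := by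
                rw [hf]; group
            _ = (xG h.cert b 1 * xG h.cert b 1) * xG h.cert a 1 * (xG h.cert b 1)⁻¹ * wordU h l := by group
            _ = _ := by
                rw [xG_mul, CharTwo.add_self_eq_zero, xG_zero, hbb]; group
      · rw [if_neg (by simpa [Nat.blt_eq] using e2)]
        obtain ⟨i1, i2⟩ := ih fun r hr => hw r (List.mem_cons_of_mem _ hr)
        refine ⟨fun r hr => ?_, ?_⟩
        · rcases List.mem_cons.1 hr with rfl | hr
          exacts [hap, i1 r hr]
        · rw [wordU_cons, i2, ← wordU_cons]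

theorem collect_spec (h : Full D A) (hT : T.Valid D) : ∀ (n : ℕ) (w : List ℕ), (∀ r ∈ w, r ∈ T.pos) →
    (∀ r ∈ collect T n w, r ∈ T.pos) ∧ (wordU h (collect T n w) : GL D.Idx F) = wordU h w := by
  intro n
  induction n with
  | zero => exact fun w hw => ⟨hw, rfl⟩
  | succ n ih =>
    intro w hw
    obtain ⟨s1, s2⟩ := step_spec (F := F) h hT w hw
    obtain ⟨c1, c2⟩ := ih (step T w) s1
    exact ⟨c1, c2.trans s2⟩

end CfsgLib.OutAut.InvCheck
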