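import Mathlib
import Cfsg.Agent.Lib.OutAut.InvCheck.Weyl
import Cfsg.Agent.Lib.OutAut.ChevSylow

/-!
Reduction certificates for the involutions of `U` and their soundness.
-/

set_option autoImplicit false
set_option linter.unusedSectionVars false
set_option linter.unusedSimpArgs false

namespace CfsgLib.OutAut.InvCheck

open Cfsg.Lie CfsgLib.Chevalley

/-- A reduction tree. -/
inductive Tree
  | hub (k : ℕ)
  | contra (t a b i j : ℕ)
  | zero (t a b i j : ℕ) (sub : Tree)
  | kill (k t b i j : ℕ) (sub : Tree)
  | split (m : ℕ) (x y : Tree)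
  | weyl (i Tm : ℕ) (sub : Tree)

/-- Check a tree at a pattern, given solved patterns. -/
def check (T : Tab) (simples : List ℕ) (hubs : List (ℕ × ℕ)) : ℕ → ℕ → Tree → Bool
  | nz, a, .hub k =>
    match hubs[k]? with
    | some p => p.1 == nz && ((nz ||| a) ||| (nz ||| p.2) == nz ||| p.2)
    | none => false
  | nz, a, .contra t x y i j => zeroOK T (nz ||| a) t x y i j && nz.testBit x && nz.testBit y
  | nz, a, .zero t x y i j sub =>
    zeroOK T (nz ||| a) t x y i j &&
      (if nz.testBit x then check T simples hubs nz (del a y) sub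
       else nz.testBit y && check T simples hubs nz (del a x) sub)
  | nz, a, .kill k t b i j sub =>
    killOK T nz a k t b i j &&
      check T simples hubs (del (sub' nz (killJ T (nz ||| a) k t b)) t)
        (del (a ||| killJ T (nz ||| a) k t b) t) sub
  | nz, a, .split m x y =>
    check T simples hubs nz (del a m) x && check T simples hubs (nz ||| 2 ^ m) (del a m) y
  | nz, a, .weyl i Tm sub =>
    weylOK T simples.length nz a i (simples.getD i 0) Tm &&
      check T simples hubs (reflMask T i Tm nz) (reflMask T i Tm a ||| Tm) sub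

/-- Conjugation of a word by a root element or a fundamental reflection. -/
inductive Move
  | x (k : ℕ)
  | n (i : ℕ)

/-- Apply a move. -/
def Move.apply (T : Tab) (fuel : ℕ) : Move → List ℕ → List ℕ
  | .x k, w => collect T fuel (k :: (w ++ [k]))
  | .n i, w => collect T fuel (w.map (T.reflOf i))

/-- Side conditions of a move. -/
def Move.ok (T : Tab) (simples : List ℕ) : Move → List ℕ → Bool
  | .x k, _ => T.pos.contains k
  | .n i, w => Nat.blt i simples.length && !w.contains (simples.getD i 0)

/-- Apply a list of moves. -/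
def runMoves (T : Tab) (fuel : ℕ) : List Move → List ℕ → List ℕ
  | [], w => w
  | m :: ms, w => runMoves T fuel ms (m.apply T fuel w)

/-- Side conditions of a list of moves. -/
def movesOK (T : Tab) (simples : List ℕ) (fuel : ℕ) : List Move → List ℕ → Bool
  | [], _ => true
  | m :: ms, w => m.ok T simples w && movesOK T simples fuel ms (m.apply T fuel w)

/-- A word is conjugate to another by a list of moves. -/
def linkOK (T : Tab) (simples : List ℕ) (fuel : ℕ) (ms : List Move) (w w' : List ℕ) : Bool :=
  w.all T.pos.contains && movesOK T simples fuel ms w && runMoves T fuel ms w == w'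

/-- Exponents making the parameters of orthogonal roots equal to one. -/
def scaleOK (D : ChevalleyDatum) (T : Tab) (nz : ℕ) (L : List (ℕ × List ℤ)) : Bool :=
  bits T nz == L.map Prod.fst &&
  L.all fun p => L.all fun q =>
    ((List.range D.rank).map fun j => p.2.getD j 0 * D.cartan j q.1).sum == if p.1 == q.1 then 2 else 0

variable {D : ChevalleyDatum} {A : Aux} {T : Tab} {F : Type*} [Field F] [CharP F 2]
  {P : GL D.Idx F → Prop}

theorem simples_get {simples : List ℕ} (hs : simples = (List.range D.rank).map D.simple) {i : ℕ}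
    (hi : i < simples.length) : i < D.rank ∧ simples.getD i 0 = D.simple i := by
  subst hs
  have hi' : i < D.rank := by simpa using hi
  exact ⟨hi', by simp [List.getD_eq_getElem?_getD, List.getElem?_eq_getElem, hi']⟩

theorem sol_of_check (h : Full D A) (hT : T.Valid D) [PerfectRing F 2] (hP : ConjInv D P)
    {simples : List ℕ} (hs : simples = (List.range D.rank).map D.simple) {hubs : List (ℕ × ℕ)}
    (hh : ∀ p ∈ hubs, Sol h P p.1 p.2) :
    ∀ (t : Tree) (nz a : ℕ), check T simples hubs nz a t = true → Sol h P nz a := by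
  intro t
  induction t with
  | hub k =>
    intro nz a hc
    rw [check] at hc
    cases hk : hubs[k]? with
    | none => simp [hk] at hc
    | some p =>
      simp only [hk, Bool.and_eq_true, beq_iff_eq] at hc
      have hp := hh p (List.mem_of_getElem? hk)
      rw [hc.1] at hp
      exact sol_weaken h hc.2 hp
  | contra t x y i j =>
    intro nz a hc
    simp only [check, Bool.and_eq_true] at hc
    refine sol_zero h hT hc.1.1 (Or.inl rfl) (by rw [if_pos rfl]; exact hc.2) (Or.inl hc.1.2)
  | zero t x y i j sub ih =>
    intro nz a hc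
    simp only [check, Bool.and_eq_true] at hc
    obtain ⟨hz, hsub⟩ := hc
    by_cases hx : nz.testBit x = true
    · rw [if_pos hx] at hsub
      refine sol_zero h hT hz (z := y) (Or.inr rfl) ?_ (Or.inr (ih _ _ hsub))
      split_ifs with e
      · simp only [zeroOK, Bool.and_eq_true, Bool.not_eq_true', beq_eq_false_iff_ne] at hz
        exact absurd e.symm hz.1.1.1.1.2
      · exact hx
    · rw [if_neg hx, Bool.and_eq_true] at hsub
      exact sol_zero h hT hz (z := x) (Or.inl rfl) (by rw [if_pos rfl]; exact hsub.1) (Or.inr (ih _ _ hsub.2))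
  | kill k t b i j sub ih =>
    intro nz a hc
    simp only [check, Bool.and_eq_true] at hc
    exact sol_kill h hT hP hc.1 (ih _ _ hc.2)
  | split m x y ihx ihy =>
    intro nz a hc
    simp only [check, Bool.and_eq_true] at hc
    exact sol_split h (ihx _ _ hc.1) (ihy _ _ hc.2)
  | weyl i Tm sub ih =>
    intro nz a hc
    simp only [check, Bool.and_eq_true] at hc
    have hlen : simples.length = D.rank := by simp [hs]
    have hi : i < simples.length := by
      have := hc.1
      simp only [weylOK, Bool.and_eq_true, Nat.blt_eq] at this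
      exact this.1.1.1
    exact sol_weyl h hT hP (hlen ▸ hc.1) (simples_get hs hi).2 (ih _ _ hc.2)

theorem word_of_link (h : Full D A) (hT : T.Valid D) (hP : ConjInv D P)
    {simples : List ℕ} (hs : simples = (List.range D.rank).map D.simple) {fuel : ℕ} {ms : List Move}
    {w w' : List ℕ} (hok : linkOK T simples fuel ms w w' = true) (hw' : P (wordU h w')) :
    P (wordU h w) := by
  simp only [linkOK, Bool.and_eq_true, List.all_eq_true, beq_iff_eq, List.contains_iff_mem] at hok
  obtain ⟨⟨hw, hm⟩, rfl⟩ := hok
  induction ms generalizing w with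
  | nil => exact hw'
  | cons m ms ih =>
    simp only [movesOK, Bool.and_eq_true] at hm
    obtain ⟨hm1, hm2⟩ := hm
    rw [runMoves] at hw'
    cases m with
    | x k =>
      simp only [Move.ok, List.contains_iff_mem] at hm1
      have hall : ∀ r ∈ k :: (w ++ [k]), r ∈ T.pos := by
        intro r hr
        simp only [List.mem_cons, List.mem_append, List.not_mem_nil, or_false] at hr
        rcases hr with rfl | hr | rfl
        exacts [hm1, hw r hr, hm1]
      obtain ⟨c1, c2⟩ := collect_spec (F := F) h hT fuel _ hall
      have hrec := ih c1 hm2 hw'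
      rw [c2, wordU_cons, wordU_append, ← mul_assoc] at hrec
      refine hP (xG h.cert k 1) (xG_mem_group h.cert k 1) _ ?_
      rw [xG_inv, CharTwo.neg_eq]
      simpa [wordU, prodU] using hrec
    | n i =>
      simp only [Move.ok, Bool.and_eq_true, Nat.blt_eq, Bool.not_eq_true', List.contains_eq_mem,
        decide_eq_false_iff_not] at hm1
      obtain ⟨hi, hnot⟩ := hm1
      obtain ⟨hi', hsi⟩ := simples_get hs hi
      rw [hsi] at hnot
      have hmap : ∀ r ∈ w, T.reflOf i r ∈ T.pos ∧ T.reflOf i r = D.reflectRoot i r := by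
        intro r hr
        have hp := (hT.mem_pos h).1 (hw r hr)
        have e := hT.refl_eq hi' hp.1
        refine ⟨?_, e⟩
        rw [e]
        exact (hT.mem_pos h).2 (reflect_facts h ⟨i, hi'⟩ hp (fun e' => hnot (e' ▸ hr))).1
      obtain ⟨c1, c2⟩ := collect_spec (F := F) h hT fuel (w.map (T.reflOf i)) (by
        intro r hr
        obtain ⟨x, hx, rfl⟩ := List.mem_map.1 hr
        exact (hmap x hx).1)
      have hrec := ih c1 hm2 hw'
      rw [c2] at hrec
      refine hP (nG h.cert (D.simple i) 1) (nG_mem_group h.cert _ _) _ ?_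
      have key : ∀ M : List ℕ, (∀ r ∈ M, r ∈ w) →
          nG h.cert (D.simple i) (1 : F) * wordU h M * (nG h.cert (D.simple i) 1)⁻¹ =
            wordU h (M.map (T.reflOf i)) := by
        intro M hM
        induction M with
        | nil => simp [wordU, prodU]
        | cons r M ihM =>
          rw [List.map_cons, wordU_cons, wordU_cons, ← ihM fun x hx => hM x (List.mem_cons_of_mem _ hx),
            (hmap r (hM r (List.mem_cons_self ..))).2,
            ← acts_simple_two h ⟨i, hi'⟩ ⟨r, ((hT.mem_pos h).1 (hw r (hM r (List.mem_cons_self ..)))).1⟩ 1]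
          group
      rw [key w fun r hr => hr]
      exact hrec

/-- A pattern of orthogonal roots reduces to the word with all parameters one. -/
theorem sol_scale (h : Full D A) [PerfectRing F 2] (hT : T.Valid D) (hP : ConjInv D P) {nz : ℕ}
    {L : List (ℕ × List ℤ)} (hok : scaleOK D T nz L = true) (hw : P (wordU h (L.map Prod.fst))) :
    Sol h P nz 0 := by
  classical
  rintro u h2 ⟨c, rfl, hc⟩
  simp only [scaleOK, Bool.and_eq_true, beq_iff_eq, List.all_eq_true] at hok
  obtain ⟨hbits, hsum⟩ := hok
  have hLpos : ∀ p ∈ L, p.1 ∈ T.pos ∧ Mem nz p.1 := fun p hp =>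
    mem_bits.1 (hbits ▸ List.mem_map.2 ⟨p, hp, rfl⟩)
  have hu : prodU h.cert D.posRoots c = prodU h.cert (L.map Prod.fst) c := by
    rw [← hbits, bits, ← hT.pos_eq]
    have hall : ∀ r ∈ T.pos, D.IsPosRoot r := fun r hr => (hT.mem_pos h).1 hr
    revert hall
    generalize T.pos = M
    intro hall
    induction M with
    | nil => rfl
    | cons k M ih =>
      rw [prodU_cons, ih fun r hr => hall r (List.mem_cons_of_mem _ hr)]
      by_cases hk : Mem nz k
      · rw [List.filter_cons_of_pos (by exact hk), prodU_cons]
      · rw [List.filter_cons_of_neg (by exact hk)]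
        have : c k = 0 := by
          by_contra hne
          have hh := (hc k (hall k (List.mem_cons_self ..))).1 hne
          rw [mem_or] at hh
          exact hk (hh.resolve_right not_mem_zero)
        rw [this, xG_zero, one_mul]
  have hne : ∀ p ∈ L, c p.1 ≠ 0 := fun p hp =>
    (hc _ ((hT.mem_pos h).1 (hLpos p hp).1)).2 (hLpos p hp).2
  have hnd : (L.map Prod.fst).Nodup := by
    rw [← hbits, bits, hT.pos_eq]
    exact (h.toStd.posList.1.imp fun hh => Nat.ne_of_lt hh).filter _
  let b : ℕ → Fˣ := fun r =>
    if hr : c r = 0 then 1 else Units.mk0 ((frobeniusEquiv F 2).symm (c r)⁻¹)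
      (fun hz => hr (by
        have := congrArg (fun x => x ^ 2) hz
        simp only [frobeniusEquiv_symm_pow_p, zero_pow two_ne_zero, inv_eq_zero] at this
        exact this))
  have hb : ∀ r, c r ≠ 0 → ((b r : Fˣ) : F) ^ 2 * c r = 1 := by
    intro r hr
    simp only [b, dif_neg hr, Units.val_mk0]
    rw [frobeniusEquiv_symm_pow_p, inv_mul_cancel₀ hr]
  let vec : ℕ × List ℤ → (Fin D.rank → Fˣ) := fun p j => b p.1 ^ p.2.getD (j : ℕ) 0
  set d : Fin D.rank → Fˣ := (L.map vec).prod with hd
  have hchi : ∀ q ∈ L, chi D q.1 d = b q.1 ^ (2 : ℤ) := by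
    intro q hq
    rw [hd, map_list_prod, List.map_map]
    have hone : ∀ p ∈ L, (chi D q.1 ∘ vec) p = if p.1 = q.1 then b q.1 ^ (2 : ℤ) else 1 := by
      intro p hp
      show ∏ j : Fin D.rank, (b p.1 ^ p.2.getD (j : ℕ) 0) ^ D.cartan j q.1 = _
      simp only [← zpow_mul]
      rw [show ∀ (s : Finset (Fin D.rank)) (g : Fin D.rank → ℤ) (x : Fˣ),
          ∏ j ∈ s, x ^ g j = x ^ ∑ j ∈ s, g j from fun s g x => by
            induction s using Finset.cons_induction with
            | empty => simp
            | cons a s ha ih => rw [Finset.prod_cons, Finset.sum_cons, zpow_add, ih]]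
      have e : ∑ j : Fin D.rank, p.2.getD (j : ℕ) 0 * D.cartan j q.1 =
          if p.1 = q.1 then (2 : ℤ) else 0 := by
        rw [← hsum p hp q hq, ← List.sum_toFinset _ List.nodup_range,
          List.toFinset_range, ← Fin.sum_univ_eq_sum_range (fun j => p.2.getD j 0 * D.cartan j q.1)]
      rw [e]
      by_cases hpq : p.1 = q.1
      · simp [hpq]
      · simp [hpq]
    rw [List.map_congr_left hone]
    clear hsum hd hu hw hc hbits hLpos hne hone
    induction L with
    | nil => simp at hq
    | cons p L ih =>
      rw [List.map_cons, List.prod_cons]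
      rw [List.map_cons, List.nodup_cons] at hnd
      rcases List.mem_cons.1 hq with rfl | hq'
      · rw [if_pos rfl, List.prod_eq_one (fun x hx => ?_), mul_one]
        obtain ⟨y, hy, rfl⟩ := List.mem_map.1 hx
        rw [if_neg fun e : y.1 = q.1 => hnd.1 (e ▸ List.mem_map.2 ⟨y, hy, rfl⟩)]
      · rw [if_neg fun e : p.1 = q.1 => hnd.1 (e ▸ List.mem_map.2 ⟨q, hq', rfl⟩), one_mul]
        exact ih hnd.2 hq'
  refine hP (torusHom D F d) (diagonal_le_group h.cert (torus_mem_diagonal h d)) _ ?_
  rw [hu]
  have key : ∀ M : List (ℕ × List ℤ), (∀ p ∈ M, p ∈ L) →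
      torusHom D F d * prodU h.cert (M.map Prod.fst) c * (torusHom D F d)⁻¹ =
        wordU h (M.map Prod.fst) := by
    intro M hM
    induction M with
    | nil => simp [prodU, wordU]
    | cons p M ih =>
      have hp := hM p (List.mem_cons_self ..)
      rw [List.map_cons, wordU_cons, prodU_cons, ← ih fun x hx => hM x (List.mem_cons_of_mem _ hx),
        show torusHom D F d * (xG h.cert p.1 (c p.1) * prodU h.cert (M.map Prod.fst) c) * (torusHom D F d)⁻¹ =
          torusHom D F d * xG h.cert p.1 (c p.1) * (torusHom D F d)⁻¹ *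
          (torusHom D F d * prodU h.cert (M.map Prod.fst) c * (torusHom D F d)⁻¹) by group]
      congr 1
      have hlt := ((hT.mem_pos h).1 (hLpos p hp).1).1
      rw [show p.1 = ((⟨p.1, hlt⟩ : Fin D.nroots) : ℕ) from rfl, (acts_torus h.cert d).conj,
        Equiv.Perm.one_apply]
      congr 1
      show ((chi D p.1 d : Fˣ) : F) * c p.1 = 1
      rw [hchi p hp, Units.val_zpow_eq_zpow_val, zpow_ofNat]
      exact hb _ (hne p hp)
  rw [key L fun p hp => hp]
  exact hw

/-- Every involution of the group satisfies `P`, if the top pattern is solved. -/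
theorem all_of_top (h : Full D A) [Fintype F] (hP : ConjInv D P) {all : ℕ}
    (hall : ∀ r, D.IsPosRoot r → Mem all r) (hsol : Sol h P 0 all) :
    ∀ g ∈ D.group F, g * g = 1 → P g := by
  intro g hg h2
  obtain ⟨x, hx, hxU⟩ := exists_conj_mem_posUnipotent h hg (k := 1) (by rw [pow_one, sq, h2])
  refine hP x hx g (hsol _ ?_ (holds_top h hxU hall))
  rw [show x * g * x⁻¹ * (x * g * x⁻¹) = x * (g * g) * x⁻¹ by group, h2, mul_one, mul_inv_cancel]

end CfsgLib.OutAut.InvCheck

namespace CfsgLib.OutAut.InvCheck

open Cfsg.Lie CfsgLib.Chevalley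

/-- The entries check in order, each one against the previous ones. -/
def Chain (T : Tab) (simples : List ℕ) : List (ℕ × ℕ) → List (ℕ × ℕ × Tree) → Prop
  | _, [] => True
  | base, e :: r => check T simples base e.1 e.2.1 e.2.2 = true ∧ Chain T simples (base ++ [(e.1, e.2.1)]) r

theorem sol_chain {D : ChevalleyDatum} {A : Aux} {T : Tab} {F : Type*} [Field F] [CharP F 2]
    [PerfectRing F 2] {P : GL D.Idx F → Prop} (h : Full D A) (hT : T.Valid D) (hP : ConjInv D P)
    {simples : List ℕ} (hs : simples = (List.range D.rank).map D.simple) :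
    ∀ (entries : List (ℕ × ℕ × Tree)) (base : List (ℕ × ℕ)), Chain T simples base entries →
      (∀ p ∈ base, Sol h P p.1 p.2) → ∀ e ∈ entries, Sol h P e.1 e.2.1 := by
  intro entries
  induction entries with
  | nil => intro _ _ _ e he; exact absurd he List.not_mem_nil
  | cons e r ih =>
    intro base hc hb x hx
    obtain ⟨h1, h2⟩ := hc
    have he := sol_of_check h hT hP hs hb e.2.2 e.1 e.2.1 h1
    rcases List.mem_cons.1 hx with rfl | hx
    · exact he
    · refine ih _ h2 (fun p hp => ?_) x hx
      rcases List.mem_append.1 hp with hp | hp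
      · exact hb p hp
      · rw [List.mem_singleton.1 hp]
        exact he

end CfsgLib.OutAut.InvCheck
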