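import Mathlib
import Cfsg.Agent.Lib.OutAut.InvCheck.Cert
import Cfsg.Agent.Lib.OutAut.InvCheck.TabE6

/-!
Reduction certificate for the involutions of `E6` in characteristic two.
-/

set_option autoImplicit false
set_option maxRecDepth 100000
set_option maxHeartbeats 0

namespace CfsgLib.OutAut.InvCheck.E6

open Cfsg.Lie CfsgLib.Chevalley

/-- The fundamental roots. -/
def simples : List ℕ := [56, 46, 42, 39, 37, 36]

/-- The terminal patterns. -/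
def terminals : List (ℕ × ℕ) := [(37155315401097216, 0), (1126518382133248, 0), (618475290624, 0), (68719476736, 0), (0, 0)]

/-- Certificate 0. -/
def tree0 : Tree :=
  .zero 38 36 37 1 1 (.zero 45 41 42 1 1 (.zero 52 42 49 1 1 (.zero 55 37 54 1 1 (.zero 66 37 65 1 1 (.kill 36 38 37 1 1 (.kill 41 45 42 1 1 (.kill 49 52 42 1 1 (.kill 54 55 37 1 1 (.split 60 (.split 63 (.kill 65 66 37 1 1 (.zero 69 37 68 1 1 (.kill 68 69 37 1 1 (.split 70 (.split 71 (.weyl 5 0 (.weyl 4 0 (.weyl 3 0 (.weyl 2 0 (.hub 2))))) (.weyl 1 0 (.weyl 3 0 (.weyl 2 0 (.weyl 4 0 (.weyl 3 0 (.weyl 5 0 (.weyl 4 0 (.weyl 3 0 (.weyl 2 0 (.weyl 0 0 (.hub 1)))))))))))) (.kill 46 71 70 1 1 (.weyl 3 0 (.weyl 2 0 (.weyl 4 0 (.weyl 3 0 (.weyl 5 0 (.weyl 4 0 (.weyl 3 0 (.weyl 2 0 (.weyl 0 0 (.hub 1))))))))))))))) (.kill 65 66 37 1 1 (.zero 69 37 68 1 1 (.kill 68 69 37 1 1 (.split 70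 (.kill 53 71 63 1 1 (.weyl 5 0 (.weyl 4 0 (.weyl 3 0 (.weyl 2 0 (.weyl 0 0 (.hub 1))))))) (.kill 53 71 63 1 1 (.weyl 5 0 (.weyl 4 0 (.weyl 3 0 (.weyl 2 0 (.weyl 0 0 (.hub 0)))))))))))) (.kill 46 63 60 1 1 (.kill 65 66 37 1 1 (.zero 69 37 68 1 1 (.kill 68 69 37 1 1 (.kill 53 70 60 1 1 (.split 71 (.weyl 1 0 (.weyl 5 0 (.weyl 4 0 (.weyl 3 0 (.weyl 2 0 (.weyl 0 0 (.hub 1))))))) (.weyl 1 0 (.weyl 5 0 (.weyl 4 0 (.weyl 3 0 (.weyl 2 0 (.weyl 0 0 (.hub 0))))))))))))))))))))))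

/-- Certificate 1. -/
def tree1 : Tree :=
  .zero 38 36 37 1 1 (.zero 45 41 42 1 1 (.kill 36 38 37 1 1 (.kill 41 45 42 1 1 (.zero 52 42 49 1 1 (.zero 55 37 54 1 1 (.zero 63 46 60 1 1 (.zero 66 37 65 1 1 (.kill 49 52 42 1 1 (.kill 54 55 37 1 1 (.kill 60 63 46 1 1 (.kill 65 66 37 1 1 (.zero 69 37 68 1 1 (.zero 71 46 70 1 1 (.kill 68 69 37 1 1 (.kill 70 71 46 1 1 (.weyl 5 0 (.weyl 4 0 (.weyl 3 0 (.weyl 1 0 (.hub 1))))))))))))))))))))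

/-- Certificate 2. -/
def tree2 : Tree :=
  .zero 38 36 37 1 1 (.zero 45 41 42 1 1 (.kill 36 38 37 1 1 (.kill 41 45 42 1 1 (.zero 52 42 49 1 1 (.zero 55 37 54 1 1 (.zero 63 46 60 1 1 (.zero 66 37 65 1 1 (.kill 49 52 42 1 1 (.kill 54 55 37 1 1 (.kill 60 63 46 1 1 (.kill 65 66 37 1 1 (.zero 69 37 68 1 1 (.zero 71 46 70 1 1 (.kill 68 69 37 1 1 (.kill 70 71 46 1 1 (.weyl 5 0 (.weyl 4 0 (.weyl 3 0 (.weyl 1 0 (.hub 0))))))))))))))))))))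

/-- Certificate 3. -/
def tree3 : Tree :=
  .zero 40 37 39 1 1 (.kill 37 40 39 1 1 (.zero 53 39 51 1 1 (.zero 64 39 62 1 1 (.zero 67 50 59 1 1 (.zero 41 38 39 1 1 (.split 44 (.split 48 (.kill 51 53 39 1 1 (.kill 62 64 39 1 1 (.kill 59 67 50 1 1 (.weyl 0 4548334483146113286144 (.weyl 1 4548334483146113286144 (.weyl 2 4548334483146113286144 (.weyl 3 4548334483146113286144 (.weyl 1 4548334483146113286144 (.weyl 2 4548334483146113286144 (.weyl 4 4548334483146113286144 (.weyl 3 4548334483146113286144 (.weyl 2 4548334483146113286144 (.weyl 0 4548334483146113286144 (.hub 5)))))))))))))) (.zero 49 36 48 1 1 (.kill 51 53 39 1 1 (.kill 62 64 39 1 1 (.kill 59 67 50 1 1 (.weyl 1 4548334483146113286144 (.weyl 3 4548334483146113286144 (.hub 6)))))))) (.zero 45 36 44 1 1 (.split 48 (.kill 51 53 39 1 1 (.kill 62 64 39 1 1 (.kill 59 67 50 1 1 (.weyl 2 4548334483146113286144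 (.weyl 3 4548334483146113286144 (.hub 6)))))) (.kill 51 53 39 1 1 (.kill 62 64 39 1 1 (.kill 59 67 50 1 1 (.weyl 1 4548334483146113286144 (.weyl 3 4548334483146113286144 (.hub 7))))))))))))))

/-- Certificate 4. -/
def tree4 : Tree :=
  .zero 47 39 46 1 1 (.zero 61 50 56 1 1 (.zero 40 37 39 1 1 (.zero 59 44 56 1 1 (.zero 53 39 51 1 1 (.kill 46 47 39 1 1 (.zero 53 39 51 1 1 (.kill 50 61 56 1 1 (.weyl 1 4719554885883411824640 (.weyl 2 4719554885883411824640 (.weyl 0 4719554885883411824640 (.weyl 3 4719554885883411824640 (.weyl 2 4719554885883411824640 (.weyl 0 4719554885883411824640 (.hub 8))))))))))))))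

/-- Certificate 5. -/
def tree5 : Tree :=
  .zero 38 36 37 1 1 (.zero 55 37 54 1 1 (.zero 66 37 65 1 1 (.zero 69 37 68 1 1 (.kill 36 38 37 1 1 (.split 41 (.split 45 (.split 49 (.split 52 (.kill 54 55 37 1 1 (.split 60 (.split 63 (.kill 65 66 37 1 1 (.kill 68 69 37 1 1 (.split 70 (.split 71 (.weyl 5 0 (.weyl 4 0 (.hub 3))) (.weyl 1 0 (.weyl 3 0 (.weyl 1 0 (.weyl 2 0 (.weyl 0 0 (.weyl 3 0 (.weyl 4 0 (.weyl 3 0 (.weyl 1 0 (.weyl 2 0 (.weyl 0 0 (.weyl 3 0 (.weyl 2 0 (.weyl 4 0 (.hub 2)))))))))))))))) (.kill 46 71 70 1 1 (.weyl 3 0 (.weyl 1 0 (.weyl 2 0 (.weyl 0 0 (.weyl 3 0 (.weyl 4 0 (.weyl 3 0 (.weyl 1 0 (.weyl 2 0 (.weyl 0 0 (.weyl 3 0 (.weyl 2 0 (.weyl 4 0 (.hub 2)))))))))))))))))) (.kill 65 66 37 1 1 (.kill 68 69 37 1 1 (.split 70 (.kill 53 71 63 1 1 (.weyl 0 0 (.weyl 1 0 (.weyl 2 0 (.weyl 3 0 (.weyl 4 0 (.hub 2))))))) (.kill 53 71 63 1 1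 (.weyl 0 0 (.weyl 3 0 (.weyl 4 0 (.weyl 5 0 (.weyl 4 0 (.weyl 3 0 (.weyl 1 0 (.weyl 2 0 (.weyl 0 0 (.weyl 3 0 (.weyl 4 0 (.hub 1))))))))))))))))) (.kill 46 63 60 1 1 (.kill 65 66 37 1 1 (.kill 68 69 37 1 1 (.kill 53 70 60 1 1 (.split 71 (.weyl 0 0 (.weyl 2 0 (.weyl 3 0 (.weyl 4 0 (.hub 2))))) (.weyl 0 0 (.weyl 1 0 (.weyl 3 0 (.weyl 4 0 (.weyl 5 0 (.weyl 4 0 (.weyl 3 0 (.weyl 1 0 (.weyl 2 0 (.weyl 0 0 (.weyl 3 0 (.weyl 4 0 (.hub 1)))))))))))))))))))) (.kill 54 55 37 1 1 (.split 60 (.kill 56 63 52 1 1 (.kill 65 66 37 1 1 (.kill 68 69 37 1 1 (.split 70 (.kill 64 71 52 1 1 (.weyl 1 0 (.weyl 2 0 (.weyl 3 0 (.weyl 4 0 (.hub 2)))))) (.kill 64 71 52 1 1 (.weyl 3 0 (.weyl 4 0 (.weyl 5 0 (.weyl 4 0 (.weyl 3 0 (.weyl 1 0 (.weyl 2 0 (.weyl 0 0 (.weyl 3 0 (.weyl 4 0 (.hub 1)))))))))))))))) (.kill 56 63 52 1 1 (.kill 65 66 37 1 1 (.kill 68 69 37 1 1 (.kill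 53 70 60 1 1 (.kill 64 71 52 1 1 (.weyl 0 0 (.weyl 2 0 (.weyl 0 0 (.weyl 5 0 (.weyl 4 0 (.hub 1)))))))))))))) (.kill 42 52 49 1 1 (.kill 54 55 37 1 1 (.split 60 (.kill 57 63 49 1 1 (.kill 65 66 37 1 1 (.kill 68 69 37 1 1 (.split 70 (.kill 67 71 49 1 1 (.weyl 1 0 (.weyl 3 0 (.weyl 4 0 (.hub 2))))) (.kill 67 71 49 1 1 (.weyl 2 0 (.weyl 3 0 (.weyl 4 0 (.weyl 5 0 (.weyl 4 0 (.weyl 3 0 (.weyl 1 0 (.weyl 2 0 (.weyl 0 0 (.weyl 3 0 (.weyl 4 0 (.hub 1))))))))))))))))) (.kill 57 63 49 1 1 (.kill 65 66 37 1 1 (.kill 68 69 37 1 1 (.kill 53 70 60 1 1 (.kill 67 71 49 1 1 (.weyl 0 0 (.weyl 1 0 (.weyl 5 0 (.weyl 4 0 (.hub 1)))))))))))))) (.split 49 (.kill 46 52 45 1 1 (.zero 66 37 65 1 1 (.zero 69 37 68 1 1 (.kill 54 55 37 1 1 (.kill 56 60 45 1 1 (.split 63 (.kill 65 66 37 1 1 (.kill 68 69 37 1 1 (.kill 64 70 45 1 1 (.split 71 (.weyl 2 0 (.weyl 3 0 (.weyl 4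 0 (.hub 2)))) (.weyl 1 0 (.weyl 3 0 (.weyl 4 0 (.weyl 5 0 (.weyl 4 0 (.weyl 3 0 (.weyl 1 0 (.weyl 2 0 (.weyl 0 0 (.weyl 3 0 (.weyl 4 0 (.hub 1)))))))))))))))) (.kill 65 66 37 1 1 (.kill 68 69 37 1 1 (.kill 64 70 45 1 1 (.kill 53 71 63 1 1 (.weyl 2 0 (.weyl 0 0 (.weyl 5 0 (.weyl 4 0 (.hub 1))))))))))))))) (.kill 42 52 49 1 1 (.kill 54 55 37 1 1 (.kill 56 60 45 1 1 (.kill 57 63 49 1 1 (.kill 65 66 37 1 1 (.kill 68 69 37 1 1 (.kill 64 70 45 1 1 (.kill 67 71 49 1 1 (.weyl 1 0 (.weyl 5 0 (.weyl 4 0 (.hub 1)))))))))))))) (.kill 42 45 41 1 1 (.zero 55 37 54 1 1 (.zero 66 37 65 1 1 (.zero 69 37 68 1 1 (.kill 46 49 41 1 1 (.zero 66 37 65 1 1 (.zero 69 37 68 1 1 (.split 52 (.kill 54 55 37 1 1 (.kill 57 60 41 1 1 (.split 63 (.kill 65 66 37 1 1 (.kill 68 69 37 1 1 (.kill 67 70 41 1 1 (.split 71 (.weyl 3 0 (.weyl 4 0 (.hub 2))) (.weyl 1 0 (.weyl 2 0 (.weyl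 3 0 (.weyl 4 0 (.weyl 5 0 (.weyl 4 0 (.weyl 3 0 (.weyl 1 0 (.weyl 2 0 (.weyl 0 0 (.weyl 3 0 (.weyl 4 0 (.hub 1))))))))))))))))) (.kill 65 66 37 1 1 (.kill 68 69 37 1 1 (.kill 67 70 41 1 1 (.kill 53 71 63 1 1 (.weyl 0 0 (.weyl 5 0 (.weyl 4 0 (.hub 1))))))))))) (.kill 54 55 37 1 1 (.kill 57 60 41 1 1 (.kill 56 63 52 1 1 (.kill 65 66 37 1 1 (.kill 68 69 37 1 1 (.kill 67 70 41 1 1 (.kill 64 71 52 1 1 (.weyl 5 0 (.weyl 4 0 (.hub 1)))))))))))))))))))))))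

/-- Certificate 6. -/
def tree6 : Tree :=
  .zero 38 36 37 1 1 (.zero 49 41 46 1 1 (.zero 52 45 46 1 1 (.zero 55 37 54 1 1 (.zero 63 46 60 1 1 (.zero 66 37 65 1 1 (.zero 69 37 68 1 1 (.zero 71 46 70 1 1 (.kill 36 38 37 1 1 (.kill 41 49 46 1 1 (.kill 45 52 46 1 1 (.kill 54 55 37 1 1 (.kill 60 63 46 1 1 (.kill 65 66 37 1 1 (.kill 68 69 37 1 1 (.kill 70 71 46 1 1 (.weyl 5 0 (.weyl 4 0 (.weyl 3 0 (.weyl 1 0 (.hub 2))))))))))))))))))))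

/-- Certificate 7. -/
def tree7 : Tree :=
  .zero 40 37 39 1 1 (.zero 53 39 51 1 1 (.zero 64 39 62 1 1 (.kill 37 40 39 1 1 (.zero 41 38 39 1 1 (.split 44 (.split 48 (.kill 51 53 39 1 1 (.zero 54 39 52 1 1 (.split 59 (.kill 62 64 39 1 1 (.zero 65 39 63 1 1 (.split 67 (.weyl 4 4548334483146113286144 (.weyl 3 4548334483146113286144 (.hub 10))) (.weyl 1 4548334483146113286144 (.weyl 2 4548334483146113286144 (.weyl 0 4548334483146113286144 (.weyl 3 4548334483146113286144 (.weyl 1 4548334483146113286144 (.weyl 2 4548334483146113286144 (.weyl 0 4548334483146113286144 (.weyl 3 4548334483146113286144 (.hub 5)))))))))))) (.zero 60 36 59 1 1 (.zero 65 39 63 1 1 (.zero 66 49 59 1 1 (.kill 62 64 39 1 1 (.kill 50 67 59 1 1 (.weyl 0 4548334483146113286144 (.weyl 2 4548334483146113286144 (.weyl 3 4548334483146113286144 (.hub 5)))))))))))) (.zero 49 36 48 1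 1 (.zero 54 39 52 1 1 (.zero 55 45 48 1 1 (.zero 65 39 63 1 1 (.kill 51 53 39 1 1 (.split 59 (.zero 66 48 60 1 1 (.kill 62 64 39 1 1 (.split 67 (.weyl 1 4548334483146113286144 (.weyl 3 4548334483146113286144 (.hub 11))) (.weyl 1 4548334483146113286144 (.weyl 2 4548334483146113286144 (.weyl 3 4548334483146113286144 (.weyl 1 4548334483146113286144 (.weyl 2 4548334483146113286144 (.weyl 0 4548334483146113286144 (.weyl 4 4548334483146113286144 (.weyl 3 4548334483146113286144 (.hub 6)))))))))))) (.kill 62 64 39 1 1 (.kill 50 67 59 1 1 (.weyl 0 4548334483146113286144 (.weyl 4 4548334483146113286144 (.weyl 3 4548334483146113286144 (.hub 6))))))))))))) (.zero 45 36 44 1 1 (.zero 54 39 52 1 1 (.zero 65 39 63 1 1 (.split 48 (.zero 55 44 49 1 1 (.kill 51 53 39 1 1 (.kill 56 59 44 1 1 (.zero 65 39 63 1 1 (.kill 62 64 39 1 1 (.kill 61 67 44 1 1 (.weyl 2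 4548334483146113286144 (.weyl 3 4548334483146113286144 (.hub 5))))))))) (.kill 51 53 39 1 1 (.kill 56 59 44 1 1 (.zero 65 39 63 1 1 (.kill 62 64 39 1 1 (.kill 61 67 44 1 1 (.weyl 4 4548334483146113286144 (.weyl 3 4548334483146113286144 (.hub 6)))))))))))))))))

/-- Certificate 8. -/
def tree8 : Tree :=
  .zero 47 39 46 1 1 (.zero 40 37 39 1 1 (.kill 46 47 39 1 1 (.split 50 (.zero 53 39 51 1 1 (.split 61 (.hub 12) (.weyl 0 4719554885883411824640 (.hub 8)))) (.kill 56 61 50 1 1 (.hub 8)))))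

/-- Certificate 9. -/
def tree9 : Tree :=
  .zero 43 39 42 1 1 (.kill 39 43 42 1 1 (.zero 50 42 47 1 1 (.zero 44 40 42 1 1 (.split 58 (.weyl 3 4721862065898764894208 (.weyl 2 4721862065898764894208 (.hub 13))) (.weyl 0 4721862065898764894208 (.weyl 2 4721862065898764894208 (.hub 9)))))))

/-- Certificate 10. -/
def tree10 : Tree :=
  .zero 57 42 56 1 1 (.kill 42 57 56 1 1 (.weyl 2 4722150305620765442048 (.weyl 0 4722150305620765442048 (.hub 14))))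

/-- Certificate 11. -/
def tree11 : Tree :=
  .split 36 (.split 38 (.split 41 (.split 45 (.split 49 (.split 52 (.split 54 (.split 55 (.split 60 (.split 63 (.split 65 (.split 66 (.split 68 (.split 69 (.split 70 (.split 71 (.hub 4) (.weyl 1 0 (.weyl 3 0 (.weyl 2 0 (.weyl 0 0 (.weyl 4 0 (.weyl 3 0 (.weyl 1 0 (.weyl 2 0 (.weyl 3 0 (.weyl 4 0 (.hub 3)))))))))))) (.kill 46 71 70 1 1 (.weyl 3 0 (.weyl 2 0 (.weyl 0 0 (.weyl 4 0 (.weyl 3 0 (.weyl 1 0 (.weyl 2 0 (.weyl 3 0 (.weyl 4 0 (.hub 3)))))))))))) (.kill 39 70 69 1 1 (.kill 47 71 69 1 1 (.weyl 2 0 (.weyl 0 0 (.weyl 4 0 (.weyl 3 0 (.weyl 1 0 (.weyl 2 0 (.weyl 3 0 (.weyl 4 0 (.hub 3)))))))))))) (.kill 37 69 68 1 1 (.kill 40 70 68 1 1 (.kill 48 71 68 1 1 (.weyl 2 0 (.weyl 0 0 (.weyl 3 0 (.weyl 1 0 (.weyl 2 0 (.weyl 3 0 (.weyl 4 0 (.hub 3)))))))))))) (.split 68 (.kill 42 69 66 1 1 (.kill 43 70 66 1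 1 (.kill 50 71 66 1 1 (.weyl 0 0 (.weyl 4 0 (.weyl 3 0 (.weyl 1 0 (.weyl 2 0 (.weyl 3 0 (.weyl 4 0 (.hub 3))))))))))) (.kill 42 69 66 1 1 (.kill 43 70 66 1 1 (.kill 50 71 66 1 1 (.weyl 0 0 (.weyl 2 0 (.weyl 5 0 (.weyl 4 0 (.weyl 3 0 (.weyl 1 0 (.weyl 2 0 (.weyl 0 0 (.weyl 3 0 (.weyl 2 0 (.weyl 4 0 (.hub 2))))))))))))))))) (.kill 37 66 65 1 1 (.kill 42 68 65 1 1 (.split 69 (.kill 44 70 65 1 1 (.kill 51 71 65 1 1 (.weyl 0 0 (.weyl 3 0 (.weyl 1 0 (.weyl 2 0 (.weyl 3 0 (.weyl 4 0 (.hub 3))))))))) (.kill 44 70 65 1 1 (.kill 51 71 65 1 1 (.weyl 0 0 (.weyl 2 0 (.weyl 0 0 (.weyl 5 0 (.weyl 4 0 (.weyl 3 0 (.weyl 1 0 (.weyl 2 0 (.weyl 0 0 (.weyl 3 0 (.weyl 2 0 (.weyl 4 0 (.hub 2))))))))))))))))))) (.kill 39 65 63 1 1 (.kill 40 66 63 1 1 (.kill 43 68 63 1 1 (.kill 44 69 63 1 1 (.split 70 (.kill 53 71 63 1 1 (.weyl 0 0 (.weyl 1 0 (.weyl 2 0 (.weyl 3 0 (.weyl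 4 0 (.hub 3))))))) (.kill 53 71 63 1 1 (.weyl 0 0 (.weyl 3 0 (.weyl 2 0 (.weyl 0 0 (.weyl 5 0 (.weyl 4 0 (.weyl 3 0 (.weyl 1 0 (.weyl 2 0 (.weyl 0 0 (.weyl 3 0 (.weyl 2 0 (.weyl 4 0 (.hub 2))))))))))))))))))))) (.kill 46 63 60 1 1 (.kill 47 65 60 1 1 (.kill 48 66 60 1 1 (.kill 50 68 60 1 1 (.kill 51 69 60 1 1 (.kill 53 70 60 1 1 (.split 71 (.weyl 0 0 (.weyl 2 0 (.weyl 3 0 (.weyl 4 0 (.hub 3))))) (.weyl 0 0 (.weyl 1 0 (.weyl 3 0 (.weyl 2 0 (.weyl 0 0 (.weyl 5 0 (.weyl 4 0 (.weyl 3 0 (.weyl 1 0 (.weyl 2 0 (.weyl 0 0 (.weyl 3 0 (.weyl 2 0 (.weyl 4 0 (.hub 2))))))))))))))))))))))) (.split 60 (.split 63 (.split 65 (.kill 56 66 55 1 1 (.split 68 (.kill 57 69 55 1 1 (.kill 58 70 55 1 1 (.kill 61 71 55 1 1 (.weyl 4 0 (.weyl 3 0 (.weyl 1 0 (.weyl 2 0 (.weyl 3 0 (.weyl 4 0 (.hub 3)))))))))) (.kill 57 69 55 1 1 (.kill 58 70 55 1 1 (.kill 61 71 55 1 1 (.weyl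 2 0 (.weyl 5 0 (.weyl 4 0 (.weyl 3 0 (.weyl 1 0 (.weyl 2 0 (.weyl 0 0 (.weyl 3 0 (.weyl 2 0 (.weyl 4 0 (.hub 2)))))))))))))))) (.kill 56 66 55 1 1 (.kill 42 68 65 1 1 (.kill 57 69 55 1 1 (.kill 58 70 55 1 1 (.kill 61 71 55 1 1 (.weyl 5 0 (.weyl 4 0 (.weyl 3 0 (.weyl 1 0 (.weyl 2 0 (.weyl 0 0 (.weyl 3 0 (.weyl 2 0 (.weyl 4 0 (.hub 2)))))))))))))))) (.kill 39 65 63 1 1 (.kill 56 66 55 1 1 (.kill 43 68 63 1 1 (.kill 57 69 55 1 1 (.kill 58 70 55 1 1 (.kill 61 71 55 1 1 (.weyl 3 0 (.weyl 5 0 (.weyl 4 0 (.weyl 3 0 (.weyl 1 0 (.weyl 2 0 (.weyl 0 0 (.weyl 3 0 (.weyl 2 0 (.weyl 4 0 (.hub 2)))))))))))))))))) (.kill 46 63 60 1 1 (.kill 47 65 60 1 1 (.kill 56 66 55 1 1 (.kill 50 68 60 1 1 (.kill 57 69 55 1 1 (.kill 58 70 55 1 1 (.kill 61 71 55 1 1 (.weyl 1 0 (.weyl 3 0 (.weyl 5 0 (.weyl 4 0 (.weyl 3 0 (.weyl 1 0 (.weyl 2 0 (.weyl 0 0 (.weyl 3 0 (.weyl 2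 0 (.weyl 4 0 (.hub 2))))))))))))))))))))) (.kill 37 55 54 1 1 (.split 60 (.split 63 (.kill 56 65 54 1 1 (.split 66 (.kill 57 68 54 1 1 (.split 69 (.kill 59 70 54 1 1 (.kill 62 71 54 1 1 (.weyl 3 0 (.weyl 1 0 (.weyl 2 0 (.weyl 3 0 (.weyl 4 0 (.hub 3)))))))) (.kill 59 70 54 1 1 (.kill 62 71 54 1 1 (.weyl 2 0 (.weyl 0 0 (.weyl 5 0 (.weyl 4 0 (.weyl 3 0 (.weyl 1 0 (.weyl 2 0 (.weyl 0 0 (.weyl 3 0 (.weyl 2 0 (.weyl 4 0 (.hub 2)))))))))))))))) (.kill 57 68 54 1 1 (.kill 42 69 66 1 1 (.kill 59 70 54 1 1 (.kill 62 71 54 1 1 (.weyl 0 0 (.weyl 5 0 (.weyl 4 0 (.weyl 3 0 (.weyl 1 0 (.weyl 2 0 (.weyl 0 0 (.weyl 3 0 (.weyl 2 0 (.weyl 4 0 (.hub 2))))))))))))))))) (.kill 56 65 54 1 1 (.kill 40 66 63 1 1 (.kill 57 68 54 1 1 (.kill 44 69 63 1 1 (.kill 59 70 54 1 1 (.kill 62 71 54 1 1 (.weyl 4 0 (.weyl 3 0 (.weyl 5 0 (.weyl 4 0 (.weyl 3 0 (.weyl 1 0 (.weyl 2 0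 (.weyl 0 0 (.weyl 3 0 (.weyl 2 0 (.weyl 4 0 (.hub 2))))))))))))))))))) (.kill 46 63 60 1 1 (.kill 56 65 54 1 1 (.kill 48 66 60 1 1 (.kill 57 68 54 1 1 (.kill 51 69 60 1 1 (.kill 59 70 54 1 1 (.kill 62 71 54 1 1 (.weyl 1 0 (.weyl 4 0 (.weyl 3 0 (.weyl 5 0 (.weyl 4 0 (.weyl 3 0 (.weyl 1 0 (.weyl 2 0 (.weyl 0 0 (.weyl 3 0 (.weyl 2 0 (.weyl 4 0 (.hub 2))))))))))))))))))))))) (.kill 39 54 52 1 1 (.kill 40 55 52 1 1 (.split 60 (.kill 56 63 52 1 1 (.split 65 (.split 66 (.kill 58 68 52 1 1 (.kill 59 69 52 1 1 (.split 70 (.kill 64 71 52 1 1 (.weyl 1 0 (.weyl 2 0 (.weyl 3 0 (.weyl 4 0 (.hub 3)))))) (.kill 64 71 52 1 1 (.weyl 3 0 (.weyl 2 0 (.weyl 0 0 (.weyl 5 0 (.weyl 4 0 (.weyl 3 0 (.weyl 1 0 (.weyl 2 0 (.weyl 0 0 (.weyl 3 0 (.weyl 2 0 (.weyl 4 0 (.hub 2))))))))))))))))) (.kill 58 68 52 1 1 (.kill 59 69 52 1 1 (.kill 43 70 66 1 1 (.kill 64 71 52 1 1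 (.weyl 0 0 (.weyl 3 0 (.weyl 5 0 (.weyl 4 0 (.weyl 3 0 (.weyl 1 0 (.weyl 2 0 (.weyl 0 0 (.weyl 3 0 (.weyl 2 0 (.weyl 4 0 (.hub 2))))))))))))))))) (.kill 37 66 65 1 1 (.kill 58 68 52 1 1 (.kill 59 69 52 1 1 (.kill 44 70 65 1 1 (.kill 64 71 52 1 1 (.weyl 0 0 (.weyl 4 0 (.weyl 3 0 (.weyl 5 0 (.weyl 4 0 (.weyl 3 0 (.weyl 1 0 (.weyl 2 0 (.weyl 0 0 (.weyl 3 0 (.weyl 2 0 (.weyl 4 0 (.hub 2)))))))))))))))))))) (.kill 56 63 52 1 1 (.kill 47 65 60 1 1 (.kill 48 66 60 1 1 (.kill 58 68 52 1 1 (.kill 59 69 52 1 1 (.kill 53 70 60 1 1 (.kill 64 71 52 1 1 (.weyl 3 0 (.weyl 1 0 (.weyl 4 0 (.weyl 3 0 (.weyl 5 0 (.weyl 4 0 (.weyl 3 0 (.weyl 1 0 (.weyl 2 0 (.weyl 0 0 (.weyl 3 0 (.weyl 2 0 (.weyl 4 0 (.hub 2))))))))))))))))))))))))) (.kill 42 52 49 1 1 (.kill 43 54 49 1 1 (.kill 44 55 49 1 1 (.split 60 (.kill 57 63 49 1 1 (.kill 58 65 49 1 1 (.kill 59 66 49 1 1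 (.split 68 (.split 69 (.split 70 (.kill 67 71 49 1 1 (.weyl 1 0 (.weyl 3 0 (.weyl 4 0 (.hub 3))))) (.kill 67 71 49 1 1 (.weyl 2 0 (.weyl 3 0 (.weyl 2 0 (.weyl 0 0 (.weyl 5 0 (.weyl 4 0 (.weyl 3 0 (.weyl 1 0 (.weyl 2 0 (.weyl 0 0 (.weyl 3 0 (.weyl 2 0 (.weyl 4 0 (.hub 2)))))))))))))))) (.kill 39 70 69 1 1 (.kill 67 71 49 1 1 (.weyl 2 0 (.weyl 0 0 (.weyl 3 0 (.weyl 5 0 (.weyl 4 0 (.weyl 3 0 (.weyl 1 0 (.weyl 2 0 (.weyl 0 0 (.weyl 3 0 (.weyl 2 0 (.weyl 4 0 (.hub 2)))))))))))))))) (.kill 37 69 68 1 1 (.kill 40 70 68 1 1 (.kill 67 71 49 1 1 (.weyl 2 0 (.weyl 0 0 (.weyl 4 0 (.weyl 3 0 (.weyl 5 0 (.weyl 4 0 (.weyl 3 0 (.weyl 1 0 (.weyl 2 0 (.weyl 0 0 (.weyl 3 0 (.weyl 2 0 (.weyl 4 0 (.hub 2))))))))))))))))))))) (.kill 57 63 49 1 1 (.kill 58 65 49 1 1 (.kill 59 66 49 1 1 (.kill 50 68 60 1 1 (.kill 51 69 60 1 1 (.kill 53 70 60 1 1 (.kill 67 71 49 1 1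 (.weyl 2 0 (.weyl 3 0 (.weyl 1 0 (.weyl 4 0 (.weyl 3 0 (.weyl 5 0 (.weyl 4 0 (.weyl 3 0 (.weyl 1 0 (.weyl 2 0 (.weyl 0 0 (.weyl 3 0 (.weyl 2 0 (.weyl 4 0 (.hub 2))))))))))))))))))))))))))) (.split 49 (.kill 46 52 45 1 1 (.kill 47 54 45 1 1 (.kill 48 55 45 1 1 (.kill 56 60 45 1 1 (.split 63 (.split 65 (.split 66 (.kill 61 68 45 1 1 (.kill 62 69 45 1 1 (.kill 64 70 45 1 1 (.split 71 (.weyl 2 0 (.weyl 3 0 (.weyl 4 0 (.hub 3)))) (.weyl 1 0 (.weyl 3 0 (.weyl 2 0 (.weyl 0 0 (.weyl 5 0 (.weyl 4 0 (.weyl 3 0 (.weyl 1 0 (.weyl 2 0 (.weyl 0 0 (.weyl 3 0 (.weyl 2 0 (.weyl 4 0 (.hub 2)))))))))))))))))) (.kill 61 68 45 1 1 (.kill 62 69 45 1 1 (.kill 64 70 45 1 1 (.kill 50 71 66 1 1 (.weyl 0 0 (.weyl 1 0 (.weyl 3 0 (.weyl 5 0 (.weyl 4 0 (.weyl 3 0 (.weyl 1 0 (.weyl 2 0 (.weyl 0 0 (.weyl 3 0 (.weyl 2 0 (.weyl 4 0 (.hub 2)))))))))))))))))) (.kill 37 66 65 1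 1 (.kill 61 68 45 1 1 (.kill 62 69 45 1 1 (.kill 64 70 45 1 1 (.kill 51 71 65 1 1 (.weyl 0 0 (.weyl 1 0 (.weyl 4 0 (.weyl 3 0 (.weyl 5 0 (.weyl 4 0 (.weyl 3 0 (.weyl 1 0 (.weyl 2 0 (.weyl 0 0 (.weyl 3 0 (.weyl 2 0 (.weyl 4 0 (.hub 2)))))))))))))))))))) (.kill 39 65 63 1 1 (.kill 40 66 63 1 1 (.kill 61 68 45 1 1 (.kill 62 69 45 1 1 (.kill 64 70 45 1 1 (.kill 53 71 63 1 1 (.weyl 0 0 (.weyl 3 0 (.weyl 1 0 (.weyl 4 0 (.weyl 3 0 (.weyl 5 0 (.weyl 4 0 (.weyl 3 0 (.weyl 1 0 (.weyl 2 0 (.weyl 0 0 (.weyl 3 0 (.weyl 2 0 (.weyl 4 0 (.hub 2)))))))))))))))))))))))))) (.kill 42 52 49 1 1 (.kill 43 54 49 1 1 (.kill 44 55 49 1 1 (.kill 56 60 45 1 1 (.kill 57 63 49 1 1 (.kill 58 65 49 1 1 (.kill 59 66 49 1 1 (.kill 61 68 45 1 1 (.kill 62 69 45 1 1 (.kill 64 70 45 1 1 (.kill 67 71 49 1 1 (.weyl 0 0 (.weyl 2 0 (.weyl 3 0 (.weyl 1 0 (.weyl 4 0 (.weyl 3 0 (.weyl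 5 0 (.weyl 4 0 (.weyl 3 0 (.weyl 1 0 (.weyl 2 0 (.weyl 0 0 (.weyl 3 0 (.weyl 2 0 (.weyl 4 0 (.hub 2))))))))))))))))))))))))))))) (.kill 42 45 41 1 1 (.kill 46 49 41 1 1 (.split 52 (.kill 50 54 41 1 1 (.kill 51 55 41 1 1 (.kill 57 60 41 1 1 (.split 63 (.kill 61 65 41 1 1 (.kill 62 66 41 1 1 (.split 68 (.split 69 (.kill 67 70 41 1 1 (.split 71 (.weyl 3 0 (.weyl 4 0 (.hub 3))) (.weyl 1 0 (.weyl 2 0 (.weyl 3 0 (.weyl 2 0 (.weyl 0 0 (.weyl 5 0 (.weyl 4 0 (.weyl 3 0 (.weyl 1 0 (.weyl 2 0 (.weyl 0 0 (.weyl 3 0 (.weyl 2 0 (.weyl 4 0 (.hub 2))))))))))))))))) (.kill 67 70 41 1 1 (.kill 47 71 69 1 1 (.weyl 1 0 (.weyl 2 0 (.weyl 0 0 (.weyl 3 0 (.weyl 5 0 (.weyl 4 0 (.weyl 3 0 (.weyl 1 0 (.weyl 2 0 (.weyl 0 0 (.weyl 3 0 (.weyl 2 0 (.weyl 4 0 (.hub 2))))))))))))))))) (.kill 37 69 68 1 1 (.kill 67 70 41 1 1 (.kill 48 71 68 1 1 (.weyl 1 0 (.weyl 2 0 (.weyl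 0 0 (.weyl 4 0 (.weyl 3 0 (.weyl 5 0 (.weyl 4 0 (.weyl 3 0 (.weyl 1 0 (.weyl 2 0 (.weyl 0 0 (.weyl 3 0 (.weyl 2 0 (.weyl 4 0 (.hub 2))))))))))))))))))))) (.kill 61 65 41 1 1 (.kill 62 66 41 1 1 (.kill 43 68 63 1 1 (.kill 44 69 63 1 1 (.kill 67 70 41 1 1 (.kill 53 71 63 1 1 (.weyl 1 0 (.weyl 2 0 (.weyl 3 0 (.weyl 1 0 (.weyl 4 0 (.weyl 3 0 (.weyl 5 0 (.weyl 4 0 (.weyl 3 0 (.weyl 1 0 (.weyl 2 0 (.weyl 0 0 (.weyl 3 0 (.weyl 2 0 (.weyl 4 0 (.hub 2)))))))))))))))))))))))))) (.kill 50 54 41 1 1 (.kill 51 55 41 1 1 (.kill 57 60 41 1 1 (.kill 56 63 52 1 1 (.kill 61 65 41 1 1 (.kill 62 66 41 1 1 (.kill 58 68 52 1 1 (.kill 59 69 52 1 1 (.kill 67 70 41 1 1 (.kill 64 71 52 1 1 (.weyl 0 0 (.weyl 1 0 (.weyl 2 0 (.weyl 3 0 (.weyl 1 0 (.weyl 4 0 (.weyl 3 0 (.weyl 5 0 (.weyl 4 0 (.weyl 3 0 (.weyl 1 0 (.weyl 2 0 (.weyl 0 0 (.weyl 3 0 (.weyl 2 0 (.weyl 4 0 (.hub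 2))))))))))))))))))))))))))))))) (.kill 39 41 38 1 1 (.kill 43 45 38 1 1 (.kill 47 49 38 1 1 (.kill 50 52 38 1 1 (.split 54 (.kill 53 55 38 1 1 (.kill 58 60 38 1 1 (.kill 61 63 38 1 1 (.split 65 (.kill 64 66 38 1 1 (.split 68 (.kill 67 69 38 1 1 (.split 70 (.split 71 (.weyl 4 0 (.hub 3)) (.weyl 1 0 (.weyl 3 0 (.weyl 1 0 (.weyl 2 0 (.weyl 0 0 (.weyl 3 0 (.weyl 5 0 (.weyl 4 0 (.weyl 3 0 (.weyl 1 0 (.weyl 2 0 (.weyl 0 0 (.weyl 3 0 (.weyl 2 0 (.weyl 4 0 (.hub 2))))))))))))))))) (.kill 46 71 70 1 1 (.weyl 3 0 (.weyl 1 0 (.weyl 2 0 (.weyl 0 0 (.weyl 3 0 (.weyl 5 0 (.weyl 4 0 (.weyl 3 0 (.weyl 1 0 (.weyl 2 0 (.weyl 0 0 (.weyl 3 0 (.weyl 2 0 (.weyl 4 0 (.hub 2)))))))))))))))))) (.kill 67 69 38 1 1 (.kill 40 70 68 1 1 (.kill 48 71 68 1 1 (.weyl 3 0 (.weyl 1 0 (.weyl 2 0 (.weyl 0 0 (.weyl 4 0 (.weyl 3 0 (.weyl 5 0 (.weyl 4 0 (.weyl 3 0 (.weyl 1 0 (.weyl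 2 0 (.weyl 0 0 (.weyl 3 0 (.weyl 2 0 (.weyl 4 0 (.hub 2))))))))))))))))))))) (.kill 64 66 38 1 1 (.kill 42 68 65 1 1 (.kill 67 69 38 1 1 (.kill 44 70 65 1 1 (.kill 51 71 65 1 1 (.weyl 2 0 (.weyl 3 0 (.weyl 1 0 (.weyl 2 0 (.weyl 0 0 (.weyl 4 0 (.weyl 3 0 (.weyl 5 0 (.weyl 4 0 (.weyl 3 0 (.weyl 1 0 (.weyl 2 0 (.weyl 0 0 (.weyl 3 0 (.weyl 2 0 (.weyl 4 0 (.hub 2)))))))))))))))))))))))))) (.kill 53 55 38 1 1 (.kill 58 60 38 1 1 (.kill 61 63 38 1 1 (.kill 56 65 54 1 1 (.kill 64 66 38 1 1 (.kill 57 68 54 1 1 (.kill 67 69 38 1 1 (.kill 59 70 54 1 1 (.kill 62 71 54 1 1 (.weyl 0 0 (.weyl 2 0 (.weyl 3 0 (.weyl 1 0 (.weyl 2 0 (.weyl 0 0 (.weyl 4 0 (.weyl 3 0 (.weyl 5 0 (.weyl 4 0 (.weyl 3 0 (.weyl 1 0 (.weyl 2 0 (.weyl 0 0 (.weyl 3 0 (.weyl 2 0 (.weyl 4 0 (.hub 2))))))))))))))))))))))))))))))))) (.kill 37 38 36 1 1 (.kill 40 41 36 1 1 (.kill 44 45 36 1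 1 (.kill 48 49 36 1 1 (.kill 51 52 36 1 1 (.kill 53 54 36 1 1 (.split 55 (.kill 59 60 36 1 1 (.kill 62 63 36 1 1 (.kill 64 65 36 1 1 (.split 66 (.kill 67 68 36 1 1 (.split 69 (.split 70 (.split 71 (.hub 3) (.weyl 1 0 (.weyl 4 0 (.weyl 3 0 (.weyl 1 0 (.weyl 2 0 (.weyl 0 0 (.weyl 3 0 (.weyl 5 0 (.weyl 4 0 (.weyl 3 0 (.weyl 1 0 (.weyl 2 0 (.weyl 0 0 (.weyl 3 0 (.weyl 2 0 (.weyl 4 0 (.hub 2)))))))))))))))))) (.kill 46 71 70 1 1 (.weyl 4 0 (.weyl 3 0 (.weyl 1 0 (.weyl 2 0 (.weyl 0 0 (.weyl 3 0 (.weyl 5 0 (.weyl 4 0 (.weyl 3 0 (.weyl 1 0 (.weyl 2 0 (.weyl 0 0 (.weyl 3 0 (.weyl 2 0 (.weyl 4 0 (.hub 2)))))))))))))))))) (.kill 39 70 69 1 1 (.kill 47 71 69 1 1 (.weyl 3 0 (.weyl 4 0 (.weyl 3 0 (.weyl 1 0 (.weyl 2 0 (.weyl 0 0 (.weyl 3 0 (.weyl 5 0 (.weyl 4 0 (.weyl 3 0 (.weyl 1 0 (.weyl 2 0 (.weyl 0 0 (.weyl 3 0 (.weyl 2 0 (.weyl 4 0 (.hub 2)))))))))))))))))))))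 (.kill 67 68 36 1 1 (.kill 42 69 66 1 1 (.kill 43 70 66 1 1 (.kill 50 71 66 1 1 (.weyl 2 0 (.weyl 3 0 (.weyl 4 0 (.weyl 3 0 (.weyl 1 0 (.weyl 2 0 (.weyl 0 0 (.weyl 3 0 (.weyl 5 0 (.weyl 4 0 (.weyl 3 0 (.weyl 1 0 (.weyl 2 0 (.weyl 0 0 (.weyl 3 0 (.weyl 2 0 (.weyl 4 0 (.hub 2)))))))))))))))))))))))))) (.kill 59 60 36 1 1 (.kill 62 63 36 1 1 (.kill 64 65 36 1 1 (.kill 56 66 55 1 1 (.kill 67 68 36 1 1 (.kill 57 69 55 1 1 (.kill 58 70 55 1 1 (.kill 61 71 55 1 1 (.weyl 0 0 (.weyl 2 0 (.weyl 3 0 (.weyl 4 0 (.weyl 3 0 (.weyl 1 0 (.weyl 2 0 (.weyl 0 0 (.weyl 3 0 (.weyl 5 0 (.weyl 4 0 (.weyl 3 0 (.weyl 1 0 (.weyl 2 0 (.weyl 0 0 (.weyl 3 0 (.weyl 2 0 (.weyl 4 0 (.hub 2))))))))))))))))))))))))))))))))))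

/-- Certificate 12. -/
def tree12 : Tree :=
  .split 37 (.split 40 (.split 44 (.split 48 (.split 51 (.split 53 (.split 59 (.split 62 (.split 64 (.split 67 (.hub 16) (.weyl 2 4548334483146113286144 (.weyl 0 4548334483146113286144 (.weyl 3 4548334483146113286144 (.weyl 1 4548334483146113286144 (.weyl 2 4548334483146113286144 (.weyl 3 4548334483146113286144 (.hub 10)))))))) (.zero 65 36 64 1 1 (.zero 66 38 64 1 1 (.kill 42 67 64 1 1 (.weyl 0 4548334483146113286144 (.weyl 3 4548334483146113286144 (.weyl 1 4548334483146113286144 (.weyl 2 4548334483146113286144 (.weyl 3 4548334483146113286144 (.hub 10)))))))))) (.zero 63 36 62 1 1 (.kill 39 64 62 1 1 (.zero 66 41 62 1 1 (.kill 43 67 62 1 1 (.weyl 0 4548334483146113286144 (.weyl 1 4548334483146113286144 (.weyl 2 4548334483146113286144 (.weyl 3 4548334483146113286144 (.hub 10)))))))))) (.zero 60 36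 59 1 1 (.kill 46 62 59 1 1 (.kill 47 64 59 1 1 (.zero 66 49 59 1 1 (.kill 50 67 59 1 1 (.weyl 0 4548334483146113286144 (.weyl 2 4548334483146113286144 (.weyl 3 4548334483146113286144 (.hub 10)))))))))) (.zero 54 36 53 1 1 (.zero 55 38 53 1 1 (.split 59 (.split 62 (.kill 56 64 53 1 1 (.kill 57 67 53 1 1 (.weyl 3 4548334483146113286144 (.weyl 1 4548334483146113286144 (.weyl 2 4548334483146113286144 (.weyl 3 4548334483146113286144 (.hub 10))))))) (.zero 66 41 62 1 1 (.zero 69 45 62 1 1 (.zero 70 53 60 1 1 (.kill 56 64 53 1 1 (.kill 57 67 53 1 1 (.weyl 4 4548334483146113286144 (.weyl 3 4548334483146113286144 (.weyl 1 4548334483146113286144 (.weyl 2 4548334483146113286144 (.weyl 0 4548334483146113286144 (.weyl 3 4548334483146113286144 (.hub 5))))))))))))) (.kill 46 62 59 1 1 (.zero 66 49 59 1 1 (.zero 69 52 59 1 1 (.kill 56 64 53 1 1 (.kill 57 67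 53 1 1 (.weyl 1 4548334483146113286144 (.weyl 4 4548334483146113286144 (.weyl 3 4548334483146113286144 (.weyl 1 4548334483146113286144 (.weyl 2 4548334483146113286144 (.weyl 0 4548334483146113286144 (.weyl 3 4548334483146113286144 (.hub 5))))))))))))))))) (.zero 52 36 51 1 1 (.kill 39 53 51 1 1 (.zero 55 41 51 1 1 (.split 59 (.kill 56 62 51 1 1 (.split 64 (.kill 58 67 51 1 1 (.weyl 1 4548334483146113286144 (.weyl 2 4548334483146113286144 (.weyl 3 4548334483146113286144 (.hub 10))))) (.zero 66 38 64 1 1 (.zero 69 51 60 1 1 (.zero 70 45 64 1 1 (.kill 58 67 51 1 1 (.weyl 0 4548334483146113286144 (.weyl 4 4548334483146113286144 (.weyl 3 4548334483146113286144 (.weyl 1 4548334483146113286144 (.weyl 2 4548334483146113286144 (.weyl 0 4548334483146113286144 (.weyl 3 4548334483146113286144 (.hub 5)))))))))))))) (.kill 56 62 51 1 1 (.kill 47 64 59 1 1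 (.zero 66 49 59 1 1 (.kill 58 67 51 1 1 (.weyl 3 4548334483146113286144 (.weyl 1 4548334483146113286144 (.weyl 4 4548334483146113286144 (.weyl 3 4548334483146113286144 (.weyl 1 4548334483146113286144 (.weyl 2 4548334483146113286144 (.weyl 0 4548334483146113286144 (.weyl 3 4548334483146113286144 (.hub 5)))))))))))))))))) (.zero 49 36 48 1 1 (.kill 42 51 48 1 1 (.kill 43 53 48 1 1 (.zero 55 45 48 1 1 (.split 59 (.kill 57 62 48 1 1 (.kill 58 64 48 1 1 (.zero 66 48 60 1 1 (.split 67 (.weyl 1 4548334483146113286144 (.weyl 3 4548334483146113286144 (.hub 10))) (.weyl 2 4548334483146113286144 (.weyl 0 4548334483146113286144 (.weyl 4 4548334483146113286144 (.weyl 3 4548334483146113286144 (.weyl 1 4548334483146113286144 (.weyl 2 4548334483146113286144 (.weyl 0 4548334483146113286144 (.weyl 3 4548334483146113286144 (.hub 5))))))))))))) (.kill 57 62 48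 1 1 (.kill 58 64 48 1 1 (.kill 50 67 59 1 1 (.weyl 2 4548334483146113286144 (.weyl 3 4548334483146113286144 (.weyl 1 4548334483146113286144 (.weyl 4 4548334483146113286144 (.weyl 3 4548334483146113286144 (.weyl 1 4548334483146113286144 (.weyl 2 4548334483146113286144 (.weyl 0 4548334483146113286144 (.weyl 3 4548334483146113286144 (.hub 5))))))))))))))))))) (.zero 45 36 44 1 1 (.split 48 (.kill 46 51 44 1 1 (.kill 47 53 44 1 1 (.zero 55 44 49 1 1 (.kill 56 59 44 1 1 (.split 62 (.split 64 (.kill 61 67 44 1 1 (.weyl 2 4548334483146113286144 (.weyl 3 4548334483146113286144 (.hub 10)))) (.zero 66 38 64 1 1 (.zero 69 44 63 1 1 (.kill 61 67 44 1 1 (.weyl 0 4548334483146113286144 (.weyl 1 4548334483146113286144 (.weyl 4 4548334483146113286144 (.weyl 3 4548334483146113286144 (.weyl 1 4548334483146113286144 (.weyl 2 4548334483146113286144 (.weyl 0 4548334483146113286144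 (.weyl 3 4548334483146113286144 (.hub 5))))))))))))) (.kill 39 64 62 1 1 (.zero 55 44 49 1 1 (.zero 66 41 62 1 1 (.kill 61 67 44 1 1 (.weyl 0 4548334483146113286144 (.weyl 3 4548334483146113286144 (.weyl 1 4548334483146113286144 (.weyl 4 4548334483146113286144 (.weyl 3 4548334483146113286144 (.weyl 1 4548334483146113286144 (.weyl 2 4548334483146113286144 (.weyl 0 4548334483146113286144 (.weyl 3 4548334483146113286144 (.hub 5))))))))))))))))))) (.kill 42 51 48 1 1 (.kill 47 53 44 1 1 (.kill 56 59 44 1 1 (.kill 57 62 48 1 1 (.kill 58 64 48 1 1 (.kill 61 67 44 1 1 (.weyl 0 4548334483146113286144 (.weyl 2 4548334483146113286144 (.weyl 3 4548334483146113286144 (.weyl 1 4548334483146113286144 (.weyl 4 4548334483146113286144 (.weyl 3 4548334483146113286144 (.weyl 1 4548334483146113286144 (.weyl 2 4548334483146113286144 (.weyl 0 4548334483146113286144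 (.weyl 3 4548334483146113286144 (.hub 5)))))))))))))))))))) (.zero 41 36 40 1 1 (.kill 42 44 40 1 1 (.kill 46 48 40 1 1 (.split 51 (.kill 50 53 40 1 1 (.zero 55 40 52 1 1 (.kill 57 59 40 1 1 (.split 62 (.kill 61 64 40 1 1 (.zero 66 40 63 1 1 (.split 67 (.weyl 3 4548334483146113286144 (.hub 10)) (.weyl 1 4548334483146113286144 (.weyl 2 4548334483146113286144 (.weyl 0 4548334483146113286144 (.weyl 4 4548334483146113286144 (.weyl 3 4548334483146113286144 (.weyl 1 4548334483146113286144 (.weyl 2 4548334483146113286144 (.weyl 0 4548334483146113286144 (.weyl 3 4548334483146113286144 (.hub 5))))))))))))) (.kill 61 64 40 1 1 (.kill 43 67 62 1 1 (.weyl 1 4548334483146113286144 (.weyl 2 4548334483146113286144 (.weyl 3 4548334483146113286144 (.weyl 1 4548334483146113286144 (.weyl 4 4548334483146113286144 (.weyl 3 4548334483146113286144 (.weyl 1 4548334483146113286144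 (.weyl 2 4548334483146113286144 (.weyl 0 4548334483146113286144 (.weyl 3 4548334483146113286144 (.hub 5))))))))))))))))) (.kill 50 53 40 1 1 (.kill 57 59 40 1 1 (.kill 56 62 51 1 1 (.kill 61 64 40 1 1 (.kill 58 67 51 1 1 (.weyl 0 4548334483146113286144 (.weyl 1 4548334483146113286144 (.weyl 2 4548334483146113286144 (.weyl 3 4548334483146113286144 (.weyl 1 4548334483146113286144 (.weyl 4 4548334483146113286144 (.weyl 3 4548334483146113286144 (.weyl 1 4548334483146113286144 (.weyl 2 4548334483146113286144 (.weyl 0 4548334483146113286144 (.weyl 3 4548334483146113286144 (.hub 5)))))))))))))))))))))) (.zero 38 36 37 1 1 (.kill 39 40 37 1 1 (.kill 43 44 37 1 1 (.kill 47 48 37 1 1 (.kill 50 51 37 1 1 (.split 53 (.zero 55 37 54 1 1 (.kill 58 59 37 1 1 (.kill 61 62 37 1 1 (.split 64 (.zero 66 37 65 1 1 (.split 67 (.hub 10) (.weyl 3 4548334483146113286144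 (.weyl 1 4548334483146113286144 (.weyl 2 4548334483146113286144 (.weyl 0 4548334483146113286144 (.weyl 4 4548334483146113286144 (.weyl 3 4548334483146113286144 (.weyl 1 4548334483146113286144 (.weyl 2 4548334483146113286144 (.weyl 0 4548334483146113286144 (.weyl 3 4548334483146113286144 (.hub 5))))))))))))) (.kill 42 67 64 1 1 (.weyl 2 4548334483146113286144 (.weyl 3 4548334483146113286144 (.weyl 1 4548334483146113286144 (.weyl 2 4548334483146113286144 (.weyl 0 4548334483146113286144 (.weyl 4 4548334483146113286144 (.weyl 3 4548334483146113286144 (.weyl 1 4548334483146113286144 (.weyl 2 4548334483146113286144 (.weyl 0 4548334483146113286144 (.weyl 3 4548334483146113286144 (.hub 5))))))))))))))))) (.kill 58 59 37 1 1 (.kill 61 62 37 1 1 (.kill 56 64 53 1 1 (.kill 57 67 53 1 1 (.weyl 0 4548334483146113286144 (.weyl 2 4548334483146113286144 (.weyl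 3 4548334483146113286144 (.weyl 1 4548334483146113286144 (.weyl 2 4548334483146113286144 (.weyl 0 4548334483146113286144 (.weyl 4 4548334483146113286144 (.weyl 3 4548334483146113286144 (.weyl 1 4548334483146113286144 (.weyl 2 4548334483146113286144 (.weyl 0 4548334483146113286144 (.weyl 3 4548334483146113286144 (.hub 5)))))))))))))))))))))))

/-- Certificate 13. -/
def tree13 : Tree :=
  .split 46 (.split 47 (.split 50 (.split 61 (.hub 17) (.weyl 0 4719554885883411824640 (.weyl 1 4719554885883411824640 (.weyl 2 4719554885883411824640 (.hub 12))))) (.zero 51 37 50 1 1 (.zero 53 40 50 1 1 (.kill 56 61 50 1 1 (.weyl 1 4719554885883411824640 (.weyl 2 4719554885883411824640 (.hub 12))))))) (.zero 48 37 47 1 1 (.kill 42 50 47 1 1 (.zero 53 44 47 1 1 (.kill 57 61 47 1 1 (.weyl 1 4719554885883411824640 (.hub 12))))))) (.kill 39 47 46 1 1 (.zero 48 40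 46 1 1 (.kill 43 50 46 1 1 (.zero 51 44 46 1 1 (.kill 58 61 46 1 1 (.weyl 3 4719554885883411824640 (.weyl 1 4719554885883411824640 (.hub 12))))))))

/-- Certificate 14. -/
def tree14 : Tree :=
  .split 39 (.split 43 (.split 58 (.hub 18) (.weyl 0 4721862065898764894208 (.weyl 2 4721862065898764894208 (.hub 13)))) (.zero 50 43 46 1 1 (.zero 44 37 43 1 1 (.kill 56 58 43 1 1 (.weyl 2 4721862065898764894208 (.hub 13)))))) (.zero 47 39 46 1 1 (.zero 40 37 39 1 1 (.kill 42 43 39 1 1 (.kill 57 58 39 1 1 (.hub 13)))))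

/-- Certificate 15. -/
def tree15 : Tree :=
  .split 42 (.split 57 (.hub 19) (.weyl 0 4722150305620765442048 (.hub 14))) (.zero 43 39 42 1 1 (.kill 56 57 42 1 1 (.hub 14)))

/-- Certificate 16. -/
def tree16 : Tree :=
  .split 56 (.hub 20) (.hub 15)

/-- The certificates in order. -/
def entries : List (ℕ × ℕ × Tree) := [(4535485464576, 4548334483146113286144, tree0), (74904229642240, 4548334483146113286144, tree1), (9082103484383232, 4548334483146113286144, tree2), (1126449662656512, 4719554885883411824640, tree3), (72058143793741824, 4721862065898764894208, tree4), (137438953472, 4548334483146113286144, tree5), (70506183131136, 4548334483146113286144, tree6), (549755813888, 4719554885883411824640, tree7), (549755813888, 4721862065898764894208, tree8), (4398046511104, 4722150305620765442048, tree9), (72057594037927936, 4722294425206887809024,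 tree10), (0, 4548334483146113286144, tree11), (0, 4719554885883411824640, tree12), (0, 4721862065898764894208, tree13), (0, 4722150305620765442048, tree14), (0, 4722294425206887809024, tree15), (0, 4722366482800925736960, tree16)]

theorem chain : Chain tab simples terminals entries :=
  ⟨by decide +kernel,
    by decide +kernel,
    by decide +kernel,
    by decide +kernel,
    by decide +kernel,
    by decide +kernel,
    by decide +kernel,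
    by decide +kernel,
    by decide +kernel,
    by decide +kernel,
    by decide +kernel,
    by decide +kernel,
    by decide +kernel,
    by decide +kernel,
    by decide +kernel,
    by decide +kernel,
    by decide +kernel, trivial⟩

/-- Scaling data of the terminal patterns. -/
def scales : List (ℕ × List (ℕ × List ℤ)) := [(37155315401097216, [(36, [0, 0, 0, 0, 0, 1]), (39, [0, 0, 0, 1, 0, 0]), (50, [0, 1, 1, 1, 0, 0]), (55, [0, 1, 1, 2, 2, 1])]), (1126518382133248, [(36, [0, 0, 0, 0, 0, 1]), (39, [0, 0, 0, 1, 0, 0]), (50, [0, 1, 1, 1, 0, 0])]), (618475290624, [(36, [0, 0, 0, 0, 0, 1]), (39, [0, 0, 0, 1, 0, 0])]), (68719476736, [(36, [0, 0, 0, 0, 0, 1])])]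

theorem scales_ok : scales.all (fun p => scaleOK chevE6 tab p.1 p.2) = true := by decide +kernel

/-- Conjugations between the words. -/
def links : List (List ℕ × List Move × List ℕ) := [([36], [.n 4, .n 3, .n 1, .n 2, .n 0, .n 3, .n 2, .n 4, .n 3, .n 1], [71]), ([36, 39], [.n 1, .n 2, .n 0, .n 4, .n 3, .n 1, .n 2, .n 0, .n 3, .n 4, .n 5], [66, 68]), ([36, 39, 50], [.n 0, .n 1, .n 2, .n 4, .n 3, .n 1, .n 2, .n 0, .n 3, .n 2, .n 5, .n 4, .n 3], [55, 65, 67]), ([36, 39, 50, 55], [.n 1, .n 3, .n 4, .n 5, .x 40, .x 42, .x 43, .x 47, .n 5, .n 4, .n 3, .n 1], [36, 39, 50])]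

theorem links_ok : links.all (fun p => linkOK tab simples 16 p.2.1 p.1 p.2.2) = true := by decide +kernel

end CfsgLib.OutAut.InvCheck.E6
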