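import Mathlib
import Cfsg.Agent.Lib.OutAut.InvCheck.Weyl

/-!
The rank of `y - 1` for a product `y` of root elements with parameter one, computed with matrices
over the field of two elements given by rows of bits.
-/

set_option autoImplicit false
set_option linter.unusedSectionVars false
set_option linter.unusedSimpArgs false

namespace CfsgLib.OutAut.InvCheck

open Cfsg.Lie CfsgLib.Chevalley

/-- The matrix with the given rows of bits. -/
def bmat (n : ℕ) (B : List ℕ) : Matrix (Fin n) (Fin n) (ZMod 2) :=
  Matrix.of fun i j => if (B.getD (i : ℕ) 0).testBit (j : ℕ) then 1 else 0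

/-- A row times a matrix. -/
def rowMul : ℕ → List ℕ → ℕ
  | _, [] => 0
  | 0, _ :: _ => 0
  -- matching on the first argument keeps it a numeral during evaluation in the kernel
  | a + 1, b :: bs => (if (a + 1) % 2 == 1 then b else 0) ^^^ rowMul ((a + 1) / 2) bs

/-- The product. -/
def bmul (X Y : List ℕ) : List ℕ := X.map fun a => rowMul a Y

/-- The first `k` diagonal entries. -/
def bdiag (n k : ℕ) : List ℕ := (List.range n).map fun i => if Nat.blt i k then 2 ^ i else 0

/-- Entrywise sum. -/
def badd (X Y : List ℕ) : List ℕ := List.zipWith (· ^^^ ·) X Y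

/-- The rows of a sparse matrix modulo two. -/
def rowsOf (n : ℕ) (L : Sparse.SMat) : List ℕ :=
  (List.range n).map fun i =>
    L.foldr (fun e acc => if e.1 == i && e.2.2 % 2 != 0 then acc ^^^ 2 ^ e.2.1 else acc) 0

theorem bit_xor (a b j : ℕ) :
    (if (a ^^^ b).testBit j then (1 : ZMod 2) else 0) =
      (if a.testBit j then 1 else 0) + (if b.testBit j then 1 else 0) := by
  rw [Nat.testBit_xor]
  cases a.testBit j <;> cases b.testBit j <;> simp <;> rfl

theorem rowMul_bit : ∀ (Y : List ℕ) (a j : ℕ),
    (if (rowMul a Y).testBit j then (1 : ZMod 2) else 0) =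
      ∑ k ∈ Finset.range Y.length,
        (if a.testBit k then (1 : ZMod 2) else 0) * (if (Y.getD k 0).testBit j then 1 else 0) := by
  intro Y
  induction Y with
  | nil => intro a j; simp [rowMul]
  | cons b bs ih =>
    intro a j
    rcases a with _ | a
    · simp [rowMul]
    rw [rowMul, bit_xor, ih, List.length_cons, Finset.sum_range_succ', add_comm]
    congr 1
    · refine Finset.sum_congr rfl fun k _ => ?_
      rw [Nat.testBit_add_one, List.getD_cons_succ]
    · rw [List.getD_cons_zero, Nat.testBit_zero]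
      by_cases h : (a + 1) % 2 = 1 <;> simp [h]

theorem bmat_mul (n : ℕ) (X Y : List ℕ) (hX : X.length = n) (hY : Y.length = n) :
    bmat n (bmul X Y) = bmat n X * bmat n Y := by
  ext i j
  rw [Matrix.mul_apply, Finset.sum_fin_eq_sum_range]
  show (if ((bmul X Y).getD i 0).testBit j then (1 : ZMod 2) else 0) = _
  have hi : (i : ℕ) < X.length := hX ▸ i.isLt
  rw [show (bmul X Y).getD i 0 = rowMul (X.getD i 0) Y by
    simp [bmul, List.getD_eq_getElem?_getD, List.getElem?_map, hi], rowMul_bit, hY]
  refine Finset.sum_congr rfl fun k hk => ?_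
  rw [dif_pos (Finset.mem_range.1 hk)]
  rfl

theorem bmat_add (n : ℕ) (X Y : List ℕ) (hX : X.length = n) (hY : Y.length = n) :
    bmat n (badd X Y) = bmat n X + bmat n Y := by
  ext i j
  show (if ((badd X Y).getD i 0).testBit j then (1 : ZMod 2) else 0) = _
  have hi : (i : ℕ) < X.length := hX ▸ i.isLt
  have hi' : (i : ℕ) < Y.length := hY ▸ i.isLt
  rw [show (badd X Y).getD i 0 = X.getD i 0 ^^^ Y.getD i 0 by
    simp [badd, List.getD_eq_getElem?_getD, List.getElem?_zipWith, hi, hi'], bit_xor]
  rfl

theorem bmat_bdiag (n k : ℕ) :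
    bmat n (bdiag n k) = Matrix.diagonal fun i : Fin n => if (i : ℕ) < k then (1 : ZMod 2) else 0 := by
  ext i j
  show (if ((bdiag n k).getD i 0).testBit j then (1 : ZMod 2) else 0) = _
  rw [show (bdiag n k).getD i 0 = if (i : ℕ) < k then 2 ^ (i : ℕ) else 0 by
    simp [bdiag, List.getD_eq_getElem?_getD, List.getElem?_map, List.getElem?_range i.isLt, Nat.blt_eq]]
  rw [Matrix.diagonal_apply]
  by_cases hk : (i : ℕ) < k <;> by_cases hij : i = j
  · subst hij; simp [hk]
  · simp [hk, hij, Nat.testBit_two_pow, Fin.val_eq_val]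
  · subst hij; simp [hk]
  · simp [hk, hij]

theorem rowsOf_length (n : ℕ) (L : Sparse.SMat) : (rowsOf n L).length = n := by simp [rowsOf]

theorem bdiag_length (n k : ℕ) : (bdiag n k).length = n := by simp [bdiag]

theorem bmul_length (X Y : List ℕ) : (bmul X Y).length = X.length := by simp [bmul]

theorem badd_length (X Y : List ℕ) : (badd X Y).length = min X.length Y.length := by simp [badd]

variable (D : ChevalleyDatum)

/-- The sparse matrix of `x_r(1) - 1`. -/
def xList (r : ℕ) : Sparse.SMat := coefList D 1 r ++ coefList D 2 r ++ coefList D 3 r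

/-- The rows of a product of root elements with parameter one. -/
def wordRows : List ℕ → List ℕ
  | [] => bdiag (D.rank + D.nroots) (D.rank + D.nroots)
  | r :: w =>
    bmul (badd (bdiag (D.rank + D.nroots) (D.rank + D.nroots))
      (rowsOf (D.rank + D.nroots) (xList D r))) (wordRows w)

/-- The rows of the identity, or of the product recorded last. -/
def topRows (I : List ℕ) : List (List ℕ × List ℕ) → List ℕ
  | [] => I
  | p :: _ => p.2

/-- The recorded rows of the factors and of the partial products are right. -/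
def stepsOK (I : List ℕ) : List ℕ → List (List ℕ × List ℕ) → Bool
  | [], [] => true
  | r :: w, p :: ps =>
    rowsOf (D.rank + D.nroots) (xList D r) == p.1 && bmul (badd I p.1) (topRows I ps) == p.2 &&
      stepsOK I w ps
  | _, _ => false

/-- A certificate that `y - 1` has rank `k`; the matrices used as right factors are literals. -/
def rankOK (w : List ℕ) (k : ℕ) (I : List ℕ) (steps : List (List ℕ × List ℕ)) (M Dk L R L' R' : List ℕ) : Bool :=
  let n := D.rank + D.nroots
  L.length == n && R.length == n && L'.length == n && R'.length == n && Nat.ble k n &&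
    w.all (fun r => Nat.blt r D.nroots) && bdiag n n == I && bdiag n k == Dk &&
    stepsOK D I w steps && badd I (topRows I steps) == M &&
    bmul (bmul L Dk) R == M && bmul (bmul L' M) R' == Dk

variable {D} {A : Aux} {F : Type*} [Field F] [CharP F 2]

theorem wordRows_length : ∀ w : List ℕ, (wordRows D w).length = D.rank + D.nroots
  | [] => bdiag_length _ _
  | _ :: _ => by rw [wordRows, bmul_length, badd_length, bdiag_length, rowsOf_length, min_self]

theorem bdiag_one (n : ℕ) : bmat n (bdiag n n) = 1 := by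
  rw [bmat_bdiag, ← Matrix.diagonal_one]
  congr 1
  funext i
  rw [if_pos i.isLt]

theorem rowsOf_bit (n : ℕ) (L : Sparse.SMat) (i j : Fin n) :
    bmat n (rowsOf n L) i j = ((Sparse.entry L i j : ℤ) : ZMod 2) := by
  show (if ((rowsOf n L).getD i 0).testBit j then (1 : ZMod 2) else 0) = _
  rw [show (rowsOf n L).getD i 0 =
      L.foldr (fun e acc => if e.1 == (i : ℕ) && e.2.2 % 2 != 0 then acc ^^^ 2 ^ e.2.1 else acc) 0 by
    simp [rowsOf, List.getD_eq_getElem?_getD, List.getElem?_map, List.getElem?_range i.isLt]]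
  induction L with
  | nil => simp [Sparse.entry]
  | cons e L ih =>
    rw [List.foldr_cons, Sparse.entry_cons, Int.cast_add, ← ih]
    have h0 : e.2.2 % 2 = 0 → ((e.2.2 : ℤ) : ZMod 2) = 0 := fun h2 =>
      (ZMod.intCast_zmod_eq_zero_iff_dvd _ 2).2 (Int.dvd_of_emod_eq_zero h2)
    by_cases h1 : e.1 = (i : ℕ)
    · by_cases h2 : e.2.2 % 2 = 0
      · have hc : (e.1 == (i : ℕ) && e.2.2 % 2 != 0) = false := by simp [h2]
        simp only [hc, Bool.false_eq_true, if_false]
        split_ifs <;> simp_all
      · have hc : (e.1 == (i : ℕ) && e.2.2 % 2 != 0) = true := by simp [h1, h2]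
        simp only [hc, if_true]
        rw [bit_xor, add_comm]
        congr 1
        by_cases h3 : e.2.1 = (j : ℕ)
        · simp [h1, h3, intCast_odd (F := ZMod 2) h2]
        · simp [h1, h3]
    · have hc : (e.1 == (i : ℕ) && e.2.2 % 2 != 0) = false := by simp [h1]
      simp only [hc, Bool.false_eq_true, if_false]
      simp [h1]

theorem xG_one_matrix (h : Full D A) (r : Fin D.nroots) :
    ((xG h.cert r (1 : F) : GL D.Idx F) : Matrix D.Idx D.Idx F) =
      ((1 : Matrix (Fin (D.rank + D.nroots)) (Fin (D.rank + D.nroots)) F) +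
        (bmat (D.rank + D.nroots) (rowsOf (D.rank + D.nroots) (xList D r))).map
          (ZMod.castHom (dvd_refl 2) F)).submatrix (code D) (code D) := by
  rw [coe_xG, x_eq_xR D F r.isLt, xR_eq_sum D h.cert.wf]
  ext a b
  simp only [Matrix.add_apply, Matrix.submatrix_apply, Matrix.map_apply, rowsOf_bit, one_pow,
    one_smul, coefIn, coefMat, Sparse.toMat_apply, xList, Sparse.entry_append, Int.cast_add, map_add,
    map_intCast, Matrix.one_apply, (code D).injective.eq_iff]
  ring

theorem word_matrix (h : Full D A) : ∀ w : List ℕ, (∀ r ∈ w, r < D.nroots) →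
    ((wordU h w : GL D.Idx F) : Matrix D.Idx D.Idx F) =
      ((bmat (D.rank + D.nroots) (wordRows D w)).map (ZMod.castHom (dvd_refl 2) F)).submatrix
        (code D) (code D) := by
  intro w
  induction w with
  | nil =>
    intro _
    rw [wordRows, bdiag_one, Matrix.map_one _ (map_zero _) (map_one _), Matrix.submatrix_one_equiv]
    simp [wordU, prodU]
  | cons r w ih =>
    intro hw
    have hr := hw r (List.mem_cons_self ..)
    rw [wordU_cons, Units.val_mul, ih fun x hx => hw x (List.mem_cons_of_mem _ hx),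
      show r = ((⟨r, hr⟩ : Fin D.nroots) : ℕ) from rfl, xG_one_matrix h, wordRows,
      bmat_mul _ _ _ (by rw [badd_length, bdiag_length, rowsOf_length, min_self]) (wordRows_length w),
      bmat_add _ _ _ (bdiag_length _ _) (rowsOf_length _ _), bdiag_one, Matrix.map_mul,
      Matrix.map_add _ (map_add _), Matrix.map_one _ (map_zero _) (map_one _),
      Matrix.submatrix_mul_equiv]

theorem stepsOK_spec {I : List ℕ} (hI : bdiag (D.rank + D.nroots) (D.rank + D.nroots) = I) :
    ∀ (w : List ℕ) (steps : List (List ℕ × List ℕ)), stepsOK D I w steps = true →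
      topRows I steps = wordRows D w
  | [], [], _ => hI.symm
  | [], _ :: _, h => by simp [stepsOK] at h
  | _ :: _, [], h => by simp [stepsOK] at h
  | r :: w, p :: ps, h => by
    simp only [stepsOK, Bool.and_eq_true, beq_iff_eq] at h
    obtain ⟨⟨h1, h2⟩, h3⟩ := h
    rw [stepsOK_spec hI w ps h3, ← h1, ← hI] at h2
    exact h2.symm

/-- A certified rank. -/
theorem rank_word (h : Full D A) {w : List ℕ} {k : ℕ} {I : List ℕ}
    {steps : List (List ℕ × List ℕ)} {M Dk L R L' R' : List ℕ}
    (hok : rankOK D w k I steps M Dk L R L' R' = true) :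
    (((wordU h w : GL D.Idx F) : Matrix D.Idx D.Idx F) - 1).rank = k := by
  simp only [rankOK, Bool.and_eq_true, beq_iff_eq, List.all_eq_true, Nat.blt_eq, Nat.ble_eq] at hok
  obtain ⟨⟨⟨⟨⟨⟨⟨⟨⟨⟨⟨hL, hR⟩, hL'⟩, hR'⟩, hk⟩, hw⟩, hI⟩, hDk⟩, hst⟩, hM⟩, e1⟩, e2⟩ := hok
  rw [stepsOK_spec hI w steps hst, ← hI] at hM
  subst hM hDk
  set n := D.rank + D.nroots
  set φ := (ZMod.castHom (dvd_refl 2) F).mapMatrix (m := Fin n)
  rw [word_matrix h w hw, show (1 : Matrix D.Idx D.Idx F) = (1 : Matrix (Fin n) (Fin n) F).submatrix (code D) (code D) from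
    (Matrix.submatrix_one_equiv _).symm,
    show ∀ X Y : Matrix (Fin n) (Fin n) F, X.submatrix (code D) (code D) - Y.submatrix (code D) (code D) =
      (X - Y).submatrix (code D) (code D) from fun _ _ => rfl]
  rw [show ((X : Matrix (Fin n) (Fin n) F) → (X.submatrix (code D) (code D)).rank = X.rank) from
    fun X => Matrix.rank_submatrix X (code D) (code D)]
  have hM : (bmat n (wordRows D w)).map (ZMod.castHom (dvd_refl 2) F) - 1 =
      φ (bmat n (badd (bdiag n n) (wordRows D w))) := by
    rw [bmat_add _ _ _ (bdiag_length _ _) (wordRows_length w), bdiag_one, map_add, map_one, sub_eq_add_neg,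
      add_comm]
    congr 1
    ext a b
    simp [Matrix.one_apply, CharTwo.neg_eq]
  rw [hM]
  have hlen : (badd (bdiag n n) (wordRows D w)).length = n := by
    rw [badd_length, bdiag_length, wordRows_length]; exact min_self n
  have f1 := congrArg (fun X => φ (bmat n X)) e1
  have f2 := congrArg (fun X => φ (bmat n X)) e2
  rw [bmat_mul _ _ _ (by rw [bmul_length, hL]) hR, bmat_mul _ _ _ hL (bdiag_length _ _), map_mul, map_mul] at f1
  rw [bmat_mul _ _ _ (by rw [bmul_length, hL']) hR', bmat_mul _ _ _ hL' hlen, map_mul, map_mul] at f2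
  have hd : (φ (bmat n (bdiag n k))).rank = k := by
    classical
    rw [bmat_bdiag, RingHom.mapMatrix_apply, Matrix.diagonal_map (map_zero _), Matrix.rank_diagonal,
      Fintype.card_subtype]
    rw [Finset.filter_congr (q := fun i : Fin n => (i : ℕ) < k) fun i _ => by
        by_cases hi : (i : ℕ) < k <;> simp [hi], Fin.card_filter_val_lt]
    exact min_eq_right hk
  refine le_antisymm ?_ ?_
  · refine le_trans ?_ hd.le
    rw [← f1]
    exact (Matrix.rank_mul_le_left _ _).trans (Matrix.rank_mul_le_right _ _)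
  · refine hd.symm.le.trans ?_
    rw [← f2]
    exact (Matrix.rank_mul_le_left _ _).trans (Matrix.rank_mul_le_right _ _)

/-- Conjugate elements have the same rank of `g - 1`. -/
theorem rank_conj (g x : GL D.Idx F) :
    (((g * x * g⁻¹ : GL D.Idx F) : Matrix D.Idx D.Idx F) - 1).rank =
      ((x : Matrix D.Idx D.Idx F) - 1).rank := by
  rw [Units.val_mul, Units.val_mul,
    show (g : Matrix D.Idx D.Idx F) * x * (g⁻¹ : GL D.Idx F) - 1 =
      g * ((x : Matrix D.Idx D.Idx F) - 1) * (g⁻¹ : GL D.Idx F) by
        rw [mul_sub, mul_one, sub_mul, ← Units.val_mul g g⁻¹, mul_inv_cancel, Units.val_one]]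
  rw [Matrix.rank_mul_eq_left_of_isUnit_det _ _ ((Matrix.isUnit_iff_isUnit_det _).1 (g⁻¹).isUnit),
    Matrix.rank_mul_eq_right_of_isUnit_det _ _ ((Matrix.isUnit_iff_isUnit_det _).1 g.isUnit)]

end CfsgLib.OutAut.InvCheck
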