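import Mathlib
import Cfsg.Agent.Lib.OutAut.InvCheck.Cert
import Cfsg.Agent.Lib.OutAut.InvCheck.Rank

/-!
From a certificate to the list of classes of involutions.
-/

set_option autoImplicit false
set_option linter.unusedSectionVars false
set_option linter.unusedSimpArgs false

namespace CfsgLib.OutAut.InvCheck

open Cfsg.Lie CfsgLib.Chevalley

/-- The links lead back to the representatives, one after the other. -/
def linksChain (T : Tab) (simples : List ℕ) (fuel : ℕ) :
    List (List ℕ) → List (List ℕ × List Move × List ℕ) → Option (List (List ℕ))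
  | solved, [] => some solved
  | solved, p :: r =>
    if solved.contains p.2.2 && linkOK T simples fuel p.2.1 p.1 p.2.2 then
      linksChain T simples fuel (p.1 :: solved) r
    else none

/-- All certificates fit together. -/
def classesOK (T : Tab) (simples : List ℕ) (fuel : ℕ) (reps : List (List ℕ))
    (terminals : List (ℕ × ℕ)) (entries : List (ℕ × ℕ × Tree))
    (scales : List (ℕ × List (ℕ × List ℤ))) (links : List (List ℕ × List Move × List ℕ)) : Bool :=
  entries.any (fun e => e.1 == 0 && T.pos.all e.2.1.testBit) &&
  match linksChain T simples fuel reps links with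
  | some solved => terminals.all fun p => p.2 == 0 &&
      (p.1 == 0 || scales.any fun q => q.1 == p.1 && solved.contains (q.2.map Prod.fst))
  | none => false

variable {D : ChevalleyDatum} {A : Aux} {T : Tab} {F : Type*} [Field F] [CharP F 2]

theorem linksChain_sound {P : GL D.Idx F → Prop} (h : Full D A) (hT : T.Valid D) (hP : ConjInv D P)
    {simples : List ℕ} (hs : simples = (List.range D.rank).map D.simple) {fuel : ℕ} :
    ∀ (links : List (List ℕ × List Move × List ℕ)) (solved out : List (List ℕ)),
      linksChain T simples fuel solved links = some out → (∀ w ∈ solved, P (wordU h w)) →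
      ∀ w ∈ out, P (wordU h w) := by
  intro links
  induction links with
  | nil =>
    intro solved out e hw
    rw [linksChain, Option.some.injEq] at e
    exact e ▸ hw
  | cons p r ih =>
    intro solved out e hw
    rw [linksChain] at e
    split at e
    · rename_i hc
      simp only [Bool.and_eq_true, List.contains_iff_mem] at hc
      refine ih _ out e fun w hmem => ?_
      rcases List.mem_cons.1 hmem with rfl | hmem
      · exact word_of_link h hT hP hs hc.2 (hw _ hc.1)
      · exact hw w hmem
    · exact absurd e (by simp)

/-- Every involution is conjugate to one of the representatives. -/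
theorem exists_rep (h : Full D A) (hT : T.Valid D) [Fintype F] {simples : List ℕ}
    (hs : simples = (List.range D.rank).map D.simple) {fuel : ℕ} {reps : List (List ℕ)}
    {terminals : List (ℕ × ℕ)} {entries : List (ℕ × ℕ × Tree)}
    {scales : List (ℕ × List (ℕ × List ℤ))} {links : List (List ℕ × List Move × List ℕ)}
    (hchain : Chain T simples terminals entries)
    (hscales : scales.all (fun p => scaleOK D T p.1 p.2) = true)
    (hok : classesOK T simples fuel reps terminals entries scales links = true)
    {g : GL D.Idx F} (hg : g ∈ D.group F) (h2 : g * g = 1) (h1 : g ≠ 1) :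
    ∃ w ∈ reps, ∃ x ∈ D.group F, x * g * x⁻¹ = wordU h w := by
  classical
  haveI : PerfectRing F 2 := PerfectRing.ofSurjective F 2
    (Finite.injective_iff_surjective.1 (frobenius_inj F 2))
  let P : GL D.Idx F → Prop := fun u => u = 1 ∨ ∃ w ∈ reps, ∃ x ∈ D.group F, x * u * x⁻¹ = wordU h w
  have hP : ConjInv D P := by
    rintro a ha u (hu | ⟨w, hw, x, hx, e⟩)
    · exact Or.inl (conj_eq_one_iff.1 hu)
    · exact Or.inr ⟨w, hw, x * a, mul_mem hx ha, by rw [← e]; group⟩
  rw [classesOK] at hok
  cases hl : linksChain T simples fuel reps links with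
  | none => simp [hl] at hok
  | some solved =>
    simp only [hl, Bool.and_eq_true, List.any_eq_true, List.all_eq_true, beq_iff_eq, Bool.or_eq_true,
      List.contains_iff_mem] at hok
    obtain ⟨⟨e, he, he1, he2⟩, hterm⟩ := hok
    have hsolved := linksChain_sound (P := P) h hT hP hs links reps solved hl fun w hw =>
      Or.inr ⟨w, hw, 1, one_mem _, by group⟩
    have hbase : ∀ p ∈ terminals, Sol h P p.1 p.2 := by
      intro p hp
      obtain ⟨hp2, hp1⟩ := hterm p hp
      rw [hp2]
      rcases hp1 with hp1 | ⟨q, hq, hq1, hq2⟩
      · rintro u - ⟨c, rfl, hc⟩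
        refine Or.inl (List.prod_eq_one fun x hx => ?_)
        obtain ⟨r, hr, rfl⟩ := List.mem_map.1 hx
        have hr' : D.IsPosRoot r := (Set.ext_iff.1 h.toStd.posList.2.1 r).1 hr
        have hzero : c r = 0 := by
          by_contra hne
          have := (hc r hr').1 hne
          rw [hp1, mem_or] at this
          exact this.elim not_mem_zero not_mem_zero
        rw [hzero, xG_zero]
      · rw [← hq1]
        exact sol_scale h hT hP (List.all_eq_true.1 hscales q hq) (hsolved _ hq2)
    have hsol := sol_chain h hT hP hs entries terminals hchain hbase e he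
    rw [he1] at hsol
    rcases all_of_top h hP (fun r hr => he2 r ((hT.mem_pos h).2 hr)) hsol g hg h2 with hh | hh
    · exact absurd hh h1
    · exact hh

theorem wordU_mem_group (h : Full D A) (w : List ℕ) : (wordU h w : GL D.Idx F) ∈ D.group F := by
  refine Subgroup.list_prod_mem _ fun x hx => ?_
  obtain ⟨r, -, rfl⟩ := List.mem_map.1 hx
  exact xG_mem_group h.cert r 1

/-- A word of rank at least one whose square collapses has order two. -/
theorem orderOf_word (h : Full D A) (hT : T.Valid D) {w : List ℕ} {fuel k : ℕ}
    (hsq : ((w ++ w).all T.pos.contains && collect T fuel (w ++ w) == []) = true)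
    (hr : (((wordU h w : GL D.Idx F) : Matrix D.Idx D.Idx F) - 1).rank = k) (hk : k ≠ 0) :
    orderOf (wordU h w : GL D.Idx F) = 2 := by
  simp only [Bool.and_eq_true, List.all_eq_true, List.contains_iff_mem, beq_iff_eq] at hsq
  obtain ⟨-, hc⟩ := collect_spec (F := F) h hT fuel _ hsq.1
  rw [hsq.2, wordU_append] at hc
  refine orderOf_eq_prime (by rw [sq, ← hc]; simp [wordU, prodU]) fun e => hk ?_
  rw [← hr, e, Units.val_one, sub_self, Matrix.rank_zero]

theorem rank_eq_of_conj (h : Full D A) {w w' : List ℕ} {k k' : ℕ}
    (hr : (((wordU h w : GL D.Idx F) : Matrix D.Idx D.Idx F) - 1).rank = k)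
    (hr' : (((wordU h w' : GL D.Idx F) : Matrix D.Idx D.Idx F) - 1).rank = k')
    {x : GL D.Idx F} (e : x * wordU h w * x⁻¹ = wordU h w') : k = k' := by
  rw [← hr, ← hr', ← e, rank_conj]

end CfsgLib.OutAut.InvCheck
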