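import Mathlib
import Cfsg.Agent.Lib.OutAut.InvCheck.Cert

/-!
The checker with the patterns evaluated before each recursive call, for evaluation in the kernel.
-/

set_option autoImplicit false

namespace CfsgLib.OutAut.InvCheck

/-- Evaluate a number before continuing with it. -/
def force (n : ℕ) (k : ℕ → Bool) : Bool :=
  match n with
  | 0 => k 0
  | m + 1 => k (m + 1)

theorem force_eq (n : ℕ) (k : ℕ → Bool) : force n k = k n := by
  cases n <;> rfl

/-- `check`, with the patterns evaluated first. -/
def checkF (T : Tab) (simples : List ℕ) (hubs : List (ℕ × ℕ)) : ℕ → ℕ → Tree → Bool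
  | nz, a, .hub k => check T simples hubs nz a (.hub k)
  | nz, a, .contra t x y i j => check T simples hubs nz a (.contra t x y i j)
  | nz, a, .zero t x y i j sub =>
    zeroOK T (nz ||| a) t x y i j &&
      (if nz.testBit x then force (del a y) fun a' => checkF T simples hubs nz a' sub
       else nz.testBit y && force (del a x) fun a' => checkF T simples hubs nz a' sub)
  | nz, a, .kill k t b i j sub =>
    killOK T nz a k t b i j &&
      force (killJ T (nz ||| a) k t b) fun J =>
        force (del (sub' nz J) t) fun nz' => force (del (a ||| J) t) fun a' =>
          checkF T simples hubs nz' a' sub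
  | nz, a, .split m x y =>
    force (del a m) fun a' => force (nz ||| 2 ^ m) fun nz' =>
      checkF T simples hubs nz a' x && checkF T simples hubs nz' a' y
  | nz, a, .weyl i Tm sub =>
    weylOK T simples.length nz a i (simples.getD i 0) Tm &&
      force (reflMask T i Tm nz) fun nz' => force (reflMask T i Tm a ||| Tm) fun a' =>
        checkF T simples hubs nz' a' sub

theorem checkF_eq (T : Tab) (simples : List ℕ) (hubs : List (ℕ × ℕ)) :
    ∀ (t : Tree) (nz a : ℕ), checkF T simples hubs nz a t = check T simples hubs nz a t := by
  intro t
  induction t <;> intro nz a <;> simp [checkF, check, force_eq, *]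

theorem check_of_checkF {T : Tab} {simples : List ℕ} {hubs : List (ℕ × ℕ)} {t : Tree} {nz a : ℕ}
    (h : checkF T simples hubs nz a t = true) : check T simples hubs nz a t = true :=
  checkF_eq T simples hubs t nz a ▸ h

end CfsgLib.OutAut.InvCheck
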