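import Mathlib
import Cfsg.Agent.Lib.OutAut.InvCheck.Classes
import Cfsg.Agent.Lib.OutAut.InvCheck.Force

/-!
Large certificates: one table of patterns, each solved by a tree referring to earlier patterns only,
so that the trees can be checked independently of each other.
-/

set_option autoImplicit false
set_option linter.unusedSectionVars false
set_option linter.unusedSimpArgs false

namespace CfsgLib.OutAut.InvCheck

open Cfsg.Lie CfsgLib.Chevalley

/-- The patterns, in blocks of one hundred. -/
def lookup (C : List (List (ℕ × ℕ))) (k : ℕ) : Option (ℕ × ℕ) :=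
  match GetElem?.getElem? C (k / 100) with
  | some blk => GetElem?.getElem? blk (k % 100)
  | none => none

/-- Check a tree for the pattern of index `n`, evaluating the patterns before each recursive call. -/
def checkB (T : Tab) (simples : List ℕ) (C : List (List (ℕ × ℕ))) (n : ℕ) : ℕ → ℕ → Tree → Bool
  | nz, a, .hub k =>
    Nat.blt k n && match lookup C k with
    | some p => p.1 == nz && ((nz ||| a) ||| (nz ||| p.2) == nz ||| p.2)
    | none => false
  | nz, a, .contra t x y i j => zeroOK T (nz ||| a) t x y i j && nz.testBit x && nz.testBit y
  | nz, a, .zero t x y i j sub =>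
    zeroOK T (nz ||| a) t x y i j &&
      (if nz.testBit x then force (del a y) fun a' => checkB T simples C n nz a' sub
       else nz.testBit y && force (del a x) fun a' => checkB T simples C n nz a' sub)
  | nz, a, .kill k t b i j sub =>
    killOK T nz a k t b i j &&
      force (killJ T (nz ||| a) k t b) fun J =>
        force (del (sub' nz J) t) fun nz' => force (del (a ||| J) t) fun a' =>
          checkB T simples C n nz' a' sub
  | nz, a, .split m x y =>
    force (del a m) fun a' => force (nz ||| 2 ^ m) fun nz' =>
      checkB T simples C n nz a' x && checkB T simples C n nz' a' y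
  | nz, a, .weyl i Tm sub =>
    weylOK T simples.length nz a i (simples.getD i 0) Tm &&
      force (reflMask T i Tm nz) fun nz' => force (reflMask T i Tm a ||| Tm) fun a' =>
        checkB T simples C n nz' a' sub

/-- The trees solve the patterns with indices from `n` on. -/
def allOK (T : Tab) (simples : List ℕ) (C : List (List (ℕ × ℕ))) : ℕ → List Tree → Bool
  | _, [] => true
  | n, t :: r =>
    (match lookup C n with
     | some p => force p.1 fun nz => force p.2 fun a => checkB T simples C n nz a t
     | none => false) &&
    force (n + 1) fun m => allOK T simples C m r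

theorem allOK_append {T : Tab} {simples : List ℕ} {C : List (List (ℕ × ℕ))} :
    ∀ (l r : List Tree) (n m : ℕ), allOK T simples C n l = true → n + l.length = m →
      allOK T simples C m r = true → allOK T simples C n (l ++ r) = true := by
  intro l
  induction l with
  | nil =>
    rintro r n m - rfl h2
    simpa using h2
  | cons t l ih =>
    intro r n m h1 hm h2
    simp only [List.cons_append, allOK, force_eq, Bool.and_eq_true] at h1 ⊢
    refine ⟨h1.1, ih r (n + 1) m h1.2 ?_ h2⟩
    rw [List.length_cons] at hm
    omega

variable {D : ChevalleyDatum} {A : Aux} {T : Tab} {F : Type*} [Field F] [CharP F 2]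
  {P : GL D.Idx F → Prop}

theorem sol_of_checkB (h : Full D A) (hT : T.Valid D) [PerfectRing F 2] (hP : ConjInv D P)
    {simples : List ℕ} (hs : simples = (List.range D.rank).map D.simple) {C : List (List (ℕ × ℕ))}
    {n : ℕ} (hh : ∀ k < n, ∀ p, lookup C k = some p → Sol h P p.1 p.2) :
    ∀ (t : Tree) (nz a : ℕ), checkB T simples C n nz a t = true → Sol h P nz a := by
  intro t
  induction t with
  | hub k =>
    intro nz a hc
    rw [checkB] at hc
    cases hk : lookup C k with
    | none => simp [hk] at hc
    | some p =>
      simp only [hk, Bool.and_eq_true, beq_iff_eq, Nat.blt_eq] at hc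
      have hp := hh k hc.1 p hk
      rw [hc.2.1] at hp
      exact sol_weaken h hc.2.2 hp
  | contra t x y i j =>
    intro nz a hc
    simp only [checkB, Bool.and_eq_true] at hc
    exact sol_zero h hT hc.1.1 (Or.inl rfl) (by rw [if_pos rfl]; exact hc.2) (Or.inl hc.1.2)
  | zero t x y i j sub ih =>
    intro nz a hc
    simp only [checkB, force_eq, Bool.and_eq_true] at hc
    obtain ⟨hz, hsub⟩ := hc
    by_cases hx : nz.testBit x = true
    · rw [if_pos hx] at hsub
      refine sol_zero h hT hz (z := y) (Or.inr rfl) ?_ (Or.inr (ih _ _ hsub))
      split_ifs with e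
      · simp only [zeroOK, Bool.and_eq_true, Bool.not_eq_true', beq_eq_false_iff_ne] at hz
        exact absurd e.symm hz.1.1.1.1.2
      · exact hx
    · rw [if_neg hx, Bool.and_eq_true] at hsub
      exact sol_zero h hT hz (z := x) (Or.inl rfl) (by rw [if_pos rfl]; exact hsub.1) (Or.inr (ih _ _ hsub.2))
  | kill k t b i j sub ih =>
    intro nz a hc
    simp only [checkB, force_eq, Bool.and_eq_true] at hc
    exact sol_kill h hT hP hc.1 (ih _ _ hc.2)
  | split m x y ihx ihy =>
    intro nz a hc
    simp only [checkB, force_eq, Bool.and_eq_true] at hc
    exact sol_split h (ihx _ _ hc.1) (ihy _ _ hc.2)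
  | weyl i Tm sub ih =>
    intro nz a hc
    simp only [checkB, force_eq, Bool.and_eq_true] at hc
    have hlen : simples.length = D.rank := by simp [hs]
    have hi : i < simples.length := by
      have := hc.1
      simp only [weylOK, Bool.and_eq_true, Nat.blt_eq] at this
      exact this.1.1.1
    exact sol_weyl h hT hP (hlen ▸ hc.1) (simples_get hs hi).2 (ih _ _ hc.2)

theorem sol_prog (h : Full D A) (hT : T.Valid D) [PerfectRing F 2] (hP : ConjInv D P)
    {simples : List ℕ} (hs : simples = (List.range D.rank).map D.simple) {C : List (List (ℕ × ℕ))} :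
    ∀ (l : List Tree) (n : ℕ), allOK T simples C n l = true →
      (∀ k < n, ∀ p, lookup C k = some p → Sol h P p.1 p.2) →
      ∀ k < n + l.length, ∀ p, lookup C k = some p → Sol h P p.1 p.2 := by
  intro l
  induction l with
  | nil => intro n _ hb k hk; exact hb k (by simpa using hk)
  | cons t l ih =>
    intro n hc hb k hk
    simp only [allOK, force_eq, Bool.and_eq_true] at hc
    refine ih (n + 1) hc.2 (fun j hj p hp => ?_) k (by rw [List.length_cons] at hk; omega)
    rcases Nat.lt_succ_iff_lt_or_eq.1 hj with hlt | rfl
    · exact hb j hlt p hp
    · simp only [hp] at hc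
      exact sol_of_checkB h hT hP hs hb t _ _ hc.1

/-- The final patterns, the root pattern and the links fit together. -/
def progOK (T : Tab) (simples : List ℕ) (fuel : ℕ) (reps : List (List ℕ))
    (C : List (List (ℕ × ℕ))) (nbase total : ℕ)
    (scales : List (ℕ × List (ℕ × List ℤ))) (links : List (List ℕ × List Move × List ℕ)) : Bool :=
  (match lookup C (total - 1) with
   | some e => Nat.blt 0 total && e.1 == 0 && T.pos.all e.2.testBit
   | none => false) &&
  match linksChain T simples fuel reps links with
  | some solved => (List.range nbase).all fun k =>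
      match lookup C k with
      | some p => p.2 == 0 &&
          (p.1 == 0 || scales.any fun q => q.1 == p.1 && solved.contains (q.2.map Prod.fst))
      | none => true
  | none => false

/-- Every involution is conjugate to one of the representatives. -/
theorem exists_rep_prog (h : Full D A) (hT : T.Valid D) [Fintype F] {simples : List ℕ}
    (hs : simples = (List.range D.rank).map D.simple) {fuel : ℕ} {reps : List (List ℕ)}
    {C : List (List (ℕ × ℕ))} {nbase total : ℕ} {trees : List Tree}
    {scales : List (ℕ × List (ℕ × List ℤ))} {links : List (List ℕ × List Move × List ℕ)}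
    (hall : allOK T simples C nbase trees = true) (hlen : nbase + trees.length = total)
    (hscales : scales.all (fun p => scaleOK D T p.1 p.2) = true)
    (hok : progOK T simples fuel reps C nbase total scales links = true)
    {g : GL D.Idx F} (hg : g ∈ D.group F) (h2 : g * g = 1) (h1 : g ≠ 1) :
    ∃ w ∈ reps, ∃ x ∈ D.group F, x * g * x⁻¹ = wordU h w := by
  classical
  haveI : PerfectRing F 2 := PerfectRing.ofSurjective F 2
    (Finite.injective_iff_surjective.1 (frobenius_inj F 2))
  let P : GL D.Idx F → Prop := fun u => u = 1 ∨ ∃ w ∈ reps, ∃ x ∈ D.group F, x * u * x⁻¹ = wordU h w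
  have hP : ConjInv D P := by
    rintro a ha u (hu | ⟨w, hw, x, hx, e⟩)
    · exact Or.inl (conj_eq_one_iff.1 hu)
    · exact Or.inr ⟨w, hw, x * a, mul_mem hx ha, by rw [← e]; group⟩
  rw [progOK, Bool.and_eq_true] at hok
  obtain ⟨htop, hok⟩ := hok
  cases hl : linksChain T simples fuel reps links with
  | none => simp [hl] at hok
  | some solved =>
    simp only [hl, List.all_eq_true] at hok
    have hsolved := linksChain_sound (P := P) h hT hP hs links reps solved hl fun w hw =>
      Or.inr ⟨w, hw, 1, one_mem _, by group⟩
    have hbase : ∀ k < nbase, ∀ p, lookup C k = some p → Sol h P p.1 p.2 := by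
      intro k hk p hp
      have hq := hok k (List.mem_range.2 hk)
      simp only [hp, Bool.and_eq_true, beq_iff_eq, Bool.or_eq_true, List.any_eq_true,
        List.contains_iff_mem] at hq
      obtain ⟨hp2, hp1⟩ := hq
      rw [hp2]
      rcases hp1 with hp1 | ⟨q, hq, hq1, hq2⟩
      · rintro u - ⟨c, rfl, hc⟩
        refine Or.inl (List.prod_eq_one fun x hx => ?_)
        obtain ⟨r, hr, rfl⟩ := List.mem_map.1 hx
        have hr' : D.IsPosRoot r := (Set.ext_iff.1 h.toStd.posList.2.1 r).1 hr
        have hzero : c r = 0 := by
          by_contra hne
          have := (hc r hr').1 hne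
          rw [hp1, mem_or] at this
          exact this.elim not_mem_zero not_mem_zero
        rw [hzero, xG_zero]
      · rw [← hq1]
        exact sol_scale h hT hP (List.all_eq_true.1 hscales q hq) (hsolved _ hq2)
    cases he : lookup C (total - 1) with
    | none => simp [he] at htop
    | some e =>
      simp only [he, Bool.and_eq_true, beq_iff_eq, List.all_eq_true, Nat.blt_eq] at htop
      obtain ⟨⟨hpos, he1⟩, he2⟩ := htop
      have hsol := sol_prog h hT hP hs trees nbase hall hbase (total - 1) (by omega) e he
      rw [he1] at hsol
      rcases all_of_top h hP (fun r hr => he2 r ((hT.mem_pos h).2 hr)) hsol g hg h2 with hh | hh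
      · exact absurd hh h1
      · exact hh

end CfsgLib.OutAut.InvCheck
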