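import Mathlib
import Cfsg.Agent.Lib.OutAut.InvCheck.Prog

/-!
The certificate checker written with bare recursors, which evaluate quickly in the kernel.
-/

set_option autoImplicit false

noncomputable section

namespace CfsgLib.OutAut.InvCheck.Fast

/-- A bit of a number. -/
def tb (m r : ℕ) : Bool := Nat.beq (Nat.land (Nat.shiftRight m r) 1) 1

/-- Conjunction over a list. -/
def allR {α : Type} (p : α → Bool) (l : List α) : Bool :=
  List.rec true (fun x _ ih => Bool.rec false ih (p x)) l

/-- Fold from the right. -/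
def foldR {α β : Type} (f : α → β → β) (d : β) (l : List α) : β :=
  List.rec d (fun x _ ih => f x ih) l

/-- Select the elements satisfying `p`. -/
def filterR {α : Type} (p : α → Bool) (l : List α) : List α :=
  List.rec [] (fun x _ ih => Bool.rec ih (x :: ih) (p x)) l

/-- Membership in a list of numbers. -/
def memR (r : ℕ) (l : List ℕ) : Bool :=
  List.rec false (fun x _ ih => Bool.rec ih true (Nat.beq r x)) l

/-- An entry of a list. -/
def nth {α : Type} (d : α) (l : List α) : ℕ → α :=
  List.rec (fun _ => d) (fun x _ ih k => Nat.rec x (fun j _ => ih j) k) l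

/-- An entry of a list, if there is one. -/
def nth? {α : Type} (l : List α) : ℕ → Option α :=
  List.rec (fun _ => none) (fun x _ ih k => Nat.rec (some x) (fun j _ => ih j) k) l

/-- The commutator terms stored in a row for a second root. -/
def findR (s : ℕ) (l : List (ℕ × List (ℕ × ℕ × ℕ) × ℕ)) : List (ℕ × ℕ × ℕ) :=
  List.rec [] (fun e _ ih => Bool.rec ih e.2.1 (Nat.beq e.1 s)) l

theorem tb_eq (m r : ℕ) : tb m r = m.testBit r := by
  show Nat.beq ((m >>> r) &&& 1) 1 = _
  have h : (m >>> r) &&& 1 = (m >>> r) % 2 := Nat.and_one_is_mod _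
  rw [Nat.testBit, Nat.and_comm 1, h]
  rcases Nat.mod_two_eq_zero_or_one (m >>> r) with e | e <;> rw [e] <;> rfl

theorem beq_eq (a b : ℕ) : Nat.beq a b = (a == b) := by
  rw [Bool.eq_iff_iff, beq_iff_eq]
  exact ⟨Nat.eq_of_beq_eq_true, fun e => e ▸ Nat.beq_refl a⟩

theorem allR_eq {α : Type} (p : α → Bool) : ∀ l : List α, allR p l = l.all p
  | [] => rfl
  | x :: l => by
    show Bool.rec (motive := fun _ => Bool) false (allR p l) (p x) = _
    rw [allR_eq p l, List.all_cons]
    cases p x <;> rfl

theorem foldR_eq {α β : Type} (f : α → β → β) (d : β) : ∀ l : List α, foldR f d l = l.foldr f d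
  | [] => rfl
  | x :: l => by
    show f x (foldR f d l) = _
    rw [foldR_eq f d l, List.foldr_cons]

theorem filterR_eq {α : Type} (p : α → Bool) : ∀ l : List α, filterR p l = l.filter p
  | [] => rfl
  | x :: l => by
    show Bool.rec (motive := fun _ => List α) (filterR p l) (x :: filterR p l) (p x) = _
    rw [filterR_eq p l]
    cases h : p x <;> simp [List.filter_cons, h]

theorem memR_eq (r : ℕ) : ∀ l : List ℕ, memR r l = l.contains r
  | [] => rfl
  | x :: l => by
    show Bool.rec (motive := fun _ => Bool) (memR r l) true (Nat.beq r x) = _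
    rw [memR_eq r l, beq_eq, List.contains_cons]
    cases r == x <;> rfl

theorem nth_eq {α : Type} (d : α) : ∀ (l : List α) (k : ℕ), nth d l k = l.getD k d
  | [], _ => by simp [nth]
  | x :: l, 0 => by simp [nth]
  | x :: l, k + 1 => by
    show nth d l k = _
    rw [nth_eq d l k, List.getD_cons_succ]

theorem nth?_eq {α : Type} : ∀ (l : List α) (k : ℕ), nth? l k = GetElem?.getElem? l k
  | [], _ => by simp [nth?]
  | x :: l, 0 => by simp [nth?]
  | x :: l, k + 1 => by
    show nth? l k = _
    rw [nth?_eq l k, List.getElem?_cons_succ]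

theorem findR_eq (T : Tab) (r s : ℕ) : findR s (T.rowOf r) = T.out r s := by
  rw [Tab.out]
  generalize T.rowOf r = l
  induction l with
  | nil => rfl
  | cons e l ih =>
    show Bool.rec (motive := fun _ => List (ℕ × ℕ × ℕ)) (findR s l) e.2.1 (Nat.beq e.1 s) = _
    rw [ih, beq_eq, List.find?_cons]
    cases e.1 == s <;> rfl

/-- The up-closure. -/
def upF (T : Tab) (c : ℕ) : ℕ := nth 0 T.up (Nat.sub c T.base)

/-- The row. -/
def rowF (T : Tab) (r : ℕ) : List (ℕ × List (ℕ × ℕ × ℕ) × ℕ) := nth [] T.row (Nat.sub r T.base)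

/-- The reflection. -/
def reflF (T : Tab) (i r : ℕ) : ℕ := nth 0 (nth [] T.refl i) r

theorem upF_eq (T : Tab) (c : ℕ) : upF T c = T.upOf c := nth_eq _ _ _

theorem rowF_eq (T : Tab) (r : ℕ) : rowF T r = T.rowOf r := nth_eq _ _ _

theorem reflF_eq (T : Tab) (i r : ℕ) : reflF T i r = T.reflOf i r := by
  rw [reflF, nth_eq, nth_eq, Tab.reflOf]

/-- `zeroOK`. -/
def zeroF (T : Tab) (S t a b i j : ℕ) : Bool :=
  memR t T.pos && memR a T.pos && memR b T.pos && !(Nat.beq a b) && !(Nat.beq i 0) && !(Nat.beq j 0) &&
  (filterR (fun c => tb (upF T c.1) t) (findR b (rowF T a)) == [(t, i, j)]) &&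
  allR (fun p => Bool.rec true
      (bif Nat.beq p.1 a then Nat.beq (Nat.lor (Nat.land p.2 S) (2 ^ b)) (2 ^ b)
       else bif Nat.beq p.1 b then Nat.beq (Nat.lor (Nat.land p.2 S) (2 ^ a)) (2 ^ a)
       else Nat.beq (Nat.land p.2 S) 0)
      (tb S p.1))
    (nth [] T.pre (Nat.sub t T.base))

theorem zeroF_eq (T : Tab) (S t a b i j : ℕ) : zeroF T S t a b i j = zeroOK T S t a b i j := by
  rw [zeroF, zeroOK]
  simp only [memR_eq, beq_eq, filterR_eq, allR_eq, findR_eq, rowF_eq, upF_eq, tb_eq, nth_eq]
  congr 1
  show (T.preOf t).all _ = _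
  congr 1
  funext p
  cases S.testBit p.1 <;> cases h1 : p.1 == a <;> cases h2 : p.1 == b <;> simp <;> rfl

/-- `killJ`. -/
def killJF (T : Tab) (S k t b : ℕ) : ℕ :=
  Nat.lor
    (foldR (fun e m => bif tb S e.1 then
      Nat.lor (bif Nat.beq e.1 b then
        foldR (fun c m' => Nat.lor (upF T c.1) m') 0 (filterR (fun c => !(Nat.beq c.1 t)) e.2.1)
        else e.2.2) m else m) 0 (rowF T k))
    (foldR (fun e m => bif tb S e.1 then Nat.lor e.2.2 m else m) 0 (rowF T t))

theorem killJF_eq (T : Tab) (S k t b : ℕ) : killJF T S k t b = killJ T S k t b := by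
  rw [killJF, killJ]
  simp only [foldR_eq, filterR_eq, rowF_eq, upF_eq, beq_eq, tb_eq]
  congr 1
  · congr 1
    funext e m
    cases S.testBit e.1 <;> cases e.1 == b <;> rfl
  · congr 1
    funext e m
    cases S.testBit e.1 <;> rfl

/-- `killOK`, given the mask of affected roots. -/
def killF (T : Tab) (nz k t b i j J : ℕ) : Bool :=
  memR k T.pos && memR t T.pos && memR b T.pos && tb nz b && !(Nat.beq k b) &&
  (Nat.beq i 1 || Nat.beq i 2) && (filterR (fun c => Nat.beq c.1 t) (findR b (rowF T k)) == [(t, i, j)]) &&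
  !(tb J t)

theorem killF_eq (T : Tab) (nz a k t b i j : ℕ) :
    killF T nz k t b i j (killJ T (nz ||| a) k t b) = killOK T nz a k t b i j := by
  rw [killF, killOK]
  simp only [memR_eq, beq_eq, filterR_eq, findR_eq, rowF_eq, tb_eq]

/-- `reflMask`. -/
def reflMaskF (T : Tab) (i Tm m : ℕ) : ℕ :=
  foldR (fun x acc => bif tb m x then
    (bif tb Tm (reflF T i x) then acc else Nat.lor (2 ^ reflF T i x) acc) else acc) 0 T.pos

theorem reflMaskF_eq (T : Tab) (i Tm m : ℕ) : reflMaskF T i Tm m = reflMask T i Tm m := by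
  rw [reflMaskF, reflMask]
  simp only [foldR_eq, tb_eq, reflF_eq]
  congr 1
  funext x acc
  cases m.testBit x <;> cases Tm.testBit (T.reflOf i x) <;> rfl

/-- `weylOK`. -/
def weylF (T : Tab) (rank nz a i p Tm : ℕ) : Bool :=
  Nat.blt i rank && !(tb (Nat.lor nz a) p) &&
  allR (fun x => Bool.rec true (Nat.beq (Nat.lor (upF T x) Tm) Tm) (tb Tm x)) T.pos &&
  (fun L => allR (fun x => allR (fun y =>
      Bool.rec (allR (fun c => tb Tm c.1) (findR (reflF T i y) (rowF T (reflF T i x)))) true (Nat.beq x y)) L) L)
    (filterR (fun x => tb (Nat.lor nz a) x && !(tb Tm (reflF T i x))) T.pos)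

theorem weylF_eq (T : Tab) (rank nz a i p Tm : ℕ) : weylF T rank nz a i p Tm = weylOK T rank nz a i p Tm := by
  rw [weylF, weylOK]
  simp only [allR_eq, filterR_eq, findR_eq, rowF_eq, reflF_eq, upF_eq, tb_eq, beq_eq]
  congr 1
  · congr 1
    · congr 1
      funext x
      cases Tm.testBit x <;> rfl
  · congr 1
    funext x
    congr 1
    funext y
    cases x == y <;> rfl

/-- A block table entry. -/
def lookupF (C : List (List (ℕ × ℕ))) (k : ℕ) : Option (ℕ × ℕ) :=
  Option.rec none (fun blk => nth? blk (Nat.mod k 100)) (nth? C (Nat.div k 100))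

theorem lookupF_eq (C : List (List (ℕ × ℕ))) (k : ℕ) : lookupF C k = lookup C k := by
  rw [lookupF, lookup, nth?_eq]
  show Option.rec (motive := fun _ => Option (ℕ × ℕ)) none (fun blk => nth? blk (k % 100)) (GetElem?.getElem? C (k / 100)) = _
  cases GetElem?.getElem? C (k / 100) with
  | none => rfl
  | some blk => exact nth?_eq _ _

/-- `checkB`. -/
def checkR (T : Tab) (simples : List ℕ) (C : List (List (ℕ × ℕ))) (n : ℕ) (t : Tree) : ℕ → ℕ → Bool :=
  Tree.rec
    (fun k nz a => Nat.blt k n &&
      Option.rec false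
        (fun p => Nat.beq p.1 nz &&
          Nat.beq (Nat.lor (Nat.lor nz a) (Nat.lor nz p.2)) (Nat.lor nz p.2))
        (lookupF C k))
    (fun t x y i j nz a => zeroF T (Nat.lor nz a) t x y i j && tb nz x && tb nz y)
    (fun t x y i j _ ih nz a => zeroF T (Nat.lor nz a) t x y i j &&
      bif tb nz x then force (del a y) fun a' => ih nz a'
      else tb nz y && force (del a x) fun a' => ih nz a')
    (fun k t b i j _ ih nz a => force (killJF T (Nat.lor nz a) k t b) fun J =>
      killF T nz k t b i j J &&
        force (del (sub' nz J) t) fun nz' => force (del (Nat.lor a J) t) fun a' => ih nz' a')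
    (fun m _ _ ihx ihy nz a => force (del a m) fun a' => force (Nat.lor nz (2 ^ m)) fun nz' =>
      ihx nz a' && ihy nz' a')
    (fun i Tm _ ih nz a => weylF T simples.length nz a i (nth 0 simples i) Tm &&
      force (reflMaskF T i Tm nz) fun nz' => force (Nat.lor (reflMaskF T i Tm a) Tm) fun a' => ih nz' a')
    t

theorem checkR_eq (T : Tab) (simples : List ℕ) (C : List (List (ℕ × ℕ))) (n : ℕ) :
    ∀ (t : Tree) (nz a : ℕ), checkR T simples C n t nz a = checkB T simples C n nz a t := by
  intro t
  induction t with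
  | hub k =>
    intro nz a
    show (Nat.blt k n && Option.rec (motive := fun _ => Bool) false (fun p => Nat.beq p.1 nz &&
          Nat.beq (Nat.lor (Nat.lor nz a) (Nat.lor nz p.2)) (Nat.lor nz p.2)) (lookupF C k)) = _
    rw [lookupF_eq, checkB]
    cases lookup C k with
    | none => rfl
    | some p => simp only [beq_eq]; rfl
  | contra t x y i j =>
    intro nz a
    show (zeroF T (nz ||| a) t x y i j && tb nz x && tb nz y) = _
    simp only [checkB, zeroF_eq, tb_eq]
  | zero t x y i j sub ih =>
    intro nz a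
    show (zeroF T (nz ||| a) t x y i j &&
      bif tb nz x then force (del a y) fun a' => checkR T simples C n sub nz a'
      else tb nz y && force (del a x) fun a' => checkR T simples C n sub nz a') = _
    simp only [checkB, zeroF_eq, tb_eq, force_eq, ih]
    cases nz.testBit x <;> rfl
  | kill k t b i j sub ih =>
    intro nz a
    show (force (killJF T (nz ||| a) k t b) fun J => killF T nz k t b i j J &&
      force (del (sub' nz J) t) fun nz' => force (del (a ||| J) t) fun a' =>
        checkR T simples C n sub nz' a') = _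
    simp only [checkB, force_eq, killJF_eq, killF_eq, ih]
  | split m x y ihx ihy =>
    intro nz a
    show (force (del a m) fun a' => force (nz ||| 2 ^ m) fun nz' =>
      checkR T simples C n x nz a' && checkR T simples C n y nz' a') = _
    simp only [checkB, force_eq, ihx, ihy]
  | weyl i Tm sub ih =>
    intro nz a
    show (weylF T simples.length nz a i (nth 0 simples i) Tm &&
      force (reflMaskF T i Tm nz) fun nz' => force (reflMaskF T i Tm a ||| Tm) fun a' =>
        checkR T simples C n sub nz' a') = _
    simp only [checkB, force_eq, weylF_eq, reflMaskF_eq, nth_eq, ih]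

/-- `allOK`. -/
def allF (T : Tab) (simples : List ℕ) (C : List (List (ℕ × ℕ))) (n : ℕ) (l : List Tree) : Bool :=
  List.rec (fun _ => true)
    (fun t _ ih n =>
      Option.rec false (fun p => force p.1 fun nz => force p.2 fun a => checkR T simples C n t nz a)
        (lookupF C n) &&
      force (n + 1) fun m => ih m) l n

theorem allF_eq (T : Tab) (simples : List ℕ) (C : List (List (ℕ × ℕ))) :
    ∀ (l : List Tree) (n : ℕ), allF T simples C n l = allOK T simples C n l
  | [], _ => rfl
  | t :: l, n => by
    show (Option.rec (motive := fun _ => Bool) false (fun p => force p.1 fun nz => force p.2 fun a => checkR T simples C n t nz a) (lookupF C n) && force (n + 1) fun m => allF T simples C m l) = _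
    simp only [allOK, force_eq, lookupF_eq, allF_eq T simples C l]
    cases lookup C n with
    | none => rfl
    | some p => simp only [force_eq, checkR_eq]

theorem allOK_of_fast {T : Tab} {simples : List ℕ} {C : List (List (ℕ × ℕ))} {n : ℕ} {l : List Tree}
    (h : allF T simples C n l = true) : allOK T simples C n l = true :=
  allF_eq T simples C l n ▸ h

end CfsgLib.OutAut.InvCheck.Fast
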