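import Mathlib
import Cfsg.Agent.Lib.OutAut.InvCheck.E8.Part0
import Cfsg.Agent.Lib.OutAut.InvCheck.E8.Part1
import Cfsg.Agent.Lib.OutAut.InvCheck.E8.Part2
import Cfsg.Agent.Lib.OutAut.InvCheck.E8.Part3
import Cfsg.Agent.Lib.OutAut.InvCheck.E8.Part4
import Cfsg.Agent.Lib.OutAut.InvCheck.E8.Part5
import Cfsg.Agent.Lib.OutAut.InvCheck.E8.Part6
import Cfsg.Agent.Lib.OutAut.InvCheck.E8.Part7
import Cfsg.Agent.Lib.OutAut.InvCheck.E8.Part8
import Cfsg.Agent.Lib.OutAut.InvCheck.E8.Part9
import Cfsg.Agent.Lib.OutAut.InvCheck.E8.Part10

/-!
The assembled certificate for the involutions of `E8` in characteristic two.
-/

set_option autoImplicit false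
set_option maxRecDepth 100000
set_option maxHeartbeats 0

noncomputable section

namespace CfsgLib.OutAut.InvCheck.E8

open Cfsg.Lie CfsgLib.Chevalley

/-- All trees. -/
def trees : List Tree := part0 ++ part1 ++ part2 ++ part3 ++ part4 ++ part5 ++ part6 ++ part7 ++ part8 ++ part9 ++ part10

theorem trees_ok : allOK tab simples patterns 10 trees = true :=
  (allOK_append _ _ 10 6803 (allOK_append _ _ 10 6187 (allOK_append _ _ 10 5774 (allOK_append _ _ 10 5242 (allOK_append _ _ 10 4553 (allOK_append _ _ 10 3936 (allOK_append _ _ 10 3123 (allOK_append _ _ 10 2348 (allOK_append _ _ 10 1683 (allOK_append _ _ 10 1010 part0_ok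
    (by simp only [List.length_append, part0_length]) part1_ok)
    (by simp only [List.length_append, part0_length, part1_length]) part2_ok)
    (by simp only [List.length_append, part0_length, part1_length, part2_length]) part3_ok)
    (by simp only [List.length_append, part0_length, part1_length, part2_length, part3_length]) part4_ok)
    (by simp only [List.length_append, part0_length, part1_length, part2_length, part3_length, part4_length]) part5_ok)
    (by simp only [List.length_append, part0_length, part1_length, part2_length, part3_length, part4_length, part5_length]) part6_ok)
    (by simp only [List.length_append, part0_length, part1_length, part2_length, part3_length, part4_length, part5_length, part6_length]) part7_ok)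
    (by simp only [List.length_append, part0_length, part1_length, part2_length, part3_length, part4_length, part5_length, part6_length, part7_length]) part8_ok)
    (by simp only [List.length_append, part0_length, part1_length, part2_length, part3_length, part4_length, part5_length, part6_length, part7_length, part8_length]) part9_ok)
    (by simp only [List.length_append, part0_length, part1_length, part2_length, part3_length, part4_length, part5_length, part6_length, part7_length, part8_length, part9_length]) part10_ok)

theorem trees_length : 10 + trees.length = 7120 := by
  simp only [trees, List.length_append, part0_length, part1_length, part2_length, part3_length, part4_length, part5_length, part6_length, part7_length, part8_length, part9_length, part10_length]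

end CfsgLib.OutAut.InvCheck.E8
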