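import Mathlib
import Cfsg.Agent.Lib.OutAut.InvCheck.Cert
import Cfsg.Agent.Lib.OutAut.InvCheck.TabF4

/-!
Reduction certificate for the involutions of `F4` in characteristic two.
-/

set_option autoImplicit false
set_option maxRecDepth 100000
set_option maxHeartbeats 0

namespace CfsgLib.OutAut.InvCheck.F4

open Cfsg.Lie CfsgLib.Chevalley

/-- The fundamental roots. -/
def simples : List ℕ := [33, 27, 25, 24]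

/-- The terminal patterns. -/
def terminals : List (ℕ × ℕ) := [(4445962240, 0), (35188818051072, 0), (150994944, 0), (35184523083776, 0), (4311744512, 0), (8800404766720, 0), (43984776855552, 0), (16777216, 0), (134217728, 0), (553648128, 0), (0, 0)]

/-- Certificate 0. -/
def tree0 : Tree :=
  .zero 36 24 35 1 1 (.zero 38 24 37 1 1 (.zero 42 24 41 1 1 (.zero 47 24 46 1 1 (.split 33 (.split 34 (.kill 35 36 24 1 1 (.zero 47 24 46 1 1 (.kill 37 38 24 1 1 (.zero 47 24 46 1 1 (.split 39 (.split 40 (.kill 41 42 24 1 1 (.split 43 (.split 44 (.split 45 (.kill 46 47 24 1 1 (.hub 7)) (.kill 46 47 24 1 1 (.weyl 1 0 (.weyl 0 0 (.hub 4))))) (.split 45 (.kill 46 47 24 1 1 (.weyl 0 0 (.weyl 2 0 (.weyl 1 0 (.weyl 2 0 (.weyl 3 0 (.weyl 2 0 (.weyl 1 0 (.weyl 0 0 (.weyl 2 0 (.hub 2))))))))))) (.kill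 46 47 24 1 1 (.weyl 0 0 (.weyl 2 0 (.weyl 1 0 (.weyl 2 0 (.weyl 3 0 (.weyl 2 0 (.weyl 1 0 (.weyl 0 0 (.weyl 2 0 (.hub 3))))))))))))) (.kill 27 44 43 1 1 (.zero 47 24 46 1 1 (.split 45 (.kill 46 47 24 1 1 (.weyl 0 0 (.hub 4))) (.kill 46 47 24 1 1 (.weyl 0 0 (.weyl 1 0 (.hub 5))))))))) (.kill 41 42 24 1 1 (.split 43 (.kill 33 44 40 1 1 (.split 45 (.kill 46 47 24 1 1 (.weyl 2 0 (.weyl 1 0 (.weyl 2 0 (.weyl 3 0 (.weyl 2 0 (.weyl 1 0 (.weyl 0 0 (.weyl 2 0 (.hub 2)))))))))) (.kill 46 47 24 1 1 (.weyl 2 0 (.weyl 1 0 (.weyl 2 0 (.weyl 3 0 (.weyl 2 0 (.weyl 1 0 (.weyl 0 0 (.weyl 2 0 (.hub 3)))))))))))) (.kill 33 44 40 1 1 (.split 45 (.kill 46 47 24 1 1 (.weyl 2 0 (.weyl 1 0 (.weyl 2 0 (.weyl 3 0 (.weyl 2 0 (.weyl 1 0 (.weyl 0 0 (.weyl 2 0 (.hub 0)))))))))) (.kill 46 47 24 1 1 (.weyl 2 0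 (.weyl 1 0 (.weyl 2 0 (.weyl 3 0 (.weyl 2 0 (.weyl 1 0 (.weyl 0 0 (.weyl 2 0 (.hub 1))))))))))))))) (.kill 27 40 39 1 1 (.zero 47 24 46 1 1 (.kill 41 42 24 1 1 (.split 43 (.kill 34 44 39 1 1 (.split 45 (.kill 46 47 24 1 1 (.weyl 1 0 (.weyl 2 0 (.weyl 1 0 (.weyl 2 0 (.weyl 3 0 (.weyl 2 0 (.weyl 1 0 (.weyl 0 0 (.weyl 2 0 (.hub 2))))))))))) (.kill 46 47 24 1 1 (.weyl 1 0 (.weyl 2 0 (.weyl 1 0 (.weyl 2 0 (.weyl 3 0 (.weyl 2 0 (.weyl 1 0 (.weyl 0 0 (.weyl 2 0 (.hub 0))))))))))))) (.kill 34 44 39 1 1 (.split 45 (.kill 46 47 24 1 1 (.weyl 1 0 (.weyl 2 0 (.weyl 1 0 (.weyl 2 0 (.weyl 3 0 (.weyl 2 0 (.weyl 1 0 (.weyl 0 0 (.weyl 2 0 (.hub 3))))))))))) (.kill 46 47 24 1 1 (.weyl 1 0 (.weyl 2 0 (.weyl 1 0 (.weyl 2 0 (.weyl 3 0 (.weyl 2 0 (.weyl 1 0 (.weyl 0 0 (.weyl 2 0 (.hub 1))))))))))))))))))))))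 (.zero 44 34 39 1 1 (.kill 35 36 24 1 1 (.zero 47 24 46 1 1 (.kill 29 38 34 1 1 (.kill 32 40 34 1 1 (.zero 47 24 46 1 1 (.kill 41 42 24 1 1 (.split 43 (.kill 39 44 34 1 1 (.split 45 (.kill 46 47 24 1 1 (.weyl 0 0 (.hub 2))) (.kill 46 47 24 1 1 (.weyl 0 0 (.hub 3))))) (.kill 39 44 34 1 1 (.split 45 (.kill 46 47 24 1 1 (.weyl 0 0 (.hub 0))) (.kill 46 47 24 1 1 (.weyl 0 0 (.hub 1)))))))))))))) (.kill 27 34 33 1 1 (.zero 44 33 40 1 1 (.zero 47 24 46 1 1 (.kill 29 36 33 1 1 (.kill 37 38 24 1 1 (.zero 47 24 46 1 1 (.kill 32 39 33 1 1 (.zero 47 24 46 1 1 (.kill 41 42 24 1 1 (.split 43 (.kill 40 44 33 1 1 (.split 45 (.kill 46 47 24 1 1 (.weyl 1 0 (.weyl 0 0 (.hub 2)))) (.kill 46 47 24 1 1 (.weyl 1 0 (.weyl 0 0 (.hub 0)))))) (.kill 40 44 33 1 1 (.split 45 (.kill 46 47 24 1 1 (.weyl 1 0 (.weyl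 0 0 (.hub 3)))) (.kill 46 47 24 1 1 (.weyl 1 0 (.weyl 0 0 (.hub 1))))))))))))))))))))

/-- Certificate 1. -/
def tree1 : Tree :=
  .zero 36 24 35 1 1 (.zero 38 24 37 1 1 (.zero 39 32 33 1 1 (.zero 40 32 34 1 1 (.zero 42 24 41 1 1 (.kill 35 36 24 1 1 (.kill 37 38 24 1 1 (.kill 33 39 32 1 1 (.kill 34 40 32 1 1 (.kill 41 42 24 1 1 (.zero 47 24 46 1 1 (.split 43 (.split 44 (.split 45 (.kill 46 47 24 1 1 (.hub 4)) (.kill 46 47 24 1 1 (.weyl 1 0 (.hub 5)))) (.split 45 (.kill 46 47 24 1 1 (.weyl 0 0 (.weyl 2 0 (.weyl 1 0 (.weyl 2 0 (.weyl 3 0 (.weyl 2 0 (.weyl 1 0 (.weyl 0 0 (.weyl 2 0 (.hub 0))))))))))) (.kill 46 47 24 1 1 (.weyl 0 0 (.weyl 2 0 (.weyl 1 0 (.weyl 2 0 (.weyl 3 0 (.weyl 2 0 (.weyl 1 0 (.weyl 0 0 (.weyl 2 0 (.hub 1))))))))))))) (.kill 27 44 43 1 1 (.zero 47 24 46 1 1 (.split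 45 (.kill 46 47 24 1 1 (.hub 5)) (.kill 46 47 24 1 1 (.hub 6))))))))))))))))

/-- Certificate 2. -/
def tree2 : Tree :=
  .zero 34 27 33 1 1 (.zero 36 24 35 1 1 (.zero 42 24 41 1 1 (.kill 33 34 27 1 1 (.kill 35 36 24 1 1 (.zero 38 24 37 1 1 (.zero 40 27 39 1 1 (.zero 44 27 43 1 1 (.zero 47 24 46 1 1 (.kill 36 38 27 1 1 (.kill 39 40 27 1 1 (.kill 41 42 24 1 1 (.kill 43 44 27 1 1 (.zero 47 24 46 1 1 (.split 45 (.kill 46 47 24 1 1 (.hub 2)) (.kill 46 47 24 1 1 (.hub 3))))))))))))))))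

/-- Certificate 3. -/
def tree3 : Tree :=
  .zero 34 27 33 1 1 (.zero 36 24 35 1 1 (.zero 42 24 41 1 1 (.kill 33 34 27 1 1 (.kill 35 36 24 1 1 (.zero 38 24 37 1 1 (.zero 40 27 39 1 1 (.zero 44 27 43 1 1 (.kill 36 38 27 1 1 (.kill 39 40 27 1 1 (.kill 41 42 24 1 1 (.zero 47 24 46 1 1 (.kill 43 44 27 1 1 (.zero 47 24 46 1 1 (.split 45 (.kill 46 47 24 1 1 (.hub 0)) (.kill 46 47 24 1 1 (.hub 1))))))))))))))))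

/-- Certificate 4. -/
def tree4 : Tree :=
  .zero 29 24 28 1 1 (.zero 31 24 30 1 1 (.split 27 (.kill 28 29 24 1 1 (.zero 36 24 35 1 1 (.kill 30 31 24 1 1 (.zero 38 24 37 1 1 (.zero 42 24 41 1 1 (.split 32 (.hub 11) (.hub 12))))))) (.zero 34 27 33 1 1 (.zero 36 24 35 1 1 (.zero 42 24 41 1 1 (.kill 28 29 24 1 1 (.kill 30 31 24 1 1 (.split 32 (.hub 13) (.hub 14)))))))))

/-- Certificate 5. -/
def tree5 : Tree :=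
  .zero 26 24 25 1 1 (.kill 25 26 24 1 1 (.hub 15))

/-- Certificate 6. -/
def tree6 : Tree :=
  .zero 42 24 41 1 1 (.zero 43 24 35 1 2 (.zero 36 29 33 1 1 (.zero 45 24 37 1 2 (.zero 38 29 34 1 1 (.zero 47 24 46 1 1 (.kill 28 29 24 1 1 (.split 32 (.zero 47 24 46 1 1 (.kill 35 36 24 1 1 (.zero 47 24 46 1 1 (.kill 37 38 24 1 1 (.zero 47 24 46 1 1 (.split 39 (.split 40 (.kill 41 42 24 1 1 (.split 43 (.split 44 (.split 45 (.kill 46 47 24 1 1 (.hub 7)) (.kill 46 47 24 1 1 (.weyl 1 0 (.weyl 0 0 (.hub 4))))) (.split 45 (.kill 46 47 24 1 1 (.weyl 0 0 (.weyl 2 0 (.weyl 1 0 (.weyl 2 0 (.weyl 3 0 (.weyl 2 0 (.weyl 1 0 (.weyl 0 0 (.weyl 2 0 (.hub 2))))))))))) (.kill 46 47 24 1 1 (.weyl 0 0 (.weyl 2 0 (.weyl 1 0 (.weyl 2 0 (.weyl 3 0 (.weyl 2 0 (.weyl 1 0 (.weyl 0 0 (.weyl 2 0 (.hub 3)))))))))))))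 (.kill 27 44 43 1 1 (.zero 47 24 46 1 1 (.split 45 (.kill 46 47 24 1 1 (.weyl 0 0 (.hub 4))) (.kill 46 47 24 1 1 (.weyl 0 0 (.weyl 1 0 (.hub 5))))))))) (.kill 41 42 24 1 1 (.split 43 (.kill 33 44 40 1 1 (.split 45 (.kill 46 47 24 1 1 (.weyl 2 0 (.weyl 1 0 (.weyl 2 0 (.weyl 3 0 (.weyl 2 0 (.weyl 1 0 (.weyl 0 0 (.weyl 2 0 (.hub 2)))))))))) (.kill 46 47 24 1 1 (.weyl 2 0 (.weyl 1 0 (.weyl 2 0 (.weyl 3 0 (.weyl 2 0 (.weyl 1 0 (.weyl 0 0 (.weyl 2 0 (.hub 3)))))))))))) (.kill 33 44 40 1 1 (.split 45 (.kill 46 47 24 1 1 (.weyl 2 0 (.weyl 1 0 (.weyl 2 0 (.weyl 3 0 (.weyl 2 0 (.weyl 1 0 (.weyl 0 0 (.weyl 2 0 (.hub 0)))))))))) (.kill 46 47 24 1 1 (.weyl 2 0 (.weyl 1 0 (.weyl 2 0 (.weyl 3 0 (.weyl 2 0 (.weyl 1 0 (.weyl 0 0 (.weyl 2 0 (.hub 1))))))))))))))) (.kill 27 40 39 1 1 (.zero 47 24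 46 1 1 (.kill 41 42 24 1 1 (.split 43 (.kill 34 44 39 1 1 (.split 45 (.kill 46 47 24 1 1 (.weyl 1 0 (.weyl 2 0 (.weyl 1 0 (.weyl 2 0 (.weyl 3 0 (.weyl 2 0 (.weyl 1 0 (.weyl 0 0 (.weyl 2 0 (.hub 2))))))))))) (.kill 46 47 24 1 1 (.weyl 1 0 (.weyl 2 0 (.weyl 1 0 (.weyl 2 0 (.weyl 3 0 (.weyl 2 0 (.weyl 1 0 (.weyl 0 0 (.weyl 2 0 (.hub 0))))))))))))) (.kill 34 44 39 1 1 (.split 45 (.kill 46 47 24 1 1 (.weyl 1 0 (.weyl 2 0 (.weyl 1 0 (.weyl 2 0 (.weyl 3 0 (.weyl 2 0 (.weyl 1 0 (.weyl 0 0 (.weyl 2 0 (.hub 3))))))))))) (.kill 46 47 24 1 1 (.weyl 1 0 (.weyl 2 0 (.weyl 1 0 (.weyl 2 0 (.weyl 3 0 (.weyl 2 0 (.weyl 1 0 (.weyl 0 0 (.weyl 2 0 (.hub 1))))))))))))))))))))))) (.kill 35 36 24 1 1 (.kill 37 38 24 1 1 (.kill 33 39 32 1 1 (.kill 34 40 32 1 1 (.kill 41 42 24 1 1 (.zero 47 24 46 1 1 (.split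 43 (.split 44 (.split 45 (.kill 46 47 24 1 1 (.hub 4)) (.kill 46 47 24 1 1 (.weyl 1 0 (.hub 5)))) (.split 45 (.kill 46 47 24 1 1 (.weyl 0 0 (.weyl 2 0 (.weyl 1 0 (.weyl 2 0 (.weyl 3 0 (.weyl 2 0 (.weyl 1 0 (.weyl 0 0 (.weyl 2 0 (.hub 0))))))))))) (.kill 46 47 24 1 1 (.weyl 0 0 (.weyl 2 0 (.weyl 1 0 (.weyl 2 0 (.weyl 3 0 (.weyl 2 0 (.weyl 1 0 (.weyl 0 0 (.weyl 2 0 (.hub 1))))))))))))) (.kill 27 44 43 1 1 (.zero 47 24 46 1 1 (.split 45 (.kill 46 47 24 1 1 (.hub 5)) (.kill 46 47 24 1 1 (.hub 6)))))))))))))))))))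

/-- Certificate 7. -/
def tree7 : Tree :=
  .zero 34 27 33 1 1 (.zero 36 24 35 1 1 (.zero 42 24 41 1 1 (.kill 30 31 24 1 1 (.kill 33 34 27 1 1 (.kill 35 36 24 1 1 (.zero 38 24 37 1 1 (.zero 40 27 39 1 1 (.zero 44 27 43 1 1 (.zero 47 24 46 1 1 (.kill 36 38 27 1 1 (.kill 39 40 27 1 1 (.kill 41 42 24 1 1 (.kill 43 44 27 1 1 (.zero 47 24 46 1 1 (.split 45 (.kill 46 47 24 1 1 (.hub 2)) (.kill 46 47 24 1 1 (.hub 3)))))))))))))))))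

/-- Certificate 8. -/
def tree8 : Tree :=
  .kill 25 26 24 1 1 (.kill 37 38 24 1 1 (.zero 47 24 46 1 1 (.split 39 (.split 40 (.split 44 (.split 45 (.kill 46 47 24 1 1 (.hub 7)) (.kill 46 47 24 1 1 (.weyl 1 0 (.weyl 0 0 (.hub 4))))) (.split 45 (.kill 46 47 24 1 1 (.weyl 0 0 (.weyl 2 0 (.weyl 1 0 (.weyl 2 0 (.weyl 3 0 (.weyl 2 0 (.weyl 1 0 (.weyl 0 0 (.weyl 2 0 (.hub 2))))))))))) (.kill 46 47 24 1 1 (.weyl 0 0 (.weyl 2 0 (.weyl 1 0 (.weyl 2 0 (.weyl 3 0 (.weyl 2 0 (.weyl 1 0 (.weyl 0 0 (.weyl 2 0 (.hub 3))))))))))))) (.kill 33 44 40 1 1 (.split 45 (.kill 46 47 24 1 1 (.weyl 2 0 (.weyl 1 0 (.weyl 2 0 (.weyl 3 0 (.weyl 2 0 (.weyl 1 0 (.weyl 0 0 (.weyl 2 0 (.hub 2)))))))))) (.kill 46 47 24 1 1 (.weyl 2 0 (.weyl 1 0 (.weyl 2 0 (.weyl 3 0 (.weyl 2 0 (.weyl 1 0 (.weyl 0 0 (.weyl 2 0 (.hub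 3))))))))))))) (.kill 27 40 39 1 1 (.kill 34 44 39 1 1 (.split 45 (.kill 46 47 24 1 1 (.weyl 1 0 (.weyl 2 0 (.weyl 1 0 (.weyl 2 0 (.weyl 3 0 (.weyl 2 0 (.weyl 1 0 (.weyl 0 0 (.weyl 2 0 (.hub 2))))))))))) (.kill 46 47 24 1 1 (.weyl 1 0 (.weyl 2 0 (.weyl 1 0 (.weyl 2 0 (.weyl 3 0 (.weyl 2 0 (.weyl 1 0 (.weyl 0 0 (.weyl 2 0 (.hub 0)))))))))))))))))

/-- Certificate 9. -/
def tree9 : Tree :=
  .zero 34 27 33 1 1 (.zero 37 27 35 1 1 (.zero 38 27 36 1 1 (.zero 40 27 39 1 1 (.zero 44 27 43 1 1 (.kill 33 34 27 1 1 (.kill 35 37 27 1 1 (.kill 36 38 27 1 1 (.kill 39 40 27 1 1 (.split 41 (.split 42 (.kill 43 44 27 1 1 (.split 45 (.split 46 (.split 47 (.hub 8) (.weyl 0 0 (.weyl 1 0 (.weyl 3 0 (.weyl 2 0 (.weyl 1 0 (.weyl 0 0 (.weyl 2 0 (.weyl 1 0 (.weyl 2 0 (.hub 2))))))))))) (.kill 24 47 46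 1 1 (.weyl 0 0 (.weyl 1 0 (.weyl 2 0 (.weyl 1 0 (.weyl 0 0 (.weyl 2 0 (.weyl 1 0 (.weyl 2 0 (.hub 2))))))))))) (.split 46 (.split 47 (.weyl 0 0 (.weyl 1 0 (.weyl 2 0 (.weyl 1 0 (.weyl 0 0 (.weyl 2 0 (.weyl 3 0 (.weyl 2 0 (.weyl 1 0 (.weyl 2 0 (.hub 9))))))))))) (.weyl 0 0 (.weyl 1 0 (.weyl 2 0 (.weyl 1 0 (.weyl 0 0 (.weyl 2 0 (.weyl 3 0 (.weyl 2 0 (.weyl 1 0 (.weyl 0 0 (.weyl 2 0 (.weyl 1 0 (.hub 19)))))))))))))) (.kill 24 47 46 1 1 (.weyl 0 0 (.weyl 1 0 (.weyl 2 0 (.weyl 1 0 (.weyl 3 0 (.weyl 2 0 (.weyl 1 0 (.weyl 0 0 (.weyl 2 0 (.weyl 1 0 (.weyl 3 0 (.weyl 2 0 (.weyl 1 0 (.hub 19)))))))))))))))))) (.kill 28 44 42 1 1 (.kill 30 45 42 1 1 (.split 46 (.kill 32 47 42 1 1 (.weyl 0 0 (.weyl 1 0 (.weyl 2 0 (.weyl 1 0 (.weyl 0 0 (.hub 2))))))) (.kill 32 47 42 1 1 (.weyl 0 0 (.weyl 1 0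 (.weyl 2 0 (.weyl 1 0 (.weyl 0 0 (.hub 0))))))))))) (.kill 24 42 41 1 1 (.kill 29 44 41 1 1 (.kill 31 45 41 1 1 (.kill 32 46 41 1 1 (.split 47 (.weyl 0 0 (.weyl 1 0 (.weyl 3 0 (.weyl 2 0 (.weyl 1 0 (.weyl 0 0 (.hub 2))))))) (.weyl 0 0 (.weyl 1 0 (.weyl 3 0 (.weyl 2 0 (.weyl 1 0 (.weyl 0 0 (.hub 0)))))))))))))))))))))

/-- Certificate 10. -/
def tree10 : Tree :=
  .kill 27 31 26 2 1 (.kill 25 26 24 1 1 (.kill 28 29 24 1 1 (.zero 47 24 46 1 1 (.split 32 (.kill 35 36 24 1 1 (.zero 47 24 46 1 1 (.kill 37 38 24 1 1 (.zero 47 24 46 1 1 (.split 39 (.split 40 (.split 43 (.split 44 (.split 45 (.kill 46 47 24 1 1 (.hub 7)) (.kill 46 47 24 1 1 (.weyl 1 0 (.weyl 0 0 (.hub 4))))) (.split 45 (.kill 46 47 24 1 1 (.weyl 0 0 (.weyl 2 0 (.weyl 1 0 (.weyl 2 0 (.weyl 3 0 (.weyl 2 0 (.weyl 1 0 (.weyl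 0 0 (.weyl 2 0 (.hub 2))))))))))) (.kill 46 47 24 1 1 (.weyl 0 0 (.weyl 2 0 (.weyl 1 0 (.weyl 2 0 (.weyl 3 0 (.weyl 2 0 (.weyl 1 0 (.weyl 0 0 (.weyl 2 0 (.hub 3))))))))))))) (.kill 27 44 43 1 1 (.zero 47 24 46 1 1 (.split 45 (.kill 46 47 24 1 1 (.weyl 0 0 (.hub 4))) (.kill 46 47 24 1 1 (.weyl 0 0 (.weyl 1 0 (.hub 5)))))))) (.split 43 (.kill 33 44 40 1 1 (.split 45 (.kill 46 47 24 1 1 (.weyl 2 0 (.weyl 1 0 (.weyl 2 0 (.weyl 3 0 (.weyl 2 0 (.weyl 1 0 (.weyl 0 0 (.weyl 2 0 (.hub 2)))))))))) (.kill 46 47 24 1 1 (.weyl 2 0 (.weyl 1 0 (.weyl 2 0 (.weyl 3 0 (.weyl 2 0 (.weyl 1 0 (.weyl 0 0 (.weyl 2 0 (.hub 3)))))))))))) (.kill 33 44 40 1 1 (.split 45 (.kill 46 47 24 1 1 (.weyl 2 0 (.weyl 1 0 (.weyl 2 0 (.weyl 3 0 (.weyl 2 0 (.weyl 1 0 (.weyl 0 0 (.weyl 2 0 (.hub 0)))))))))) (.kill 46 47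 24 1 1 (.weyl 2 0 (.weyl 1 0 (.weyl 2 0 (.weyl 3 0 (.weyl 2 0 (.weyl 1 0 (.weyl 0 0 (.weyl 2 0 (.hub 1)))))))))))))) (.kill 27 40 39 1 1 (.zero 47 24 46 1 1 (.split 43 (.kill 34 44 39 1 1 (.split 45 (.kill 46 47 24 1 1 (.weyl 1 0 (.weyl 2 0 (.weyl 1 0 (.weyl 2 0 (.weyl 3 0 (.weyl 2 0 (.weyl 1 0 (.weyl 0 0 (.weyl 2 0 (.hub 2))))))))))) (.kill 46 47 24 1 1 (.weyl 1 0 (.weyl 2 0 (.weyl 1 0 (.weyl 2 0 (.weyl 3 0 (.weyl 2 0 (.weyl 1 0 (.weyl 0 0 (.weyl 2 0 (.hub 0))))))))))))) (.kill 34 44 39 1 1 (.split 45 (.kill 46 47 24 1 1 (.weyl 1 0 (.weyl 2 0 (.weyl 1 0 (.weyl 2 0 (.weyl 3 0 (.weyl 2 0 (.weyl 1 0 (.weyl 0 0 (.weyl 2 0 (.hub 3))))))))))) (.kill 46 47 24 1 1 (.weyl 1 0 (.weyl 2 0 (.weyl 1 0 (.weyl 2 0 (.weyl 3 0 (.weyl 2 0 (.weyl 1 0 (.weyl 0 0 (.weyl 2 0 (.hub 1)))))))))))))))))))))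 (.kill 35 36 24 1 1 (.zero 47 24 46 1 1 (.kill 37 38 24 1 1 (.zero 47 24 46 1 1 (.kill 33 39 32 1 1 (.zero 47 24 46 1 1 (.kill 34 40 32 1 1 (.zero 47 24 46 1 1 (.split 43 (.split 44 (.split 45 (.kill 46 47 24 1 1 (.hub 4)) (.kill 46 47 24 1 1 (.weyl 1 0 (.hub 5)))) (.split 45 (.kill 46 47 24 1 1 (.weyl 0 0 (.weyl 2 0 (.weyl 1 0 (.weyl 2 0 (.weyl 3 0 (.weyl 2 0 (.weyl 1 0 (.weyl 0 0 (.weyl 2 0 (.hub 0))))))))))) (.kill 46 47 24 1 1 (.weyl 0 0 (.weyl 2 0 (.weyl 1 0 (.weyl 2 0 (.weyl 3 0 (.weyl 2 0 (.weyl 1 0 (.weyl 0 0 (.weyl 2 0 (.hub 1))))))))))))) (.kill 27 44 43 1 1 (.zero 47 24 46 1 1 (.split 45 (.kill 46 47 24 1 1 (.hub 5)) (.kill 46 47 24 1 1 (.hub 6))))))))))))))))))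

/-- Certificate 11. -/
def tree11 : Tree :=
  .split 33 (.split 34 (.split 35 (.split 36 (.split 37 (.split 38 (.split 39 (.split 40 (.split 41 (.split 42 (.split 43 (.split 44 (.split 45 (.split 46 (.split 47 (.hub 10) (.weyl 3 0 (.weyl 2 0 (.weyl 1 0 (.weyl 0 0 (.weyl 2 0 (.weyl 1 0 (.weyl 2 0 (.hub 7))))))))) (.kill 24 47 46 1 1 (.weyl 2 0 (.weyl 1 0 (.weyl 0 0 (.weyl 2 0 (.weyl 1 0 (.weyl 2 0 (.hub 7))))))))) (.kill 25 46 45 1 1 (.kill 26 47 45 1 1 (.weyl 1 0 (.weyl 0 0 (.weyl 2 0 (.weyl 1 0 (.weyl 2 0 (.hub 7))))))))) (.split 45 (.split 46 (.split 47 (.weyl 0 0 (.weyl 1 0 (.weyl 2 0 (.weyl 1 0 (.weyl 0 0 (.weyl 3 0 (.weyl 2 0 (.hub 8)))))))) (.weyl 0 0 (.weyl 1 0 (.weyl 3 0 (.weyl 2 0 (.weyl 1 0 (.weyl 0 0 (.weyl 2 0 (.weyl 1 0 (.weyl 2 0 (.hub 9))))))))))) (.kill 24 47 46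 1 1 (.weyl 0 0 (.weyl 1 0 (.weyl 2 0 (.weyl 1 0 (.weyl 0 0 (.weyl 2 0 (.weyl 1 0 (.weyl 2 0 (.hub 9))))))))))) (.kill 25 46 45 1 1 (.kill 26 47 45 1 1 (.weyl 0 0 (.weyl 1 0 (.weyl 0 0 (.weyl 2 0 (.weyl 1 0 (.weyl 0 0 (.weyl 2 0 (.hub 9)))))))))))) (.kill 27 44 43 1 1 (.split 45 (.kill 30 46 43 1 1 (.kill 31 47 43 1 1 (.weyl 0 0 (.weyl 2 0 (.weyl 1 0 (.weyl 2 0 (.hub 7))))))) (.kill 30 46 43 1 1 (.kill 31 47 43 1 1 (.weyl 0 0 (.weyl 1 0 (.weyl 2 0 (.weyl 1 0 (.weyl 0 0 (.weyl 2 0 (.hub 4)))))))))))) (.kill 25 43 42 1 1 (.kill 28 44 42 1 1 (.kill 30 45 42 1 1 (.split 46 (.kill 32 47 42 1 1 (.weyl 0 0 (.weyl 1 0 (.weyl 2 0 (.hub 7))))) (.kill 32 47 42 1 1 (.weyl 0 0 (.weyl 1 0 (.weyl 2 0 (.weyl 1 0 (.weyl 0 0 (.hub 4)))))))))))) (.kill 24 42 41 1 1 (.kill 26 43 41 1 1 (.kill 29 44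 41 1 1 (.kill 31 45 41 1 1 (.kill 32 46 41 1 1 (.split 47 (.weyl 0 0 (.weyl 1 0 (.weyl 3 0 (.weyl 2 0 (.hub 7))))) (.weyl 0 0 (.weyl 1 0 (.weyl 3 0 (.weyl 2 0 (.weyl 1 0 (.weyl 0 0 (.hub 4)))))))))))))) (.split 41 (.split 42 (.split 43 (.kill 33 44 40 1 1 (.split 45 (.split 46 (.split 47 (.weyl 1 0 (.weyl 2 0 (.weyl 1 0 (.weyl 0 0 (.weyl 3 0 (.weyl 2 0 (.hub 8))))))) (.weyl 1 0 (.weyl 3 0 (.weyl 2 0 (.weyl 1 0 (.weyl 0 0 (.weyl 2 0 (.weyl 1 0 (.weyl 2 0 (.hub 9)))))))))) (.kill 24 47 46 1 1 (.weyl 1 0 (.weyl 2 0 (.weyl 1 0 (.weyl 0 0 (.weyl 2 0 (.weyl 1 0 (.weyl 2 0 (.hub 9)))))))))) (.kill 25 46 45 1 1 (.kill 26 47 45 1 1 (.weyl 1 0 (.weyl 0 0 (.weyl 2 0 (.weyl 1 0 (.weyl 0 0 (.weyl 2 0 (.hub 9))))))))))) (.kill 33 44 40 1 1 (.split 45 (.kill 30 46 43 1 1 (.kill 31 47 43 1 1 (.weyl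 2 0 (.weyl 1 0 (.weyl 0 0 (.weyl 2 0 (.weyl 3 0 (.weyl 2 0 (.weyl 1 0 (.weyl 0 0 (.weyl 2 0 (.hub 2)))))))))))) (.kill 30 46 43 1 1 (.kill 31 47 43 1 1 (.weyl 2 0 (.weyl 1 0 (.weyl 0 0 (.weyl 2 0 (.weyl 3 0 (.weyl 2 0 (.weyl 1 0 (.weyl 0 0 (.weyl 2 0 (.hub 3))))))))))))))) (.kill 25 43 42 1 1 (.kill 33 44 40 1 1 (.kill 30 45 42 1 1 (.split 46 (.kill 32 47 42 1 1 (.weyl 1 0 (.weyl 0 0 (.weyl 2 0 (.weyl 3 0 (.weyl 2 0 (.weyl 1 0 (.weyl 0 0 (.weyl 2 0 (.hub 2)))))))))) (.kill 32 47 42 1 1 (.weyl 1 0 (.weyl 0 0 (.weyl 2 0 (.weyl 3 0 (.weyl 2 0 (.weyl 1 0 (.weyl 0 0 (.weyl 2 0 (.hub 3))))))))))))))) (.kill 24 42 41 1 1 (.kill 26 43 41 1 1 (.kill 33 44 40 1 1 (.kill 31 45 41 1 1 (.kill 32 46 41 1 1 (.split 47 (.weyl 1 0 (.weyl 0 0 (.weyl 2 0 (.weyl 1 0 (.weyl 0 0 (.weyl 3 0 (.weyl 2 0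 (.hub 2)))))))) (.weyl 1 0 (.weyl 0 0 (.weyl 2 0 (.weyl 1 0 (.weyl 0 0 (.weyl 3 0 (.weyl 2 0 (.hub 3)))))))))))))))) (.kill 27 40 39 1 1 (.split 41 (.split 42 (.split 43 (.kill 34 44 39 1 1 (.split 45 (.split 46 (.split 47 (.weyl 2 0 (.weyl 1 0 (.weyl 0 0 (.weyl 3 0 (.weyl 2 0 (.hub 8)))))) (.weyl 3 0 (.weyl 2 0 (.weyl 1 0 (.weyl 0 0 (.weyl 2 0 (.weyl 1 0 (.weyl 2 0 (.hub 9))))))))) (.kill 24 47 46 1 1 (.weyl 2 0 (.weyl 1 0 (.weyl 0 0 (.weyl 2 0 (.weyl 1 0 (.weyl 2 0 (.hub 9))))))))) (.kill 25 46 45 1 1 (.kill 26 47 45 1 1 (.weyl 1 0 (.weyl 2 0 (.weyl 1 0 (.weyl 0 0 (.weyl 2 0 (.weyl 3 0 (.weyl 2 0 (.weyl 1 0 (.weyl 0 0 (.weyl 2 0 (.hub 2))))))))))))))) (.kill 34 44 39 1 1 (.split 45 (.kill 30 46 43 1 1 (.kill 31 47 43 1 1 (.weyl 0 0 (.weyl 2 0 (.weyl 1 0 (.weyl 0 0 (.weyl 2 0 (.hub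 9)))))))) (.kill 30 46 43 1 1 (.kill 31 47 43 1 1 (.weyl 1 0 (.weyl 2 0 (.weyl 1 0 (.weyl 0 0 (.weyl 2 0 (.weyl 3 0 (.weyl 2 0 (.weyl 1 0 (.weyl 0 0 (.weyl 2 0 (.hub 3)))))))))))))))) (.kill 25 43 42 1 1 (.kill 34 44 39 1 1 (.kill 30 45 42 1 1 (.split 46 (.kill 32 47 42 1 1 (.weyl 0 0 (.weyl 2 0 (.weyl 3 0 (.weyl 2 0 (.weyl 1 0 (.weyl 0 0 (.weyl 2 0 (.hub 2))))))))) (.kill 32 47 42 1 1 (.weyl 0 0 (.weyl 2 0 (.weyl 3 0 (.weyl 2 0 (.weyl 1 0 (.weyl 0 0 (.weyl 2 0 (.hub 3)))))))))))))) (.kill 24 42 41 1 1 (.kill 26 43 41 1 1 (.kill 34 44 39 1 1 (.kill 31 45 41 1 1 (.kill 32 46 41 1 1 (.split 47 (.weyl 0 0 (.weyl 2 0 (.weyl 1 0 (.weyl 0 0 (.weyl 3 0 (.weyl 2 0 (.hub 2))))))) (.weyl 0 0 (.weyl 2 0 (.weyl 1 0 (.weyl 0 0 (.weyl 3 0 (.weyl 2 0 (.hub 3)))))))))))))))) (.kill 25 39 38 1 1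 (.kill 28 40 38 1 1 (.split 41 (.split 42 (.split 43 (.kill 35 44 38 1 1 (.split 45 (.split 46 (.split 47 (.weyl 1 0 (.weyl 0 0 (.weyl 3 0 (.weyl 2 0 (.hub 8))))) (.weyl 2 0 (.weyl 3 0 (.weyl 2 0 (.weyl 1 0 (.weyl 0 0 (.weyl 2 0 (.weyl 1 0 (.weyl 2 0 (.hub 9)))))))))) (.kill 24 47 46 1 1 (.weyl 1 0 (.weyl 2 0 (.weyl 1 0 (.weyl 0 0 (.weyl 3 0 (.weyl 2 0 (.weyl 1 0 (.weyl 0 0 (.weyl 2 0 (.hub 2)))))))))))) (.split 46 (.kill 26 47 45 1 1 (.weyl 1 0 (.weyl 0 0 (.weyl 2 0 (.weyl 1 0 (.weyl 2 0 (.hub 9))))))) (.kill 26 47 45 1 1 (.weyl 1 0 (.weyl 0 0 (.weyl 2 0 (.weyl 1 0 (.weyl 0 0 (.weyl 2 0 (.weyl 1 0 (.hub 19)))))))))))) (.kill 35 44 38 1 1 (.split 45 (.kill 30 46 43 1 1 (.kill 31 47 43 1 1 (.weyl 0 0 (.weyl 3 0 (.weyl 2 0 (.weyl 1 0 (.weyl 0 0 (.weyl 2 0 (.hub 2))))))))) (.kill 30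 46 43 1 1 (.kill 31 47 43 1 1 (.weyl 0 0 (.weyl 3 0 (.weyl 2 0 (.weyl 1 0 (.weyl 0 0 (.weyl 2 0 (.hub 3)))))))))))) (.split 43 (.kill 35 44 38 1 1 (.kill 30 45 42 1 1 (.split 46 (.kill 32 47 42 1 1 (.weyl 0 0 (.weyl 1 0 (.weyl 0 0 (.weyl 2 0 (.hub 9)))))) (.kill 32 47 42 1 1 (.weyl 1 0 (.weyl 2 0 (.weyl 1 0 (.weyl 0 0 (.weyl 3 0 (.weyl 2 0 (.weyl 1 0 (.weyl 0 0 (.weyl 2 0 (.hub 3)))))))))))))) (.kill 35 44 38 1 1 (.kill 30 45 42 1 1 (.split 46 (.kill 32 47 42 1 1 (.weyl 0 0 (.weyl 1 0 (.weyl 2 0 (.weyl 1 0 (.hub 19)))))) (.kill 32 47 42 1 1 (.weyl 0 0 (.weyl 1 0 (.weyl 2 0 (.weyl 1 0 (.weyl 0 0 (.weyl 2 0 (.hub 21))))))))))))) (.kill 24 42 41 1 1 (.kill 26 43 41 1 1 (.kill 35 44 38 1 1 (.kill 31 45 41 1 1 (.kill 32 46 41 1 1 (.split 47 (.weyl 0 0 (.weyl 1 0 (.weyl 0 0 (.weyl 3 0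 (.weyl 2 0 (.hub 2)))))) (.weyl 0 0 (.weyl 1 0 (.weyl 0 0 (.weyl 3 0 (.weyl 2 0 (.hub 3)))))))))))))))) (.kill 24 38 37 1 1 (.kill 26 39 37 1 1 (.kill 29 40 37 1 1 (.split 41 (.split 42 (.split 43 (.kill 36 44 37 1 1 (.split 45 (.split 46 (.split 47 (.weyl 1 0 (.weyl 0 0 (.weyl 2 0 (.hub 8)))) (.weyl 1 0 (.weyl 2 0 (.weyl 1 0 (.weyl 3 0 (.weyl 2 0 (.weyl 1 0 (.weyl 0 0 (.weyl 2 0 (.weyl 1 0 (.weyl 2 0 (.hub 2)))))))))))) (.split 47 (.weyl 2 0 (.weyl 1 0 (.weyl 0 0 (.weyl 3 0 (.weyl 2 0 (.weyl 1 0 (.weyl 2 0 (.hub 9)))))))) (.weyl 2 0 (.weyl 1 0 (.weyl 0 0 (.weyl 3 0 (.weyl 2 0 (.weyl 1 0 (.weyl 0 0 (.weyl 2 0 (.weyl 1 0 (.hub 19)))))))))))) (.kill 25 46 45 1 1 (.split 47 (.weyl 1 0 (.weyl 0 0 (.weyl 3 0 (.weyl 2 0 (.weyl 1 0 (.weyl 2 0 (.hub 9))))))) (.weyl 1 0 (.weyl 0 0 (.weyl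 3 0 (.weyl 2 0 (.weyl 1 0 (.weyl 0 0 (.weyl 2 0 (.weyl 1 0 (.hub 19))))))))))))) (.kill 36 44 37 1 1 (.split 45 (.kill 30 46 43 1 1 (.kill 31 47 43 1 1 (.weyl 0 0 (.weyl 2 0 (.weyl 1 0 (.weyl 0 0 (.weyl 2 0 (.hub 2)))))))) (.kill 30 46 43 1 1 (.kill 31 47 43 1 1 (.weyl 0 0 (.weyl 2 0 (.weyl 1 0 (.weyl 0 0 (.weyl 2 0 (.hub 3))))))))))) (.kill 25 43 42 1 1 (.kill 36 44 37 1 1 (.kill 30 45 42 1 1 (.split 46 (.kill 32 47 42 1 1 (.weyl 0 0 (.weyl 1 0 (.weyl 0 0 (.weyl 2 0 (.hub 2)))))) (.kill 32 47 42 1 1 (.weyl 0 0 (.weyl 1 0 (.weyl 0 0 (.weyl 2 0 (.hub 3))))))))))) (.split 42 (.split 43 (.kill 36 44 37 1 1 (.kill 31 45 41 1 1 (.kill 32 46 41 1 1 (.split 47 (.weyl 0 0 (.weyl 1 0 (.weyl 0 0 (.weyl 3 0 (.weyl 2 0 (.hub 9)))))) (.weyl 1 0 (.weyl 2 0 (.weyl 1 0 (.weyl 3 0 (.weyl 2 0 (.weyl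 1 0 (.weyl 0 0 (.weyl 2 0 (.weyl 1 0 (.weyl 2 0 (.hub 3))))))))))))))) (.kill 36 44 37 1 1 (.kill 31 45 41 1 1 (.kill 32 46 41 1 1 (.split 47 (.weyl 0 0 (.weyl 1 0 (.weyl 3 0 (.weyl 2 0 (.weyl 1 0 (.hub 19)))))) (.weyl 0 0 (.weyl 1 0 (.weyl 3 0 (.weyl 2 0 (.weyl 1 0 (.weyl 0 0 (.weyl 2 0 (.hub 21))))))))))))) (.kill 25 43 42 1 1 (.kill 36 44 37 1 1 (.kill 31 45 41 1 1 (.kill 32 46 41 1 1 (.split 47 (.weyl 0 0 (.weyl 2 0 (.weyl 1 0 (.weyl 3 0 (.weyl 2 0 (.weyl 1 0 (.hub 19))))))) (.weyl 0 0 (.weyl 2 0 (.weyl 1 0 (.weyl 3 0 (.weyl 2 0 (.weyl 1 0 (.weyl 0 0 (.weyl 2 0 (.hub 21)))))))))))))))))))) (.zero 44 36 37 1 1 (.kill 27 38 36 1 1 (.kill 28 39 36 1 1 (.kill 30 40 36 1 1 (.split 41 (.split 42 (.split 43 (.kill 37 44 36 1 1 (.split 45 (.split 46 (.split 47 (.weyl 0 0 (.weyl 3 0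 (.weyl 2 0 (.hub 8)))) (.weyl 1 0 (.weyl 2 0 (.weyl 3 0 (.weyl 2 0 (.weyl 1 0 (.weyl 0 0 (.weyl 2 0 (.weyl 1 0 (.weyl 2 0 (.hub 9))))))))))) (.kill 24 47 46 1 1 (.weyl 2 0 (.weyl 1 0 (.weyl 0 0 (.weyl 3 0 (.weyl 2 0 (.weyl 1 0 (.weyl 0 0 (.weyl 2 0 (.hub 2))))))))))) (.kill 25 46 45 1 1 (.kill 26 47 45 1 1 (.weyl 1 0 (.weyl 0 0 (.weyl 3 0 (.weyl 2 0 (.weyl 1 0 (.weyl 0 0 (.weyl 2 0 (.hub 2)))))))))))) (.kill 37 44 36 1 1 (.split 45 (.split 46 (.kill 31 47 43 1 1 (.weyl 0 0 (.weyl 2 0 (.weyl 1 0 (.weyl 2 0 (.hub 9)))))) (.kill 31 47 43 1 1 (.weyl 0 0 (.weyl 2 0 (.weyl 1 0 (.weyl 0 0 (.weyl 2 0 (.weyl 1 0 (.hub 19))))))))) (.kill 25 46 45 1 1 (.kill 31 47 43 1 1 (.weyl 1 0 (.weyl 0 0 (.weyl 3 0 (.weyl 2 0 (.weyl 1 0 (.weyl 0 0 (.weyl 2 0 (.hub 3))))))))))))) (.kill 25 43 42 1 1 (.kill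 37 44 36 1 1 (.split 45 (.split 46 (.kill 32 47 42 1 1 (.weyl 0 0 (.weyl 1 0 (.weyl 2 0 (.hub 9))))) (.kill 32 47 42 1 1 (.weyl 2 0 (.weyl 1 0 (.weyl 0 0 (.weyl 3 0 (.weyl 2 0 (.weyl 1 0 (.weyl 0 0 (.weyl 2 0 (.hub 3))))))))))) (.split 46 (.kill 32 47 42 1 1 (.weyl 0 0 (.weyl 1 0 (.weyl 0 0 (.weyl 2 0 (.weyl 1 0 (.hub 19))))))) (.kill 32 47 42 1 1 (.weyl 0 0 (.weyl 1 0 (.weyl 0 0 (.weyl 2 0 (.weyl 1 0 (.weyl 0 0 (.weyl 2 0 (.hub 21)))))))))))))) (.kill 24 42 41 1 1 (.kill 26 43 41 1 1 (.kill 37 44 36 1 1 (.kill 31 45 41 1 1 (.kill 32 46 41 1 1 (.split 47 (.weyl 0 0 (.weyl 1 0 (.weyl 3 0 (.weyl 2 0 (.hub 2))))) (.weyl 0 0 (.weyl 1 0 (.weyl 3 0 (.weyl 2 0 (.hub 3))))))))))))))))) (.kill 24 36 35 1 1 (.zero 44 35 38 1 1 (.kill 27 37 35 1 1 (.kill 29 39 35 1 1 (.kill 31 40 35 1 1 (.split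 41 (.split 42 (.split 43 (.kill 38 44 35 1 1 (.split 45 (.split 46 (.split 47 (.weyl 0 0 (.weyl 2 0 (.hub 8))) (.weyl 2 0 (.weyl 1 0 (.weyl 3 0 (.weyl 2 0 (.weyl 1 0 (.weyl 0 0 (.weyl 2 0 (.weyl 1 0 (.weyl 2 0 (.hub 2))))))))))) (.split 47 (.weyl 1 0 (.weyl 2 0 (.weyl 1 0 (.weyl 0 0 (.weyl 3 0 (.weyl 2 0 (.weyl 1 0 (.weyl 2 0 (.hub 9))))))))) (.weyl 1 0 (.weyl 2 0 (.weyl 1 0 (.weyl 0 0 (.weyl 3 0 (.weyl 2 0 (.weyl 1 0 (.weyl 0 0 (.weyl 2 0 (.weyl 1 0 (.hub 19))))))))))))) (.kill 25 46 45 1 1 (.kill 26 47 45 1 1 (.weyl 1 0 (.weyl 0 0 (.weyl 2 0 (.weyl 1 0 (.weyl 0 0 (.weyl 2 0 (.hub 2))))))))))) (.kill 38 44 35 1 1 (.split 45 (.kill 30 46 43 1 1 (.split 47 (.weyl 0 0 (.weyl 3 0 (.weyl 2 0 (.weyl 1 0 (.weyl 2 0 (.hub 9)))))) (.weyl 0 0 (.weyl 3 0 (.weyl 2 0 (.weyl 1 0 (.weyl 0 0 (.weyl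 2 0 (.weyl 1 0 (.hub 19)))))))))) (.kill 30 46 43 1 1 (.kill 26 47 45 1 1 (.weyl 1 0 (.weyl 0 0 (.weyl 2 0 (.weyl 1 0 (.weyl 0 0 (.weyl 2 0 (.hub 3)))))))))))) (.kill 25 43 42 1 1 (.kill 38 44 35 1 1 (.kill 30 45 42 1 1 (.split 46 (.kill 32 47 42 1 1 (.weyl 0 0 (.weyl 1 0 (.weyl 2 0 (.hub 2))))) (.kill 32 47 42 1 1 (.weyl 0 0 (.weyl 1 0 (.weyl 2 0 (.hub 3)))))))))) (.split 42 (.kill 26 43 41 1 1 (.kill 38 44 35 1 1 (.split 45 (.kill 32 46 41 1 1 (.split 47 (.weyl 0 0 (.weyl 1 0 (.weyl 3 0 (.weyl 2 0 (.hub 9))))) (.weyl 2 0 (.weyl 1 0 (.weyl 3 0 (.weyl 2 0 (.weyl 1 0 (.weyl 0 0 (.weyl 2 0 (.weyl 1 0 (.weyl 2 0 (.hub 3)))))))))))) (.kill 32 46 41 1 1 (.split 47 (.weyl 0 0 (.weyl 1 0 (.weyl 0 0 (.weyl 3 0 (.weyl 2 0 (.weyl 1 0 (.hub 19))))))) (.weyl 0 0 (.weyl 1 0 (.weyl 0 0 (.weyl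 3 0 (.weyl 2 0 (.weyl 1 0 (.weyl 0 0 (.weyl 2 0 (.hub 21)))))))))))))) (.kill 26 43 41 1 1 (.kill 38 44 35 1 1 (.kill 30 45 42 1 1 (.kill 32 46 41 1 1 (.split 47 (.weyl 1 0 (.weyl 0 0 (.weyl 2 0 (.weyl 1 0 (.weyl 3 0 (.weyl 2 0 (.weyl 1 0 (.hub 19)))))))) (.weyl 1 0 (.weyl 0 0 (.weyl 2 0 (.weyl 1 0 (.weyl 3 0 (.weyl 2 0 (.weyl 1 0 (.weyl 0 0 (.weyl 2 0 (.hub 21))))))))))))))))))))))) (.kill 25 35 34 1 1 (.kill 26 36 34 1 1 (.zero 44 34 39 1 1 (.kill 28 37 34 1 1 (.kill 29 38 34 1 1 (.kill 32 40 34 1 1 (.split 41 (.split 42 (.split 43 (.kill 39 44 34 1 1 (.split 45 (.split 46 (.split 47 (.weyl 0 0 (.hub 8)) (.weyl 1 0 (.weyl 3 0 (.weyl 2 0 (.weyl 1 0 (.weyl 0 0 (.weyl 2 0 (.weyl 1 0 (.weyl 2 0 (.hub 2)))))))))) (.kill 24 47 46 1 1 (.weyl 1 0 (.weyl 2 0 (.weyl 1 0 (.weyl 0 0 (.weyl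 2 0 (.weyl 1 0 (.weyl 2 0 (.hub 2)))))))))) (.split 46 (.split 47 (.weyl 1 0 (.weyl 2 0 (.weyl 1 0 (.weyl 0 0 (.weyl 2 0 (.weyl 3 0 (.weyl 2 0 (.weyl 1 0 (.weyl 2 0 (.hub 9)))))))))) (.weyl 1 0 (.weyl 2 0 (.weyl 1 0 (.weyl 0 0 (.weyl 2 0 (.weyl 3 0 (.weyl 2 0 (.weyl 1 0 (.weyl 0 0 (.weyl 2 0 (.weyl 1 0 (.hub 19))))))))))))) (.kill 24 47 46 1 1 (.weyl 1 0 (.weyl 2 0 (.weyl 1 0 (.weyl 3 0 (.weyl 2 0 (.weyl 1 0 (.weyl 0 0 (.weyl 2 0 (.weyl 1 0 (.weyl 3 0 (.weyl 2 0 (.weyl 1 0 (.hub 19))))))))))))))))) (.kill 39 44 34 1 1 (.split 45 (.kill 30 46 43 1 1 (.kill 31 47 43 1 1 (.weyl 0 0 (.weyl 2 0 (.weyl 1 0 (.weyl 2 0 (.hub 2))))))) (.kill 30 46 43 1 1 (.kill 31 47 43 1 1 (.weyl 0 0 (.weyl 2 0 (.weyl 1 0 (.weyl 2 0 (.hub 3)))))))))) (.split 43 (.kill 39 44 34 1 1 (.kill 30 45 42 1 1 (.split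 46 (.split 47 (.weyl 0 0 (.weyl 2 0 (.weyl 3 0 (.weyl 2 0 (.weyl 1 0 (.weyl 2 0 (.hub 9))))))) (.weyl 0 0 (.weyl 2 0 (.weyl 3 0 (.weyl 2 0 (.weyl 1 0 (.weyl 0 0 (.weyl 2 0 (.weyl 1 0 (.hub 19)))))))))) (.kill 24 47 46 1 1 (.weyl 1 0 (.weyl 2 0 (.weyl 1 0 (.weyl 0 0 (.weyl 2 0 (.weyl 1 0 (.weyl 2 0 (.hub 3)))))))))))) (.kill 39 44 34 1 1 (.kill 30 45 42 1 1 (.split 46 (.kill 31 47 43 1 1 (.weyl 3 0 (.weyl 2 0 (.weyl 1 0 (.weyl 0 0 (.weyl 2 0 (.weyl 1 0 (.weyl 3 0 (.weyl 2 0 (.weyl 1 0 (.hub 19))))))))))) (.kill 31 47 43 1 1 (.weyl 2 0 (.weyl 3 0 (.weyl 2 0 (.weyl 1 0 (.weyl 0 0 (.weyl 2 0 (.weyl 1 0 (.weyl 3 0 (.weyl 2 0 (.weyl 1 0 (.weyl 0 0 (.hub 21)))))))))))))))))) (.kill 24 42 41 1 1 (.split 43 (.kill 39 44 34 1 1 (.kill 31 45 41 1 1 (.split 46 (.split 47 (.weyl 0 0 (.weyl 2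 0 (.weyl 1 0 (.weyl 3 0 (.weyl 2 0 (.hub 9)))))) (.weyl 1 0 (.weyl 3 0 (.weyl 2 0 (.weyl 1 0 (.weyl 0 0 (.weyl 2 0 (.weyl 1 0 (.weyl 2 0 (.hub 3)))))))))) (.split 47 (.weyl 0 0 (.weyl 2 0 (.weyl 1 0 (.weyl 0 0 (.weyl 3 0 (.weyl 2 0 (.weyl 1 0 (.hub 19)))))))) (.weyl 0 0 (.weyl 2 0 (.weyl 1 0 (.weyl 0 0 (.weyl 3 0 (.weyl 2 0 (.weyl 1 0 (.weyl 0 0 (.weyl 2 0 (.hub 21)))))))))))))) (.kill 39 44 34 1 1 (.kill 31 45 41 1 1 (.kill 30 46 43 1 1 (.split 47 (.weyl 2 0 (.weyl 1 0 (.weyl 0 0 (.weyl 2 0 (.weyl 1 0 (.weyl 3 0 (.weyl 2 0 (.weyl 1 0 (.hub 19))))))))) (.weyl 2 0 (.weyl 1 0 (.weyl 0 0 (.weyl 2 0 (.weyl 1 0 (.weyl 3 0 (.weyl 2 0 (.weyl 1 0 (.weyl 0 0 (.weyl 2 0 (.hub 21))))))))))))))))))))))))) (.kill 27 34 33 1 1 (.kill 28 35 33 1 1 (.kill 29 36 33 1 1 (.zero 44 33 40 1 1 (.kill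 30 37 33 1 1 (.kill 31 38 33 1 1 (.kill 32 39 33 1 1 (.split 41 (.split 42 (.split 43 (.kill 40 44 33 1 1 (.split 45 (.split 46 (.split 47 (.weyl 1 0 (.weyl 0 0 (.hub 8))) (.weyl 3 0 (.weyl 2 0 (.weyl 1 0 (.weyl 0 0 (.weyl 2 0 (.weyl 1 0 (.weyl 2 0 (.hub 2))))))))) (.kill 24 47 46 1 1 (.weyl 2 0 (.weyl 1 0 (.weyl 0 0 (.weyl 2 0 (.weyl 1 0 (.weyl 2 0 (.hub 2))))))))) (.kill 25 46 45 1 1 (.kill 26 47 45 1 1 (.weyl 1 0 (.weyl 0 0 (.weyl 2 0 (.weyl 1 0 (.weyl 2 0 (.hub 2)))))))))) (.kill 40 44 33 1 1 (.split 45 (.split 46 (.split 47 (.weyl 2 0 (.weyl 1 0 (.weyl 0 0 (.weyl 2 0 (.weyl 3 0 (.weyl 2 0 (.weyl 1 0 (.weyl 2 0 (.hub 9))))))))) (.weyl 2 0 (.weyl 1 0 (.weyl 0 0 (.weyl 2 0 (.weyl 3 0 (.weyl 2 0 (.weyl 1 0 (.weyl 0 0 (.weyl 2 0 (.weyl 1 0 (.hub 19)))))))))))) (.kill 24 47 46 1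 1 (.weyl 2 0 (.weyl 1 0 (.weyl 3 0 (.weyl 2 0 (.weyl 1 0 (.weyl 0 0 (.weyl 2 0 (.weyl 1 0 (.weyl 3 0 (.weyl 2 0 (.weyl 1 0 (.hub 19)))))))))))))) (.kill 25 46 45 1 1 (.kill 26 47 45 1 1 (.weyl 1 0 (.weyl 0 0 (.weyl 2 0 (.weyl 1 0 (.weyl 2 0 (.hub 3))))))))))) (.kill 25 43 42 1 1 (.kill 40 44 33 1 1 (.split 45 (.split 46 (.split 47 (.weyl 1 0 (.weyl 0 0 (.weyl 2 0 (.weyl 3 0 (.weyl 2 0 (.weyl 1 0 (.weyl 2 0 (.hub 9)))))))) (.weyl 1 0 (.weyl 0 0 (.weyl 2 0 (.weyl 3 0 (.weyl 2 0 (.weyl 1 0 (.weyl 0 0 (.weyl 2 0 (.weyl 1 0 (.hub 19))))))))))) (.kill 24 47 46 1 1 (.weyl 2 0 (.weyl 1 0 (.weyl 0 0 (.weyl 2 0 (.weyl 1 0 (.weyl 2 0 (.hub 3))))))))) (.split 46 (.kill 26 47 45 1 1 (.weyl 1 0 (.weyl 3 0 (.weyl 2 0 (.weyl 1 0 (.weyl 0 0 (.weyl 2 0 (.weyl 1 0 (.weyl 3 0 (.weyl 2 0 (.weyl 1 0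 (.hub 19)))))))))))) (.kill 26 47 45 1 1 (.weyl 1 0 (.weyl 2 0 (.weyl 3 0 (.weyl 2 0 (.weyl 1 0 (.weyl 0 0 (.weyl 2 0 (.weyl 1 0 (.weyl 3 0 (.weyl 2 0 (.weyl 1 0 (.weyl 0 0 (.hub 21))))))))))))))))))) (.kill 24 42 41 1 1 (.kill 26 43 41 1 1 (.kill 40 44 33 1 1 (.split 45 (.split 46 (.split 47 (.weyl 1 0 (.weyl 0 0 (.weyl 2 0 (.weyl 1 0 (.weyl 3 0 (.weyl 2 0 (.hub 9))))))) (.weyl 3 0 (.weyl 2 0 (.weyl 1 0 (.weyl 0 0 (.weyl 2 0 (.weyl 1 0 (.weyl 2 0 (.hub 3))))))))) (.split 47 (.weyl 1 0 (.weyl 0 0 (.weyl 2 0 (.weyl 1 0 (.weyl 0 0 (.weyl 3 0 (.weyl 2 0 (.weyl 1 0 (.hub 19))))))))) (.weyl 1 0 (.weyl 0 0 (.weyl 2 0 (.weyl 1 0 (.weyl 0 0 (.weyl 3 0 (.weyl 2 0 (.weyl 1 0 (.weyl 0 0 (.weyl 2 0 (.hub 21))))))))))))) (.kill 25 46 45 1 1 (.split 47 (.weyl 1 0 (.weyl 2 0 (.weyl 1 0 (.weyl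 0 0 (.weyl 2 0 (.weyl 1 0 (.weyl 3 0 (.weyl 2 0 (.weyl 1 0 (.hub 19)))))))))) (.weyl 1 0 (.weyl 2 0 (.weyl 1 0 (.weyl 0 0 (.weyl 2 0 (.weyl 1 0 (.weyl 3 0 (.weyl 2 0 (.weyl 1 0 (.weyl 0 0 (.weyl 2 0 (.hub 21))))))))))))))))))))))))))

/-- Certificate 12. -/
def tree12 : Tree :=
  .split 27 (.split 28 (.split 29 (.split 30 (.split 31 (.split 32 (.hub 22) (.weyl 2 281466386776064 (.weyl 1 281466386776064 (.weyl 2 281466386776064 (.hub 11))))) (.zero 38 31 33 1 1 (.kill 25 32 31 1 1 (.weyl 1 281466386776064 (.weyl 2 281466386776064 (.hub 11)))))) (.zero 37 30 33 1 1 (.kill 24 31 30 1 1 (.kill 26 32 30 1 1 (.weyl 1 281466386776064 (.weyl 3 281466386776064 (.weyl 2 281466386776064 (.hub 11)))))))) (.zero 36 29 33 1 1 (.zero 38 29 34 1 1 (.zero 39 29 35 1 1 (.split 30 (.zero 40 29 37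 1 1 (.zero 44 29 41 1 1 (.split 31 (.split 32 (.weyl 3 281466386776064 (.weyl 2 281466386776064 (.hub 20))) (.weyl 2 281466386776064 (.weyl 1 281466386776064 (.weyl 2 281466386776064 (.hub 17))))) (.kill 25 32 31 1 1 (.weyl 1 281466386776064 (.weyl 2 281466386776064 (.hub 17))))))) (.kill 24 31 30 1 1 (.zero 45 30 42 1 1 (.kill 26 32 30 1 1 (.weyl 1 281466386776064 (.weyl 3 281466386776064 (.weyl 2 281466386776064 (.hub 13)))))))))))) (.zero 35 28 33 1 1 (.zero 37 28 34 1 1 (.kill 24 29 28 1 1 (.zero 39 28 36 1 1 (.split 30 (.split 31 (.zero 40 28 38 1 1 (.zero 44 28 42 1 1 (.split 32 (.weyl 2 281466386776064 (.hub 20)) (.weyl 3 281466386776064 (.weyl 2 281466386776064 (.weyl 1 281466386776064 (.weyl 2 281466386776064 (.hub 17)))))))) (.zero 45 31 41 1 1 (.kill 25 32 31 1 1 (.weyl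 1 281466386776064 (.weyl 2 281466386776064 (.hub 13)))))) (.split 31 (.zero 40 28 38 1 1 (.zero 44 28 42 1 1 (.kill 26 32 30 1 1 (.weyl 1 281466386776064 (.weyl 3 281466386776064 (.weyl 2 281466386776064 (.hub 17))))))) (.kill 26 32 30 1 1 (.weyl 2 281466386776064 (.weyl 3 281466386776064 (.weyl 2 281466386776064 (.weyl 1 281466386776064 (.weyl 2 281466386776064 (.hub 18)))))))))))))) (.zero 34 27 33 1 1 (.kill 25 28 27 1 1 (.zero 37 27 35 1 1 (.kill 26 29 27 1 1 (.zero 38 27 36 1 1 (.split 30 (.split 31 (.split 32 (.hub 20) (.weyl 2 281466386776064 (.weyl 1 281466386776064 (.weyl 2 281466386776064 (.hub 13))))) (.split 32 (.weyl 2 281466386776064 (.weyl 3 281466386776064 (.weyl 2 281466386776064 (.weyl 1 281466386776064 (.weyl 2 281466386776064 (.hub 17)))))) (.weyl 2 281466386776064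 (.weyl 1 281466386776064 (.weyl 2 281466386776064 (.hub 18)))))) (.kill 24 31 30 1 1 (.split 32 (.weyl 2 281466386776064 (.weyl 1 281466386776064 (.weyl 3 281466386776064 (.weyl 2 281466386776064 (.hub 17))))) (.weyl 3 281466386776064 (.weyl 2 281466386776064 (.weyl 1 281466386776064 (.weyl 2 281466386776064 (.hub 18)))))))))))))

/-- Certificate 13. -/
def tree13 : Tree :=
  .split 25 (.split 26 (.hub 23) (.weyl 2 281474842492928 (.hub 15))) (.zero 28 25 27 1 1 (.kill 24 26 25 1 1 (.weyl 3 281474842492928 (.weyl 2 281474842492928 (.hub 15)))))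

/-- Certificate 14. -/
def tree14 : Tree :=
  .split 24 (.hub 24) (.hub 16)

/-- The certificates in order. -/
def entries : List (ℕ × ℕ × Tree) := [(16777216, 281466386776064, tree0), (4311744512, 281466386776064, tree1), (150994944, 281466386776064, tree2), (4445962240, 281466386776064, tree3), (16777216, 281474842492928, tree4), (16777216, 281474943156224, tree5), (553648128, 281466386776064, tree6), (2298478592, 281466386776064, tree7), (274961793024, 0, tree8), (134217728, 281466386776064, tree9), (551987183616, 0, tree10), (0, 281466386776064, tree11), (0, 281474842492928, tree12), (0, 281474943156224, tree13), (0, 281474959933440, tree14)]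

theorem chain : Chain tab simples terminals entries :=
  ⟨by decide +kernel,
    by decide +kernel,
    by decide +kernel,
    by decide +kernel,
    by decide +kernel,
    by decide +kernel,
    by decide +kernel,
    by decide +kernel,
    by decide +kernel,
    by decide +kernel,
    by decide +kernel,
    by decide +kernel,
    by decide +kernel,
    by decide +kernel,
    by decide +kernel, trivial⟩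

/-- Scaling data of the terminal patterns. -/
def scales : List (ℕ × List (ℕ × List ℤ)) := [(4445962240, [(24, [0, 0, 0, 1]), (27, [0, 1, 0, 0]), (32, [0, 1, 2, 1])]), (35188818051072, [(24, [0, 0, 0, 1]), (27, [-2, -2, -4, -2]), (32, [0, 1, 2, 1]), (45, [2, 3, 4, 2])]), (150994944, [(24, [0, 0, 0, 1]), (27, [0, 1, 0, 0])]), (35184523083776, [(24, [0, 0, 0, 1]), (27, [-2, 0, 0, 0]), (45, [2, 1, 0, 0])]), (4311744512, [(24, [0, 0, 0, 1]), (32, [-1, 0, 0, 0])]), (8800404766720, [(24, [0, 0, 0, 1]), (32, [-1, -1, 0, 0]), (43, [0, -1, 0, 0])]), (43984776855552, [(24, [0, 0, 0, 1]), (32, [0, 1, 2, 1]), (43, [1, 1, 2, 1]), (45, [1, 2, 2, 1])]), (16777216, [(24, [0, 0, 0, 1])]), (134217728, [(27, [0, 1, 0, 0])]), (553648128, [(24, [0, 0, -2, 0]), (29, [-2, 0, 0, 0])])]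

theorem scales_ok : scales.all (fun p => scaleOK chevF4 tab p.1 p.2) = true := by decide +kernel

/-- Conjugations between the words. -/
def links : List (List ℕ × List Move × List ℕ) := [([24], [.n 2, .n 1, .n 2, .n 0, .n 1, .n 2, .n 3], [47]), ([27], [.n 2, .n 3, .n 0, .n 1, .n 2, .n 1, .n 0], [44]), ([24, 29], [.n 0, .n 1, .n 2, .n 1, .n 2, .n 0, .n 1, .n 2, .n 3], [44, 47]), ([24, 32], [.x 28, .n 0, .n 1, .n 2, .n 1, .n 2, .n 0, .n 1, .n 2, .n 3], [44, 47]), ([24, 27], [.n 0, .n 2, .n 3, .n 1, .n 2, .n 3, .n 0, .n 1, .n 2, .n 1], [39, 45]), ([24, 32, 43], [.x 33, .x 28, .n 1, .n 0, .n 2, .n 1, .n 2, .n 0, .n 1, .x 27], [39, 45]), ([24, 27, 45], [.x 37, .x 36, .n 0, .n 2, .n 3, .n 1, .n 2, .n 3, .n 0, .n 1, .n 2, .n 1], [39, 45]), ([24, 27, 32], [.x 28, .x 26, .x 30, .n 0, .n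 2, .n 3, .n 1, .n 2, .n 3, .n 0, .n 1, .n 2, .n 1], [39, 45]), ([24, 27, 32, 45], [.x 37, .x 36, .x 28, .x 26, .x 30, .n 0, .n 2, .n 3, .n 1, .n 2, .n 3, .n 0, .n 1, .n 2, .n 1], [39, 45]), ([24, 32, 43, 45], [.x 33, .x 28, .n 2, .n 1, .n 2, .n 0, .x 33, .x 27, .x 41, .x 31, .n 1, .n 2, .n 0, .n 1, .n 2], [39, 45])]

theorem links_ok : links.all (fun p => linkOK tab simples 11 p.2.1 p.1 p.2.2) = true := by decide +kernel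

end CfsgLib.OutAut.InvCheck.F4
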