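import Mathlib
import Cfsg.Agent.Lib.OutAut.InvCheck.E8.Rank239
import Cfsg.Agent.Lib.OutAut.InvCheck.E8.Rank232
import Cfsg.Agent.Lib.OutAut.InvCheck.E8.Rank218
import Cfsg.Agent.Lib.OutAut.InvCheck.E8.Rank213

/-!
The ranks of `y - 1` for representatives of the classes of involutions of `E8`.
-/
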