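import Mathlib
import Cfsg.Agent.Lib.OutAut.InvCheck.Rank
import Cfsg.Agent.Lib.OutAut.InvCheck.Fast

/-!
The rank certificate checker written with bare recursors.
-/

set_option autoImplicit false

noncomputable section

namespace CfsgLib.OutAut.InvCheck.Fast

open Cfsg.Lie CfsgLib.Chevalley

/-- A row times a matrix. -/
def rowMulR (a : ℕ) (l : List ℕ) : ℕ :=
  List.rec (fun _ => 0)
    (fun b _ ih a => Nat.rec 0
      (fun a' _ => Nat.xor (bif Nat.beq (Nat.mod (a' + 1) 2) 1 then b else 0) (ih (Nat.div (a' + 1) 2))) a)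
    l a

theorem rowMulR_eq : ∀ (l : List ℕ) (a : ℕ), rowMulR a l = rowMul a l
  | [], a => by
    cases a <;> rfl
  | b :: l, 0 => rfl
  | b :: l, a + 1 => by
    show Nat.xor (bif Nat.beq ((a + 1) % 2) 1 then b else 0) (rowMulR ((a + 1) / 2) l) = _
    rw [rowMulR_eq l, rowMul, beq_eq]
    cases (a + 1) % 2 == 1 <;> rfl

/-- The product. -/
def bmulR (X Y : List ℕ) : List ℕ := foldR (fun a acc => rowMulR a Y :: acc) [] X

theorem bmulR_eq (X Y : List ℕ) : bmulR X Y = bmul X Y := by
  rw [bmulR, foldR_eq, bmul]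
  induction X with
  | nil => rfl
  | cons a X ih => simp [ih, rowMulR_eq]

/-- The rows of a sparse matrix modulo two. -/
def rowsR (n : ℕ) (L : Sparse.SMat) : List ℕ :=
  foldR (fun i out => foldR (fun e acc =>
    bif Nat.beq e.1 i && e.2.2 % 2 != 0 then Nat.xor acc (2 ^ e.2.1) else acc) 0 L :: out) [] (List.range n)

theorem rowsR_eq (n : ℕ) (L : Sparse.SMat) : rowsR n L = rowsOf n L := by
  rw [rowsR, rowsOf, foldR_eq]
  induction List.range n with
  | nil => rfl
  | cons i l ih =>
    rw [List.foldr_cons, ih, List.map_cons, foldR_eq]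
    congr 1
    congr 1
    funext e acc
    rw [beq_eq]
    cases e.1 == i && e.2.2 % 2 != 0 <;> rfl

variable (D : ChevalleyDatum)

/-- The recorded rows of the factors and of the partial products are right. -/
def stepsR (I : List ℕ) (w : List ℕ) (steps : List (List ℕ × List ℕ)) : Bool :=
  List.rec (fun ps => match ps with | [] => true | _ :: _ => false)
    (fun r _ ih ps => match ps with
      | [] => false
      | p :: ps => rowsR (D.rank + D.nroots) (xList D r) == p.1 &&
          bmulR (badd I p.1) (topRows I ps) == p.2 && ih ps) w steps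

theorem stepsR_eq (I : List ℕ) : ∀ (w : List ℕ) (steps : List (List ℕ × List ℕ)),
    stepsR D I w steps = stepsOK D I w steps
  | [], [] => rfl
  | [], _ :: _ => rfl
  | _ :: _, [] => rfl
  | r :: w, p :: ps => by
    show (rowsR (D.rank + D.nroots) (xList D r) == p.1 &&
      bmulR (badd I p.1) (topRows I ps) == p.2 && stepsR D I w ps) = _
    rw [rowsR_eq, bmulR_eq, stepsR_eq I w ps]
    rfl

/-- `rankOK`. -/
def rankR (w : List ℕ) (k : ℕ) (I : List ℕ) (steps : List (List ℕ × List ℕ))
    (M Dk L R L' R' : List ℕ) : Bool :=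
  let n := D.rank + D.nroots
  L.length == n && R.length == n && L'.length == n && R'.length == n && Nat.ble k n &&
    w.all (fun r => Nat.blt r D.nroots) && bdiag n n == I && bdiag n k == Dk &&
    stepsR D I w steps && badd I (topRows I steps) == M &&
    bmulR (bmulR L Dk) R == M && bmulR (bmulR L' M) R' == Dk

theorem rankR_eq (w : List ℕ) (k : ℕ) (I : List ℕ) (steps : List (List ℕ × List ℕ))
    (M Dk L R L' R' : List ℕ) :
    rankR D w k I steps M Dk L R L' R' = rankOK D w k I steps M Dk L R L' R' := by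
  simp only [rankR, rankOK, stepsR_eq, bmulR_eq]

variable {D} {A : Aux} {F : Type*} [Field F] [CharP F 2]

/-- A certified rank. -/
theorem rank_word_fast (h : Full D A) {w : List ℕ} {k : ℕ} {I : List ℕ}
    {steps : List (List ℕ × List ℕ)} {M Dk L R L' R' : List ℕ}
    (hok : rankR D w k I steps M Dk L R L' R' = true) :
    (((wordU h w : GL D.Idx F) : Matrix D.Idx D.Idx F) - 1).rank = k :=
  rank_word h (rankR_eq D w k I steps M Dk L R L' R' ▸ hok)

end CfsgLib.OutAut.InvCheck.Fast
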